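import Cfsg.Agent.Lib.EightFour.NotSix

/-!
# The second configuration: two commuting copies of the alternating group of degree five
-/

set_option autoImplicit false
set_option linter.style.haveILetI false
set_option linter.unusedSectionVars false
set_option maxRecDepth 100000
set_option synthInstance.maxSize 10000

namespace Cfsg.Agent.EightFour

open Subgroup
open EightLocal (A5 sigma c3)

/-- A double transposition moving the pair to the block. -/
def a5 : A5 := ⟨Equiv.swap 2 0 * Equiv.swap 3 1, by rw [Equiv.Perm.mem_alternatingGroup]; decide +kernel⟩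

/-- The double transposition inverting the three cycle. -/
def r5 : A5 := ⟨Equiv.swap 0 1 * Equiv.swap 2 3, by rw [Equiv.Perm.mem_alternatingGroup]; decide +kernel⟩

/-- The second factor as a subgroup of the pairs. -/
def emb5 : A5 →* L := (MonoidHom.inr _ _ : Equiv.Perm (Fin 5) →* L).comp (alternatingGroup (Fin 5)).subtype

theorem emb5_facts : emb5 sigma = wL ∧ emb5 a5 = aL ∧ emb5 r5 = rL ∧ a5 * a5 = 1 ∧ r5 * r5 = 1 ∧
    a5 * r5 = r5 * a5 ∧ a5 ≠ 1 ∧ r5 ≠ 1 ∧ a5 ≠ r5 ∧ orderOf (sigma : A5) ∣ 3 ∧ sigma ≠ 1 ∧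
    (sigma * a5) ^ 5 = 1 ∧ sigma * a5 ≠ 1 ∧
    (a5 * sigma * a5 * sigma⁻¹) ^ 5 = 1 ∧ a5 * sigma * a5 * sigma⁻¹ ≠ 1 ∧ aL * zL = zL * aL := by
  refine ⟨?_, ?_, ?_, ?_, ?_, ?_, ?_, ?_, ?_, orderOf_dvd_of_pow_eq_one ?_, ?_, ?_, ?_, ?_, ?_, ?_⟩ <;>
    decide +kernel

theorem emb5_comm : ∀ x : A5, emb5 x * sL = sL * emb5 x ∧ emb5 x * zL = zL * emb5 x := fun x =>
  ⟨Prod.ext (by simp [emb5, sL]) (by simp [emb5, sL]),
    Prod.ext (by simp [emb5, zL]) (by simp [emb5, zL])⟩

theorem emb5_injective : Function.Injective emb5 := fun x y e =>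
  Subtype.ext (congrArg Prod.snd e)

/-- A subgroup of order divisible by fifteen is everything. -/
theorem a5_top (S : Subgroup A5) (h : 15 ∣ Nat.card S) : S = ⊤ := by
  classical
  haveI := alternatingGroup.isSimpleGroup (α := Fin 5) (by simp)
  have h60 : Nat.card A5 = 60 := by rw [Nat.card_eq_fintype_card]; decide +kernel
  have hm := S.card_mul_index
  rw [h60] at hm
  have hi : S.index ∣ 4 := by
    obtain ⟨c, hc⟩ := h
    rw [hc, mul_assoc] at hm
    exact ⟨c, by rw [mul_comm]; omega⟩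
  rcases (Subgroup.normalCore_normal S).eq_bot_or_eq_top with hb | ht
  · exfalso
    have hinj : Function.Injective (MulAction.toPermHom A5 (A5 ⧸ S)) :=
      (MonoidHom.ker_eq_bot_iff _).1 (by rw [← normalCore_eq_ker]; exact hb)
    have hd := card_dvd_of_injective _ hinj
    rw [h60, Nat.card_perm, ← index_eq_card] at hd
    have hle := Nat.le_of_dvd (by norm_num) hi
    interval_cases S.index <;> first
      | norm_num [Nat.factorial] at hd
      | norm_num at hi
  · exact eq_top_iff.2 (ht ▸ normalCore_le S)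

theorem a5_top_of (S : Subgroup A5) {x : A5} (h1 : sigma ∈ S) (hx : x ∈ S) (h5 : x ^ 5 = 1) (hne : x ≠ 1) :
    S = ⊤ := by
  haveI : Fact (Nat.Prime 5) := ⟨by norm_num⟩
  haveI : Fact (Nat.Prime 3) := ⟨Nat.prime_three⟩
  refine a5_top S (Nat.Coprime.mul_dvd_of_dvd_of_dvd (by norm_num : Nat.Coprime 3 5) ?_ ?_)
  · have := orderOf_dvd_natCard (⟨sigma, h1⟩ : S)
    rwa [Subgroup.orderOf_mk, orderOf_eq_prime (show (sigma : A5) ^ 3 = 1 by decide +kernel)
      emb5_facts.2.2.2.2.2.2.2.2.2.2.1] at this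
  · have := orderOf_dvd_natCard (⟨x, hx⟩ : S)
    rwa [Subgroup.orderOf_mk, orderOf_eq_prime h5 hne] at this

theorem alt_center : ∀ x : A5, x * sigma = sigma * x → x * a5 = a5 * x → x = 1 := by decide +kernel

theorem alt_invol : ∀ x : A5, x * x = 1 → x ≠ 1 → ∃ c : A5, c * x * c⁻¹ = r5 := by decide +kernel

theorem alt_outer : ∀ x : A5, ¬ ((x : Equiv.Perm (Fin 5)) * (sigma : Equiv.Perm (Fin 5)) * (x : Equiv.Perm (Fin 5))⁻¹ =
    Equiv.swap 0 1 * (sigma : Equiv.Perm (Fin 5)) * Equiv.swap 0 1 ∧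
    (x : Equiv.Perm (Fin 5)) * (a5 : Equiv.Perm (Fin 5)) * (x : Equiv.Perm (Fin 5))⁻¹ =
    Equiv.swap 0 1 * (a5 : Equiv.Perm (Fin 5)) * Equiv.swap 0 1) := by
  decide +kernel

theorem odd_three : ∀ x : A5, (x : Equiv.Perm (Fin 5)) * Equiv.swap 0 1 * ((x : Equiv.Perm (Fin 5)) * Equiv.swap 0 1) = 1 →
    ∃ c : A5, c ^ 3 = 1 ∧ c ≠ 1 ∧
      (c : Equiv.Perm (Fin 5)) * ((x : Equiv.Perm (Fin 5)) * Equiv.swap 0 1) =
        (x : Equiv.Perm (Fin 5)) * Equiv.swap 0 1 * (c : Equiv.Perm (Fin 5)) := by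
  decide +kernel

theorem cent_M : ∀ p : L, p * sL = sL * p → p * rL = rL * p → p * iL = iL * p → NormP p →
    p ∈ [(1 : L), sL, rL, sL * rL, iL, sL * iL, rL * iL, sL * rL * iL] := by
  decide +kernel

theorem cent_M' : ∀ p ∈ [(1 : L), sL, rL, sL * rL, iL, sL * iL, rL * iL, sL * rL * iL], aL * p * aL = p →
    p = 1 ∨ p = sL ∨ p = rL ∨ p = sL * rL := by
  decide +kernel

theorem no_cross : ∀ p : L, p * sL ≠ rL * p := fun p h => by
  have h1 : p.1 * Equiv.swap 0 1 = p.1 := by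
    have := congrArg Prod.fst h
    simpa [sL, rL] using this
  have h2 : Equiv.swap (0 : Fin 3) 1 = 1 := mul_left_cancel (h1.trans (mul_one _).symm)
  exact absurd h2 (by decide)

theorem first_gens : zL * sL * zL⁻¹ = ((Equiv.swap 1 2 : Equiv.Perm (Fin 3)), (1 : Equiv.Perm (Fin 5))) ∧
    sL ≠ rL ∧ sL ≠ aL * rL ∧ sL ≠ emb5 r5 := by
  decide +kernel

variable {G : Type*} [Group G] [Finite G] {P : Sylow 3 G} {φ : L →* G} {t : G}

/-- The first copy. -/
def ιA (φ : L →* G) : A5 →* G := φ.comp emb5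

/-- The second copy. -/
def ιB (φ : L →* G) (t : G) : A5 →* G := (MulAut.conj t).toMonoidHom.comp (ιA φ)

namespace Frame

variable (D : Frame P φ t)
include D

theorem ιA_injective : Function.Injective (ιA φ) := D.inj.comp emb5_injective

theorem ιB_eq (y : A5) : ιB φ t y = t * ιA φ y * t := by
  show t * ιA φ y * t⁻¹ = _
  rw [D.tinv]

theorem ιA_gens : ιA φ sigma = φ wL ∧ ιA φ a5 = φ aL ∧ ιA φ r5 = φ rL :=
  ⟨congrArg φ emb5_facts.1, congrArg φ emb5_facts.2.1, congrArg φ emb5_facts.2.2.1⟩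

theorem commute_copies (hN : ∀ g, g * φ iL = φ iL * g → g ∈ normalizer ((P : Subgroup G) : Set G))
    (hE : t * φ sL * t = φ rL) : ∀ x y : A5, Commute (ιA φ x) (ιB φ t y) := by
  obtain ⟨eσ, ea, er⟩ := D.ιA_gens
  obtain ⟨-, -, -, -, -, -, -, -, -, -, -, hσa5, hσane, hx5, hxne, haz⟩ := emb5_facts
  obtain ⟨haa, hai, har, has, -, hri, hir, hsr, -⟩ := alt_facts
  obtain ⟨hss, -, hii, hrr, -, -, -, -, hsi, -⟩ := small_facts
  obtain ⟨a, hadef⟩ : ∃ a, a = φ aL := ⟨_, rfl⟩
  rw [← hadef] at ea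
  obtain ⟨v, hv⟩ : ∃ v, v = t * a * t := ⟨_, rfl⟩
  have hA2 : a * a = 1 := by rw [hadef, ← map_mul, haa, map_one]
  have hv2 : v * v = 1 := by rw [hv, ← D.tmul, hA2, mul_one, D.t2]
  have cj : ∀ {x : G}, x * x = 1 → ∀ y z : G, x * (y * z) * x = x * y * x * (x * z * x) := fun {x} hx y z => by
    rw [show x * y * x * (x * z * x) = x * y * (x * x) * z * x by group, hx]; group
  have fixed : ∀ {x y : G}, x * x = 1 → x * y * x = y → x * y = y * x := fun {x y} hx h => by
    conv_rhs => rw [← h]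
    rw [mul_assoc, hx, mul_one]
  have htr : t * φ rL * t = φ sL := by rw [← hE, D.ttwice]
  have au : a * φ sL * a = φ sL := by rw [hadef, ← map_mul, ← map_mul, has]
  have ar : a * φ rL * a = φ rL := by rw [hadef, ← map_mul, ← map_mul, har]
  have ai : a * φ iL * a = φ rL * φ iL := by rw [hadef, ← map_mul, ← map_mul, hai, ← map_mul, hri]
  have vu : v * φ sL * v = φ sL := by
    rw [hv, ← htr, ← D.tmul, ← D.tmul, ar]
  have vr : v * φ rL * v = φ rL := by
    rw [hv, ← hE, ← D.tmul, ← D.tmul, au]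
  have vi : v * φ iL * v = φ sL * φ iL := by
    conv_lhs => rw [hv, ← D.ti, ← D.tmul, ← D.tmul, ai]
    rw [D.tmul, htr, D.ti]
  have vw : v * φ wL * v = φ wL := by
    rw [hv, ← D.tz, ← D.tmul, ← D.tmul]
    congr 2
    rw [hadef, ← map_mul, ← map_mul, haz, mul_assoc, haa, mul_one]
  obtain ⟨m, hm⟩ : ∃ m, m = a * v * a * v := ⟨_, rfl⟩
  have mconj : ∀ x : G, m * x * m⁻¹ = a * (v * (a * (v * x * v) * a) * v) * a := fun x => by
    rw [hm, mul_inv_rev, mul_inv_rev, mul_inv_rev, inv_eq_of_mul_eq_one_left hA2,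
      inv_eq_of_mul_eq_one_left hv2]
    group
  have mi : m * φ iL = φ iL * m := by
    refine mul_inv_eq_iff_eq_mul.1 ?_
    rw [mconj, vi, cj hA2 (φ sL) (φ iL), au, ai, cj hv2 (φ sL) (φ rL * φ iL), vu, cj hv2 (φ rL) (φ iL), vr, vi]
    rw [show φ sL * (φ rL * (φ sL * φ iL)) = φ rL * φ iL by
      rw [← mul_assoc, ← mul_assoc, ← map_mul, ← map_mul, hsr, mul_assoc rL, hss, mul_one]]
    rw [cj hA2 (φ rL) (φ iL), ar, ai, ← mul_assoc, ← map_mul, hrr, map_one, one_mul]
  have mu : m * φ sL = φ sL * m := mul_inv_eq_iff_eq_mul.1 (by rw [mconj, vu, au, vu, au])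
  have mr : m * φ rL = φ rL * m := mul_inv_eq_iff_eq_mul.1 (by rw [mconj, vr, ar, vr, ar])
  -- `m` lies in the elementary group
  obtain ⟨p, hp, hpm⟩ : ∃ p ∈ [(1 : L), sL, rL, sL * rL, iL, sL * iL, rL * iL, sL * rL * iL], φ p = m := by
    obtain ⟨p, hp, e | e⟩ := D.norm_P (hN m mi)
    · refine ⟨p, cent_M p (D.inj ?_) (D.inj ?_) (D.inj ?_) hp, e.symm⟩ <;> rw [map_mul, map_mul, ← e]
      exacts [mu, mr, mi]
    · exfalso
      refine no_cross p (D.inj ?_)
      rw [e] at mu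
      rw [map_mul, map_mul, ← hE]
      calc φ p * φ sL = t * (t * φ p * φ sL) := by
            rw [show t * (t * φ p * φ sL) = t * t * φ p * φ sL by group, D.t2, one_mul]
        _ = t * φ sL * t * φ p := by rw [mu]; group
  have hm2 : m * m = 1 := by
    have key : ∀ q ∈ [(1 : L), sL, rL, sL * rL, iL, sL * iL, rL * iL, sL * rL * iL], q * q = 1 := by
      decide +kernel
    rw [← hpm, ← map_mul, key p hp, map_one]
  have hminv : m⁻¹ = v * a * v * a := by
    rw [hm, mul_inv_rev, mul_inv_rev, mul_inv_rev, inv_eq_of_mul_eq_one_left hA2,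
      inv_eq_of_mul_eq_one_left hv2]
    group
  have hm' : v * a * v * a = m := by rw [← hminv, inv_eq_of_mul_eq_one_left hm2]
  have ham : a * m * a = m := by
    conv_rhs => rw [← hm']
    rw [hm, show a * (a * v * a * v) * a = a * a * (v * a * v * a) by group, hA2, one_mul]
  have htm : t * m * t = m := by
    conv_rhs => rw [← hm']
    rw [hm, D.tmul, D.tmul, D.tmul, show t * v * t = a by rw [hv, D.ttwice], ← hv]
  have hcases : p = 1 ∨ p = sL * rL := by
    rcases cent_M' p hp (D.inj (by rw [map_mul, map_mul, hpm, ← hadef]; exact ham)) with e | e | e | e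
    · exact Or.inl e
    · subst e
      rw [← hpm, hE] at htm
      exact absurd (D.inj htm).symm first_gens.2.1
    · subst e
      rw [← hpm, htr] at htm
      exact absurd (D.inj htm) first_gens.2.1
    · exact Or.inr e
  have hav : a * v = v * a := by
    rcases hcases with e | e
    · rw [e, map_one] at hpm
      calc a * v = a * v * (a * v * a * v)⁻¹ := by rw [← hm, ← hpm, inv_one, mul_one]
        _ = v⁻¹ * a⁻¹ := by group
        _ = v * a := by rw [inv_eq_of_mul_eq_one_left hA2, inv_eq_of_mul_eq_one_left hv2]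
    · exfalso
      -- then `v` would normalize the first copy
      rw [e, map_mul] at hpm
      have hvav : v * a * v = a * (φ sL * φ rL) := by
        rw [hpm, hm, show a * (a * v * a * v) = a * a * (v * a * v) by group, hA2, one_mul]
      let S : Subgroup A5 := (ιA φ).range.comap ((MulAut.conj v).toMonoidHom.comp (ιA φ))
      have hS : ∀ y : A5, y ∈ S ↔ v * ιA φ y * v ∈ (ιA φ).range := fun y => by
        rw [Subgroup.mem_comap]
        change v * ιA φ y * v⁻¹ ∈ _ ↔ _
        rw [inv_eq_of_mul_eq_one_left hv2]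
      have hcomm : ∀ y : A5, ιA φ y * φ sL = φ sL * ιA φ y := fun y => by
        rw [show ιA φ y = φ (emb5 y) from rfl, ← map_mul, (emb5_comm y).1, map_mul]
      have h1 : sigma ∈ S := (hS _).2 ⟨sigma, by rw [eσ, vw]⟩
      have h2 : a5 * sigma * a5 * sigma⁻¹ ∈ S := by
        refine (hS _).2 ⟨a5 * r5 * sigma * (a5 * r5) * sigma⁻¹, ?_⟩
        simp only [map_mul, map_inv, ea, er, eσ]
        have hvwi : v * (φ wL)⁻¹ * v = (φ wL)⁻¹ := by
          conv_rhs => rw [← vw]
          rw [mul_inv_rev, mul_inv_rev, inv_eq_of_mul_eq_one_left hv2, mul_assoc]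
        rw [cj hv2, cj hv2, cj hv2, hvwi, vw, hvav]
        have hu : Commute (φ sL) (φ rL) := by
          show φ sL * φ rL = φ rL * φ sL
          rw [← map_mul, hsr, map_mul]
        have hua : Commute (φ sL) a := (fixed hA2 au).symm
        have huw : Commute (φ sL) (φ wL) := by rw [← eσ]; exact (hcomm _).symm
        have hu1 : Commute (φ sL) (a * φ rL * φ wL) := (hua.mul_right hu).mul_right huw
        symm
        calc a * (φ sL * φ rL) * φ wL * (a * (φ sL * φ rL)) * (φ wL)⁻¹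
            = φ sL * (a * φ rL * φ wL) * (φ sL * (a * φ rL)) * (φ wL)⁻¹ := by
              rw [← mul_assoc a (φ sL), ← hua.eq]; group
          _ = (a * φ rL * φ wL) * (φ sL * φ sL) * (a * φ rL) * (φ wL)⁻¹ := by rw [hu1.eq]; group
          _ = a * φ rL * φ wL * (a * φ rL) * (φ wL)⁻¹ := by rw [← map_mul, hss, map_one, mul_one]
      have htop := a5_top_of S h1 h2 hx5 hxne
      obtain ⟨y, hy⟩ := (hS a5).1 (htop ▸ mem_top _)
      rw [ea, hvav, show ιA φ y = φ (emb5 y) from rfl, hadef, ← map_mul, ← map_mul] at hy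
      have h' := congrArg Prod.fst (D.inj hy)
      exact absurd (show (1 : Equiv.Perm (Fin 3)) = Equiv.swap 0 1 by simpa [emb5, aL, sL, rL] using h')
        (by decide)
  -- the copies commute
  have hvA : ∀ y : A5, Commute (ιA φ y) v := by
    let S : Subgroup A5 := (centralizer ({v} : Set G)).comap (ιA φ)
    have hS : ∀ y : A5, y ∈ S ↔ Commute (ιA φ y) v := fun y => mem_centralizer_singleton_iff
    have h1 : sigma ∈ S := (hS _).2 (by rw [eσ]; exact (fixed hv2 vw).symm)
    have h2 : a5 ∈ S := (hS _).2 (by rw [ea]; exact hav)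
    have htop := a5_top_of S h1 (mul_mem h1 h2) hσa5 hσane
    exact fun y => (hS y).1 (htop ▸ mem_top y)
  intro x y
  let S : Subgroup A5 := (centralizer ({ιA φ x} : Set G)).comap (ιB φ t)
  have hS : ∀ y : A5, y ∈ S ↔ Commute (ιB φ t y) (ιA φ x) := fun y => mem_centralizer_singleton_iff
  have h1 : sigma ∈ S := (hS _).2 (by
    rw [D.ιB_eq, eσ, D.tw]
    show φ zL * φ (emb5 x) = φ (emb5 x) * φ zL
    rw [← map_mul, ← (emb5_comm x).2, map_mul])
  have h2 : a5 ∈ S := (hS _).2 (by rw [D.ιB_eq, ea]; rw [← hv]; exact (hvA x).symm)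
  have htop := a5_top_of S h1 (mul_mem h1 h2) hσa5 hσane
  exact ((hS y).1 (htop ▸ mem_top y)).symm

end Frame

end Cfsg.Agent.EightFour
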