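import Cfsg.Agent.Lib.EightFour.AltSplit
import Cfsg.Agent.Lib.Transfer.Fusion
import Cfsg.Agent.Lib.Coprime.Generation

/-!
# The second configuration: centralizers of the involutions of the product
-/

set_option autoImplicit false
set_option linter.style.haveILetI false
set_option linter.unusedSectionVars false
set_option maxRecDepth 100000
set_option synthInstance.maxSize 10000

namespace Cfsg.Agent.EightFour

open Subgroup
open EightLocal (A5 c3)

/-- A three cycle normalizing the four group. -/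
def c5 : A5 := ⟨Equiv.swap 1 2 * Equiv.swap 2 3, by rw [Equiv.Perm.mem_alternatingGroup]; decide +kernel⟩

theorem four5_elems : ∀ x : A5, x * r5 = r5 * x → x = 1 ∨ x = r5 ∨ x = a5 ∨ x = r5 * a5 := by decide +kernel

theorem four5_orbit : ∀ f : A5, f * r5 = r5 * f → f ≠ 1 →
    (c5 * f * c5⁻¹ * r5 = r5 * (c5 * f * c5⁻¹) ∧ c5 * f * c5⁻¹ ≠ 1 ∧ c5 * f * c5⁻¹ ≠ f ∧
      c5 * (c5 * f * c5⁻¹) * c5⁻¹ ≠ 1 ∧ c5 * (c5 * f * c5⁻¹) * c5⁻¹ ≠ f ∧
      c5 * (c5 * f * c5⁻¹) * c5⁻¹ ≠ c5 * f * c5⁻¹ ∧ c5 * (c5 * f * c5⁻¹) * c5⁻¹ * r5 = r5 * (c5 * (c5 * f * c5⁻¹) * c5⁻¹) ∧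
      ∀ q : A5, q * r5 = r5 * q → q ≠ 1 → q = f ∨ q = c5 * f * c5⁻¹ ∨ q = c5 * (c5 * f * c5⁻¹) * c5⁻¹) := by
  decide +kernel

theorem c5_four : ∀ x : A5, x * r5 = r5 * x → c5 * x * c5⁻¹ * r5 = r5 * (c5 * x * c5⁻¹) := by decide +kernel

theorem four5_comm : ∀ x : A5, x * r5 = r5 * x → ∀ y : A5, y * r5 = r5 * y → x * y = y * x ∧ x * x = 1 := by
  decide +kernel

theorem no_odd_four : ∀ x : A5, ¬ ((x : Equiv.Perm (Fin 5)) * Equiv.swap 0 1 * (r5 : Equiv.Perm (Fin 5)) =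
      (r5 : Equiv.Perm (Fin 5)) * ((x : Equiv.Perm (Fin 5)) * Equiv.swap 0 1) ∧
    (x : Equiv.Perm (Fin 5)) * Equiv.swap 0 1 * (a5 : Equiv.Perm (Fin 5)) =
      (a5 : Equiv.Perm (Fin 5)) * ((x : Equiv.Perm (Fin 5)) * Equiv.swap 0 1)) := by
  decide +kernel

theorem a5_ne : a5 ∉ zpowers r5 := fun h => by
  rcases mem_two emb5_facts.2.2.2.2.1 h with e | e
  · exact emb5_facts.2.2.2.2.2.2.1 e
  · exact emb5_facts.2.2.2.2.2.2.2.2.1 e

theorem even_of_shift {α : Type*} [Finite α] (O : Set α) (σ : α → α) (f : α → Bool)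
    (hσ : ∀ p ∈ O, σ p ∈ O ∧ σ (σ p) = p ∧ f (σ p) = !f p) : Even O.ncard := by
  have hset : O = {p ∈ O | f p = true} ∪ {p ∈ O | f p = false} := by
    ext p; cases h : f p <;> simp [h]
  have hdisj : Disjoint {p ∈ O | f p = true} {p ∈ O | f p = false} := by
    rw [Set.disjoint_left]; rintro p ⟨-, h⟩ ⟨-, h'⟩; rw [h] at h'; exact Bool.noConfusion h'
  have himg : σ '' {p ∈ O | f p = true} = {p ∈ O | f p = false} := by
    ext q
    constructor
    · rintro ⟨p, ⟨hp, h⟩, rfl⟩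
      exact ⟨(hσ p hp).1, by rw [(hσ p hp).2.2, h]; rfl⟩
    · rintro ⟨hq, h⟩
      exact ⟨σ q, ⟨(hσ q hq).1, by rw [(hσ q hq).2.2, h]; rfl⟩, (hσ q hq).2.1⟩
  have hinj : Set.InjOn σ {p ∈ O | f p = true} := fun p hp q hq e => by
    rw [← (hσ p hp.1).2.1, e, (hσ q hq.1).2.1]
  rw [hset, Set.ncard_union_eq hdisj (Set.toFinite _) (Set.toFinite _), ← himg, Set.ncard_image_of_injOn hinj]
  exact ⟨_, rfl⟩

section Generic

variable {G : Type*} [Group G] [Finite G]

/-- The orbit of an element centralizing a Sylow two-subgroup under the normalizer has odd size. -/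
theorem orbit_odd {X T : Subgroup G} (hTX : T ≤ X) (hT : Nat.card T = 16) (h32 : ¬ 32 ∣ Nat.card X) {a : G}
    (ha : ∀ x ∈ T, x * a = a * x) :
    Odd {b : G | ∃ n ∈ X, n ∈ normalizer (T : Set G) ∧ n * a * n⁻¹ = b}.ncard := by
  set Nn : Subgroup G := X ⊓ normalizer (T : Set G) with hNn
  letI : MulAction Nn G := MulAction.compHom G (MulAut.conj.comp Nn.subtype)
  have horb : {b : G | ∃ n ∈ X, n ∈ normalizer (T : Set G) ∧ n * a * n⁻¹ = b} = MulAction.orbit Nn a := by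
    ext b
    constructor
    · rintro ⟨n, h1, h2, rfl⟩; exact ⟨⟨n, h1, h2⟩, rfl⟩
    · rintro ⟨⟨n, h1, h2⟩, rfl⟩; exact ⟨n, h1, h2, rfl⟩
  rw [horb, ← MulAction.index_stabilizer, Nat.odd_iff, Nat.mod_two_ne_zero.symm]
  intro h2
  refine h32 ?_
  have hT' : T ≤ Nn := le_inf hTX le_normalizer
  have hle : T.subgroupOf Nn ≤ MulAction.stabilizer Nn a := fun x hx => by
    show (x : G) * a * (x : G)⁻¹ = a
    rw [ha (x : G) (show (x : G) ∈ T from hx), mul_inv_cancel_right]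
  have h16 := card_dvd_of_le hle
  rw [Nat.card_congr (subgroupOfEquivOfLe hT').toEquiv, hT] at h16
  refine dvd_trans ?_ (card_dvd_of_le (inf_le_left : Nn ≤ X))
  rw [← card_mul_index (MulAction.stabilizer Nn a)]
  exact (show 32 = 16 * 2 from rfl) ▸ mul_dvd_mul h16 (Nat.dvd_of_mod_eq_zero h2)

/-- A half of a subgroup avoiding an involution. -/
theorem split_half {X M : Subgroup G} {v : G} (hMX : M ≤ X) (hd : 2 * Nat.card M ∣ Nat.card X)
    (hnd : ¬ 4 * Nat.card M ∣ Nat.card X) (hv : v ∈ X) (hv2 : v * v = 1) (hv1 : v ≠ 1)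
    (hno : ∀ g ∈ X, g * v * g⁻¹ ∉ M) :
    ∃ X1 ≤ X, Nat.card X = 2 * Nat.card X1 ∧ v ∉ X1 ∧ (∀ g ∈ X, (g ^ 3 = 1 ∨ g ^ 5 = 1) → g ∈ X1) ∧
      ∀ x ∈ X, ∀ y ∈ X, x ∉ X1 → y ∉ X1 → x * y ∈ X1 := by
  have hidx : (M.subgroupOf X).index % 4 = 2 := by
    have h := card_mul_index (M.subgroupOf X)
    rw [Nat.card_congr (subgroupOfEquivOfLe hMX).toEquiv] at h
    obtain ⟨q, hq⟩ := hd
    have hi : (M.subgroupOf X).index = 2 * q :=
      Nat.eq_of_mul_eq_mul_left Nat.card_pos (by rw [h, hq]; ring)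
    rcases Nat.even_or_odd q with ⟨k, hk⟩ | ⟨k, hk⟩
    · exact absurd ⟨k, by rw [hq, hk]; ring⟩ hnd
    · omega
  obtain ⟨K, hK, hvK⟩ := Involutions.ThompsonTransfer.exists_index_two_of_no_conj _ hidx (⟨v, hv⟩ : X)
    (by rw [orderOf_mk]; exact orderOf_eq_prime (by rw [pow_two]; exact hv2) hv1)
    (fun g hg => hno g g.2 hg)
  have hmem : ∀ {x : G} (hx : x ∈ X), x ∈ K.map X.subtype ↔ (⟨x, hx⟩ : X) ∈ K := fun {x} hx =>
    ⟨fun ⟨y, hy, e⟩ => by rwa [show (⟨x, hx⟩ : X) = y from Subtype.ext e.symm], fun h => ⟨_, h, rfl⟩⟩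
  refine ⟨K.map X.subtype, map_subtype_le _, ?_, fun h => hvK ((hmem hv).1 h), ?_, ?_⟩
  · rw [card_map_of_injective X.subtype_injective, ← card_mul_index K, hK, mul_comm]
  · rintro g hg (h | h)
    · refine (hmem hg).2 ?_
      rw [show (⟨g, hg⟩ : X) = ((⟨g, hg⟩ : X) ^ 2) ^ 2 from Subtype.ext
        (show g = (g ^ 2) ^ 2 by rw [← pow_mul]; exact (by rw [pow_succ, h, one_mul]))]
      exact Subgroup.sq_mem_of_index_two hK _
    · refine (hmem hg).2 ?_
      rw [show (⟨g, hg⟩ : X) = ((⟨g, hg⟩ : X) ^ 3) ^ 2 from Subtype.ext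
        (show g = (g ^ 3) ^ 2 by rw [← pow_mul]; exact (by rw [pow_succ, h, one_mul]))]
      exact Subgroup.sq_mem_of_index_two hK _
  · intro x hx y hy hxK hyK
    refine (hmem (mul_mem hx hy)).2 ?_
    exact (Subgroup.mul_mem_iff_of_index_two hK (a := (⟨x, hx⟩ : X)) (b := ⟨y, hy⟩)).2
      (iff_of_false (fun h => hxK ((hmem hx).2 h)) (fun h => hyK ((hmem hy).2 h)))

end Generic

variable {G : Type*} [Group G] [Finite G] {P : Sylow 3 G} {φ : L →* G} {t : G} {G0 K0 : Subgroup G}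

namespace AltFrame

variable (D : AltFrame P φ t)
include D

/-- The elementary group of order sixteen. -/
def four : Subgroup G := (four5.prod four5).map D.both

theorem mem_four {g : G} : g ∈ D.four ↔ ∃ x ∈ four5, ∃ y ∈ four5, ιA φ x * ιB φ t y = g := by
  constructor
  · rintro ⟨⟨x, y⟩, ⟨hx, hy⟩, rfl⟩; exact ⟨x, hx, y, hy, rfl⟩
  · rintro ⟨x, hx, y, hy, rfl⟩; exact ⟨(x, y), ⟨hx, hy⟩, rfl⟩

theorem card_four : Nat.card D.four = 16 := by
  rw [four, card_map_of_injective D.both_injective, Nat.card_congr (Subgroup.prodEquiv four5 four5).toEquiv,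
    Nat.card_prod, card_four5]

theorem four_le_N : D.four ≤ Nsub φ t := fun g hg => by
  obtain ⟨x, -, y, -, rfl⟩ := D.mem_four.1 hg
  exact mul_mem (D.memA x) (D.memB y)

theorem four_comm {g h : G} (hg : g ∈ D.four) (hh : h ∈ D.four) : g * h = h * g := by
  obtain ⟨p, hp, rfl⟩ := hg
  obtain ⟨q, hq, rfl⟩ := hh
  rw [← map_mul, ← map_mul]
  exact congrArg D.both (Prod.ext
    (four5_comm p.1 (mem_centralizer_singleton_iff.1 hp.1) q.1 (mem_centralizer_singleton_iff.1 hq.1)).1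
    (four5_comm p.2 (mem_centralizer_singleton_iff.1 hp.2) q.2 (mem_centralizer_singleton_iff.1 hq.2)).1)

theorem r_mem_four : ιA φ r5 ∈ D.four :=
  D.mem_four.2 ⟨r5, mem_centralizer_singleton_iff.2 rfl, 1, one_mem _, by rw [map_one, mul_one]⟩

theorem a_mem_four : ιA φ a5 ∈ D.four :=
  D.mem_four.2 ⟨a5, mem_centralizer_singleton_iff.2 emb5_facts.2.2.2.2.2.1, 1, one_mem _, by rw [map_one, mul_one]⟩

theorem ιB_injective : Function.Injective (ιB φ t) := (MulAut.conj t).injective.comp D.frame.ιA_injective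

theorem z_eq : ιB φ t EightLocal.sigma = φ zL := by rw [D.frame.ιB_eq, D.frame.ιA_gens.1, D.frame.tw]

theorem i_ιB (y : A5) : ∃ y', φ iL * ιB φ t y * φ iL = ιB φ t y' := by
  obtain ⟨y', hy'⟩ := D.i_conjA_mem y
  refine ⟨y', ?_⟩
  rw [D.frame.ιB_eq, D.frame.ιB_eq, ← hy']
  calc φ iL * (t * ιA φ y * t) * φ iL = (φ iL * t) * ιA φ y * (t * φ iL) := by group
    _ = (t * φ iL) * ιA φ y * (φ iL * t) := by rw [D.ti_comm]
    _ = _ := by group

theorem H1_ιB {h : G} (hh : h ∈ H1sub φ t) (y : A5) : ∃ y', h * ιB φ t y * h⁻¹ = ιB φ t y' := by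
  have key : ∀ n ∈ Nsub φ t, ∀ u : A5, ∃ u', n * ιB φ t u * n⁻¹ = ιB φ t u' := fun n hn u => by
    obtain ⟨a, b, rfl⟩ := D.mem_N.1 hn
    refine ⟨b * u * b⁻¹, ?_⟩
    have := D.conj_pair a b 1 u
    simpa using this
  obtain ⟨n, hn, rfl | rfl⟩ := D.mem_H1.1 hh
  · exact key h hn y
  · obtain ⟨y', hy'⟩ := D.i_ιB y
    obtain ⟨u, hu⟩ := key n hn y'
    refine ⟨u, ?_⟩
    rw [← hu, ← hy', mul_inv_rev, inv_eq_of_mul_eq_one_left D.i_sq]; group

/-- An element of the extension centralizing `r` preserves the copies. -/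
theorem H_cent_r {h : G} (hh : h ∈ Hsub φ t) (hc : h * ιA φ r5 = ιA φ r5 * h) :
    ∃ x y, h = ιA φ x * ιB φ t y ∨ h = ιA φ x * ιB φ t y * φ iL := by
  obtain ⟨n1, hn1, rfl | rfl⟩ := D.mem_H.1 hh
  · obtain ⟨n, hn, e⟩ := D.mem_H1.1 hn1
    obtain ⟨x, y, rfl⟩ := D.mem_N.1 hn
    exact ⟨x, y, e⟩
  · exfalso
    obtain ⟨y', hy'⟩ := D.H1_ιB hn1 r5
    have h1 : ιB φ t y' = ιA φ r5 := by
      rw [← hy', D.frame.ιB_eq]
      calc n1 * (t * ιA φ r5 * t) * n1⁻¹ = n1 * t * ιA φ r5 * (n1 * t⁻¹)⁻¹ := by group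
        _ = n1 * t * ιA φ r5 * (n1 * t)⁻¹ := by rw [D.frame.tinv]
        _ = ιA φ r5 := by rw [hc, mul_inv_cancel_right]
    exact emb5_facts.2.2.2.2.2.2.2.1 ((D.prod_inj (x := 1) (y := y') (x' := r5) (y' := 1)
      (by rw [map_one, map_one, one_mul, mul_one, h1])).1).symm

theorem i_coset_comm {x y u : A5} (h : ιA φ x * ιB φ t y * φ iL * ιA φ u = ιA φ u * (ιA φ x * ιB φ t y * φ iL)) :
    (x : Equiv.Perm (Fin 5)) * Equiv.swap 0 1 * (u : Equiv.Perm (Fin 5)) =
      (u : Equiv.Perm (Fin 5)) * ((x : Equiv.Perm (Fin 5)) * Equiv.swap 0 1) := by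
  obtain ⟨u', hu'⟩ := D.i_conjA_mem u
  have h1 : ιA φ (x * u') * ιB φ t y = ιA φ (u * x) * ιB φ t y := by
    apply mul_right_cancel (b := φ iL)
    rw [map_mul, map_mul]
    calc ιA φ x * ιA φ u' * ιB φ t y * φ iL = ιA φ x * (ιA φ u' * ιB φ t y) * φ iL := by group
      _ = ιA φ x * (ιB φ t y * (φ iL * ιA φ u * φ iL)) * φ iL := by rw [(D.com u' y).eq, hu']
      _ = ιA φ x * ιB φ t y * φ iL * ιA φ u * (φ iL * φ iL) := by group
      _ = ιA φ u * (ιA φ x * ιB φ t y * φ iL) := by rw [D.i_sq, mul_one, h]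
      _ = _ := by group
  have e1 : (x : Equiv.Perm (Fin 5)) * (u' : Equiv.Perm (Fin 5)) = u * x :=
    congrArg Subtype.val (D.prod_inj h1).1
  rw [D.i_conjA] at hu'
  have e2 : Equiv.swap 0 1 * (u : Equiv.Perm (Fin 5)) * Equiv.swap 0 1 = (u' : Equiv.Perm (Fin 5)) :=
    congrArg Prod.snd (D.frame.inj hu')
  rw [← mul_assoc (u : Equiv.Perm (Fin 5)), ← e1, ← e2]
  simp [mul_assoc, Equiv.swap_mul_self]

variable (B : Big φ t (Hsub φ t)) (S : Split φ t G0 K0)
include B S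

omit B in
theorem odd_K {g : G} (h : g ^ 3 = 1 ∨ g ^ 5 = 1) : g ∈ K0 := by
  have hg0 := odd_mem D S.index0 g h
  have hsq : ∀ x : G0, ((x ^ 2 : G0) : G) ∈ K0 := fun x => Subgroup.sq_mem_of_index_two S.rel x
  rcases h with h | h
  · have := hsq (⟨g, hg0⟩ ^ 2)
    rwa [SubgroupClass.coe_pow, SubgroupClass.coe_pow, ← pow_mul, pow_succ, h, one_mul] at this
  · have := hsq (⟨g, hg0⟩ ^ 3)
    rwa [SubgroupClass.coe_pow, SubgroupClass.coe_pow, ← pow_mul, pow_succ, h, one_mul] at this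

omit B in
theorem N_le : Nsub φ t ≤ K0 := D.copies_le fun _ h => D.odd_K S h

theorem K0_two_part : ¬ 32 ∣ Nat.card K0 := by
  rintro ⟨d, hd⟩
  obtain ⟨m, hm, l, hl⟩ := D.card_G B
  have h := card_mul_index K0
  rw [← relIndex_mul_index S.le, S.rel, S.index0, hm, hl, hd] at h
  omega

omit B in
theorem cover (g : G) : ∃ c, (c = 1 ∨ c = φ iL ∨ c = t ∨ c = φ iL * t) ∧ g * c ∈ K0 := by
  have h2 : ∀ x : G, x ∈ G0 → x ∈ K0 ∨ x * t ∈ K0 := fun x hx => by
    by_cases hxK : x ∈ K0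
    · exact Or.inl hxK
    · exact Or.inr ((Subgroup.mul_mem_iff_of_index_two S.rel (a := (⟨x, hx⟩ : G0)) (b := ⟨t, S.t0⟩)).2
        (iff_of_false hxK S.tK))
  by_cases hg : g ∈ G0
  · rcases h2 g hg with h | h
    · exact ⟨1, Or.inl rfl, by rwa [mul_one]⟩
    · exact ⟨t, Or.inr (Or.inr (Or.inl rfl)), h⟩
  · rcases h2 _ ((Subgroup.mul_mem_iff_of_index_two S.index0).2 (iff_of_false hg S.i0)) with h | h
    · exact ⟨_, Or.inr (Or.inl rfl), h⟩
    · exact ⟨φ iL * t, Or.inr (Or.inr (Or.inr rfl)), by rwa [← mul_assoc]⟩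

omit B in
theorem cent_z_K {g : G} (hg : g ∈ K0) (hc : g * φ zL = φ zL * g) :
    ∃ (x : A5) (j : ℕ), g = ιA φ x * ιB φ t (EightLocal.sigma ^ j) := by
  obtain ⟨⟨q, p⟩, hp, rfl⟩ := D.frame.cent_z hc
  have key : ∀ q : Equiv.Perm (Fin 3), q * c3 = c3 * q → ∃ j : Fin 3, q = c3 ^ (j : ℕ) := by decide +kernel
  obtain ⟨j, rfl⟩ := key q (congrArg Prod.fst hp)
  have hsplit : φ ((c3 ^ (j : ℕ), p) : L) = φ ((1, p) : L) * ιB φ t (EightLocal.sigma ^ (j : ℕ)) := by
    rw [map_pow (ιB φ t), D.z_eq, ← map_pow, ← map_mul]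
    exact congrArg φ (Prod.ext (by simp [zL]) (by simp [zL]))
  rw [hsplit] at hg
  have h1 : φ ((1, p) : L) ∈ K0 := (mul_mem_cancel_right (D.N_le S (D.memB _))).1 hg
  rcases Int.units_eq_one_or (Equiv.Perm.sign p) with hs | hs
  · exact ⟨⟨p, Equiv.Perm.mem_alternatingGroup.2 hs⟩, j, hsplit⟩
  · exfalso
    have h2 : φ ((1, p * Equiv.swap 0 1) : L) ∈ Nsub φ t := D.pair_mem (by
      rw [map_mul, hs, Equiv.Perm.sign_swap (by decide : (0 : Fin 5) ≠ 1)]; decide)
    refine S.i0 (S.le ?_)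
    have := mul_mem (inv_mem h1) (D.N_le S h2)
    rw [← map_inv, ← map_mul] at this
    exact (show (((1, p) : L)⁻¹ * (1, p * Equiv.swap 0 1)) = iL from
      Prod.ext (by simp [iL]) (by simp [iL])) ▸ this

/-- A subgroup centralizing `r` in which `a` is isolated is small. -/
theorem order240 (X : Subgroup G) (hX : X ≤ K0) (hA : ∀ x ∈ four5, ιA φ x ∈ X) (hBX : ∀ y, ιB φ t y ∈ X)
    (hr : ∀ g ∈ X, g * ιA φ r5 = ιA φ r5 * g)
    (hfix : ∀ g ∈ X, g * ιA φ a5 * g⁻¹ ∈ D.four → g * ιA φ a5 * g⁻¹ = ιA φ a5) : X ≤ Nsub φ t := by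
  obtain ⟨-, -, -, haa, hrr, har, ha1, hr1, hane, -⟩ := emb5_facts
  have hTX : D.four ≤ X := fun g hg => by
    obtain ⟨x, hx, y, -, rfl⟩ := D.mem_four.1 hg
    exact mul_mem (hA x hx) (hBX y)
  have h32 : ¬ 32 ∣ Nat.card X := fun h => D.K0_two_part B S (h.trans (card_dvd_of_le hX))
  have h16 : 16 ∣ Nat.card X := D.card_four ▸ card_dvd_of_le hTX
  set M1 : Subgroup G := ((zpowers r5).prod four5).map D.both with hM1def
  have hr5 : zpowers r5 ≤ four5 := zpowers_le.2 (mem_centralizer_singleton_iff.2 rfl)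
  have hM1T : M1 ≤ D.four := Subgroup.map_mono (Subgroup.prod_mono hr5 le_rfl)
  have hM1 : Nat.card M1 = 8 := by
    rw [hM1def, card_map_of_injective D.both_injective,
      Nat.card_congr (Subgroup.prodEquiv _ _).toEquiv, Nat.card_prod, card_four5, Nat.card_zpowers,
      orderOf_eq_prime (by rw [pow_two]; exact hrr) hr1]
  have haX : ιA φ a5 ∈ X := hA _ (mem_centralizer_singleton_iff.2 har)
  have hrX : ιA φ r5 ∈ X := hA _ (mem_centralizer_singleton_iff.2 rfl)
  obtain ⟨X1, hX1, hc1, ha1', h35, hmul⟩ := split_half (v := ιA φ a5) (hM1T.trans hTX)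
    (by rw [hM1]; exact h16) (by rw [hM1]; exact h32) haX (by rw [← map_mul, haa, map_one])
    (fun e => ha1 (D.frame.ιA_injective (e.trans (map_one _).symm)))
    (fun g hg hm => by
      obtain ⟨⟨x, y⟩, ⟨hx, -⟩, e⟩ := (hfix g hg (hM1T hm)) ▸ hm
      exact a5_ne ((D.prod_inj (x := x) (y := y) (x' := a5) (y' := 1)
        (by rw [map_one, mul_one]; exact e)).1 ▸ hx))
  obtain ⟨hσ3, hσ1, h5⟩ := sigma_three
  have hBle : ∀ {Y : Subgroup G}, (∀ y : A5, (y ^ 3 = 1 ∨ y ^ 5 = 1) → ιB φ t y ∈ Y) → ∀ y, ιB φ t y ∈ Y :=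
    fun {Y} h y => by
      have htop := a5_top_of (Y.comap (ιB φ t)) (h _ (Or.inl hσ3)) (h _ (Or.inr h5)) h5
        emb5_facts.2.2.2.2.2.2.2.2.2.2.2.2.1
      exact (htop ▸ mem_top y : y ∈ Y.comap (ιB φ t))
  have h35' : ∀ {Y : Subgroup G}, (∀ g ∈ Y, (g ^ 3 = 1 ∨ g ^ 5 = 1) → g ∈ X1) → (∀ y, ιB φ t y ∈ Y) →
      ∀ y, ιB φ t y ∈ X1 := fun {Y} h hY => hBle fun y hy =>
    h _ (hY y) (hy.imp (fun e => by rw [← map_pow, e, map_one]) (fun e => by rw [← map_pow, e, map_one]))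
  have hB1 : ∀ y, ιB φ t y ∈ X1 := h35' h35 hBX
  -- the second involution
  obtain ⟨u, hu, huX, hother⟩ : ∃ u, (u = r5 ∨ u = r5 * a5) ∧ ιA φ u ∈ X1 ∧
      ∀ x ∈ four5, ιA φ x ∈ X1 → x = 1 ∨ x = u := by
    by_cases hr' : ιA φ r5 ∈ X1
    · refine ⟨r5, Or.inl rfl, hr', fun x hx hxX => ?_⟩
      rcases four5_elems x (mem_centralizer_singleton_iff.1 hx) with e | e | e | e
      · exact Or.inl e
      · exact Or.inr e
      · exact absurd (e ▸ hxX) ha1'
      · refine absurd ?_ ha1'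
        rw [e, map_mul] at hxX
        exact (mul_mem_cancel_left hr').1 hxX
    · refine ⟨r5 * a5, Or.inr rfl, by rw [map_mul]; exact hmul _ hrX _ haX hr' ha1', fun x hx hxX => ?_⟩
      rcases four5_elems x (mem_centralizer_singleton_iff.1 hx) with e | e | e | e
      · exact Or.inl e
      · exact absurd (e ▸ hxX) hr'
      · exact absurd (e ▸ hxX) ha1'
      · exact Or.inr e
  have hu4 : u ∈ four5 := by
    rcases hu with rfl | rfl
    · exact mem_centralizer_singleton_iff.2 rfl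
    · exact mul_mem (mem_centralizer_singleton_iff.2 rfl) (mem_centralizer_singleton_iff.2 har)
  have hu1 : u ≠ 1 := by rcases hu with rfl | rfl <;> decide +kernel
  set M2 : Subgroup G := four5.map (ιB φ t) with hM2def
  have hM2X1 : M2 ≤ X1 := by rintro _ ⟨y, -, rfl⟩; exact hB1 y
  have hM2 : Nat.card M2 = 4 := by rw [hM2def, card_map_of_injective D.ιB_injective, card_four5]
  have hM2T : ∀ m ∈ M2, m ∈ D.four := by
    rintro _ ⟨y, hy, rfl⟩; exact D.mem_four.2 ⟨1, one_mem _, y, hy, by rw [map_one, one_mul]⟩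
  have hnoA : ∀ x : A5, x ≠ 1 → ιA φ x ∉ M2 := by
    rintro x hx ⟨y, -, e⟩
    exact hx (D.prod_inj (x := 1) (y := y) (x' := x) (y' := 1) (by rw [map_one, map_one, one_mul, mul_one, e])).1.symm
  obtain ⟨X2, hX2, hc2, hu2, h35b, -⟩ := split_half (v := ιA φ u) hM2X1
    (by rw [hM2]; omega) (by rw [hM2]; omega) huX
    (by rw [← map_mul, (four5_comm u (mem_centralizer_singleton_iff.1 hu4) u (mem_centralizer_singleton_iff.1 hu4)).2,
      map_one])
    (fun e => hu1 (D.frame.ιA_injective (e.trans (map_one _).symm)))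
    (fun g hg hm => by
      have hgr : g * ιA φ r5 * g⁻¹ = ιA φ r5 := by rw [hr g (hX1 hg), mul_inv_cancel_right]
      rcases hu with rfl | rfl
      · exact hnoA r5 hr1 (hgr ▸ hm)
      · have e : g * ιA φ (r5 * a5) * g⁻¹ = ιA φ r5 * (g * ιA φ a5 * g⁻¹) := by
          rw [map_mul, show g * (ιA φ r5 * ιA φ a5) * g⁻¹ = g * ιA φ r5 * g⁻¹ * (g * ιA φ a5 * g⁻¹) by group,
            hgr]
        rw [e] at hm
        have h4 := hfix g (hX1 hg) ((mul_mem_cancel_left D.r_mem_four).1 (hM2T _ hm))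
        rw [h4, ← map_mul] at hm
        exact hnoA _ hu1 hm)
  have hB2 : ∀ y, ιB φ t y ∈ X2 := hBle fun y hy =>
    h35b _ (hB1 y) (hy.imp (fun e => by rw [← map_pow, e, map_one]) (fun e => by rw [← map_pow, e, map_one]))
  let f : A5 →* X2 := (ιB φ t).codRestrict X2 hB2
  have hf : Function.Injective f := fun x y e => D.ιB_injective (congrArg Subtype.val e)
  have h60 : Nat.card X2 = 60 := by
    refine sixty f hf (fun g hg => ?_) (by omega)
    have hgz : (g : G) * φ zL = φ zL * (g : G) := by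
      rw [← D.z_eq]; exact congrArg Subtype.val hg
    obtain ⟨x, j, e⟩ := D.cent_z_K S (hX (hX1 (hX2 g.2))) hgz
    have hx2 : ιA φ x ∈ X2 := by
      have := g.2; rw [e] at this; exact (mul_mem_cancel_right (hB2 _)).1 this
    have hx : x ∈ four5 := mem_centralizer_singleton_iff.2 (D.frame.ιA_injective (by
      rw [map_mul, map_mul]; exact hr _ (hX1 (hX2 hx2))))
    have hx1 : x = 1 := (hother x hx (hX2 hx2)).resolve_right fun h => hu2 (h ▸ hx2)
    refine mem_zpowers_iff.2 ⟨(j : ℤ), Subtype.ext ?_⟩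
    rw [zpow_natCast, SubgroupClass.coe_pow, e, hx1, map_one, one_mul, map_pow]
    rfl
  have heq : (four5.prod ⊤).map D.both = X := by
    refine eq_of_le_of_card_ge ?_ (le_of_eq ?_)
    · rintro _ ⟨⟨x, y⟩, ⟨hx, -⟩, rfl⟩
      exact mul_mem (hA x hx) (hBX y)
    · rw [hc1, hc2, h60, card_map_of_injective D.both_injective,
        Nat.card_congr (Subgroup.prodEquiv _ _).toEquiv, Nat.card_prod, card_four5,
        Nat.card_congr Subgroup.topEquiv.toEquiv, card_A5]
  rw [← heq]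
  rintro _ ⟨⟨x, y⟩, -, rfl⟩
  exact mul_mem (D.memA x) (D.memB y)

/-- The centralizer of the four group of the first copy lies in the subgroup of index two. -/
theorem cent_four_mem {g : G} (hgr : g * ιA φ r5 = ιA φ r5 * g) (hga : g * ιA φ a5 = ιA φ a5 * g) :
    g ∈ G0 := by
  obtain ⟨hσ3, hσ1, -⟩ := sigma_three
  let X : Subgroup G := K0 ⊓ centralizer ({ιA φ r5} : Set G) ⊓ centralizer ({ιA φ a5} : Set G)
  have memX : ∀ {x : G}, x ∈ K0 → x * ιA φ r5 = ιA φ r5 * x → x * ιA φ a5 = ιA φ a5 * x → x ∈ X :=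
    fun h1 h2 h3 => ⟨⟨h1, mem_centralizer_singleton_iff.2 h2⟩, mem_centralizer_singleton_iff.2 h3⟩
  have hX : X ≤ Nsub φ t := by
    refine D.order240 B S X (inf_le_left.trans inf_le_left) (fun x hx => ?_) (fun y => ?_)
      (fun g hg => mem_centralizer_singleton_iff.1 hg.1.2) (fun g hg _ => ?_)
    · have hx' := mem_centralizer_singleton_iff.1 hx
      refine memX (D.N_le S (D.memA x)) ?_ ?_ <;> rw [← map_mul, ← map_mul]
      · rw [hx']
      · rw [(four5_comm x hx' a5 emb5_facts.2.2.2.2.2.1).1]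
    · exact memX (D.N_le S (D.memB y)) (D.com r5 y).eq.symm (D.com a5 y).eq.symm
    · rw [mem_centralizer_singleton_iff.1 hg.2, mul_inv_cancel_right]
  have hNH : Nsub φ t ≤ Hsub φ t := (le_sup_left : Nsub φ t ≤ H1sub φ t).trans le_sup_left
  have hg : g ∈ Hsub φ t := by
    refine D.frame.three_fix B.hφ B.ht (d := φ zL) (B.hφ ⟨zL, rfl⟩) ?_ ?_ (hNH (hX ?_))
    · rw [← map_pow, small_facts.2.2.2.2.1, map_one]
    · rw [← D.z_eq]; exact fun e => hσ1 (D.ιB_injective (e.trans (map_one _).symm))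
    · have hz : ∀ u : A5, g * ιA φ u = ιA φ u * g →
          g * φ zL * g⁻¹ * ιA φ u = ιA φ u * (g * φ zL * g⁻¹) := fun u hu => by
        have hzu : Commute (ιA φ u) (φ zL) := by rw [← D.z_eq]; exact D.com u _
        have hgu : Commute (ιA φ u) g := hu.symm
        exact ((hgu.mul_right hzu).mul_right hgu.inv_right).symm.eq
      refine memX (D.odd_K S (Or.inl ?_)) (hz _ hgr) (hz _ hga)
      rw [conj_pow, ← map_pow, small_facts.2.2.2.2.1, map_one, mul_one, mul_inv_cancel]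
  obtain ⟨x, y, rfl | rfl⟩ := D.H_cent_r hg hgr
  · exact S.le (D.N_le S (mul_mem (D.memA x) (D.memB y)))
  · exact absurd ⟨D.i_coset_comm hgr, D.i_coset_comm hga⟩ (no_odd_four x)

/-- The centralizer of `r` in the subgroup of index four lies in the product. -/
theorem cent_r_K : K0 ⊓ centralizer ({ιA φ r5} : Set G) ≤ Nsub φ t := by
  obtain ⟨-, -, -, haa, hrr, har, ha1, hr1, hane, -⟩ := emb5_facts
  set X : Subgroup G := K0 ⊓ centralizer ({ιA φ r5} : Set G) with hXdef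
  haveI : Fact (Nat.Prime 2) := ⟨Nat.prime_two⟩
  have memX : ∀ {x : G}, x ∈ K0 → x * ιA φ r5 = ιA φ r5 * x → x ∈ X :=
    fun h1 h2 => ⟨h1, mem_centralizer_singleton_iff.2 h2⟩
  have hrX : ∀ {g : G}, g ∈ X → g * ιA φ r5 = ιA φ r5 * g := fun hg => mem_centralizer_singleton_iff.1 hg.2
  have hA : ∀ x ∈ four5, ιA φ x ∈ X := fun x hx => memX (D.N_le S (D.memA x))
    (by rw [← map_mul, ← map_mul, mem_centralizer_singleton_iff.1 hx])
  have hBX : ∀ y, ιB φ t y ∈ X := fun y => memX (D.N_le S (D.memB y)) (D.com r5 y).eq.symm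
  have hTX : D.four ≤ X := fun g hg => by
    obtain ⟨x, hx, y, -, rfl⟩ := D.mem_four.1 hg
    exact mul_mem (hA x hx) (hBX y)
  have h32 : ¬ 32 ∣ Nat.card X := fun h => D.K0_two_part B S (h.trans (card_dvd_of_le inf_le_left))
  refine D.order240 B S X inf_le_left hA hBX (fun g hg => hrX hg) fun g hg hgT => ?_
  -- the normalizer fixes `a`
  have hnfix : ∀ n ∈ X, n ∈ normalizer (D.four : Set G) → n * ιA φ a5 * n⁻¹ = ιA φ a5 := by
    set O : Set (A5 × A5) := {p | ∃ n ∈ X, n ∈ normalizer (D.four : Set G) ∧ n * ιA φ a5 * n⁻¹ = D.both p}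
      with hOdef
    have hodd : Odd O.ncard := by
      have h := orbit_odd hTX D.card_four h32 (a := ιA φ a5) (fun x hx => D.four_comm hx D.a_mem_four)
      have himg : D.both '' O = {b : G | ∃ n ∈ X, n ∈ normalizer (D.four : Set G) ∧ n * ιA φ a5 * n⁻¹ = b} := by
        ext b
        constructor
        · rintro ⟨p, ⟨n, h1, h2, h3⟩, rfl⟩; exact ⟨n, h1, h2, h3⟩
        · rintro ⟨n, h1, h2, rfl⟩
          obtain ⟨x, -, y, -, e⟩ := D.mem_four.1 ((mem_normalizer_iff.1 h2 _).1 D.a_mem_four)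
          exact ⟨(x, y), ⟨n, h1, h2, e.symm⟩, e⟩
      rwa [← himg, Set.ncard_image_of_injective _ D.both_injective] at h
    have hbase : (a5, (1 : A5)) ∈ O :=
      ⟨1, one_mem _, one_mem _, by rw [D.both_apply, map_one, mul_one, one_mul, inv_one, mul_one]⟩
    have hmem : ∀ p ∈ O, p.1 * r5 = r5 * p.1 ∧ p.2 * r5 = r5 * p.2 ∧ (p.1 = a5 ∨ p.1 = r5 * a5) := by
      rintro ⟨e, f⟩ ⟨n, hn, hnT, hp⟩
      obtain ⟨x, hx, y, hy, exy⟩ := D.mem_four.1 ((mem_normalizer_iff.1 hnT _).1 D.a_mem_four)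
      obtain ⟨rfl, rfl⟩ := D.prod_inj (exy.trans hp)
      have he := mem_centralizer_singleton_iff.1 hx
      refine ⟨he, mem_centralizer_singleton_iff.1 hy, ?_⟩
      rcases four5_elems x he with h | h | h | h
      rotate_left 2
      · exact Or.inl h
      · exact Or.inr h
      all_goals
        exfalso
        have hnr : n * ιA φ r5 * n⁻¹ = ιA φ r5 := by rw [hrX hn, mul_inv_cancel_right]
        by_cases hy1 : y = 1
        · rw [D.both_apply, hy1, map_one, mul_one] at hp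
          rw [h] at hp
          first
            | exact ha1 (D.frame.ιA_injective ((conj_eq_one_iff.1 (hp.trans (map_one _))).trans (map_one _).symm))
            | exact hane (D.frame.ιA_injective (mul_left_cancel (mul_right_cancel (hp.trans hnr.symm))))
        obtain ⟨c, hc⟩ := alt_invol y (four5_comm y (mem_centralizer_singleton_iff.1 hy) y
          (mem_centralizer_singleton_iff.1 hy)).2 hy1
        set m := ιB φ t c * n with hm
        have hma : m * ιA φ a5 * m⁻¹ = ιA φ x * ιB φ t r5 := by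
          have := D.conj_pair 1 c x y
          simp only [map_one, one_mul, inv_one, mul_one, hc] at this
          rw [← this, hm, ← D.both_apply, ← hp]; group
        have hmr : m * ιA φ r5 * m⁻¹ = ιA φ r5 := by
          rw [hm, show ιB φ t c * n * ιA φ r5 * (ιB φ t c * n)⁻¹ =
            ιB φ t c * (n * ιA φ r5 * n⁻¹) * (ιB φ t c)⁻¹ by group, hnr, ← (D.com r5 c).eq,
            mul_inv_cancel_right]
        have hir : φ iL * ιA φ r5 = ιA φ r5 * φ iL := by
          rw [D.ιA_r5, ← map_mul, ← map_mul]; exact congrArg φ (by decide +kernel)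
        have hia : φ iL * (ιA φ x * ιB φ t r5) = ιA φ x * ιB φ t r5 * φ iL := by
          rw [D.ιB_r5, show ιA φ x = φ (emb5 x) from rfl, h, ← map_mul, ← map_mul, ← map_mul]
          exact congrArg φ (by decide +kernel)
        have hin : m⁻¹ * φ iL * m ∈ G0 := by
          refine D.cent_four_mem B S ?_ ?_
          · rw [← hmr] at hir
            calc m⁻¹ * φ iL * m * ιA φ r5 = m⁻¹ * (φ iL * (m * ιA φ r5 * m⁻¹)) * m := by group
              _ = m⁻¹ * ((m * ιA φ r5 * m⁻¹) * φ iL) * m := by rw [hir]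
              _ = _ := by group
          · rw [← hma] at hia
            calc m⁻¹ * φ iL * m * ιA φ a5 = m⁻¹ * (φ iL * (m * ιA φ a5 * m⁻¹)) * m := by group
              _ = m⁻¹ * ((m * ιA φ a5 * m⁻¹) * φ iL) * m := by rw [hia]
              _ = _ := by group
        have hm0 : m ∈ G0 := S.le (mul_mem (D.N_le S (D.memB c)) hn.1)
        refine S.i0 ?_
        rw [show φ iL = m * (m⁻¹ * φ iL * m) * m⁻¹ by group]
        exact mul_mem (mul_mem hm0 hin) (inv_mem hm0)
    -- the multiplier `r`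
    have hshift : ((r5 * a5 : A5), (1 : A5)) ∉ O := by
      rintro ⟨n, hn, hnT, hna⟩
      rw [D.both_apply, map_one, mul_one, map_mul] at hna
      refine Nat.not_even_iff_odd.2 hodd (even_of_shift O (fun p => (r5 * p.1, p.2)) (fun p => decide (p.1 = a5)) ?_)
      rintro ⟨e, f⟩ hp
      obtain ⟨m, hm, hmT, hma⟩ := id hp
      refine ⟨⟨m * n, mul_mem hm hn, mul_mem hmT hnT, ?_⟩, Prod.ext (by rw [← mul_assoc, hrr, one_mul]) rfl, ?_⟩
      · rw [show m * n * ιA φ a5 * (m * n)⁻¹ = m * (n * ιA φ a5 * n⁻¹) * m⁻¹ by group, hna,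
          show m * (ιA φ r5 * ιA φ a5) * m⁻¹ = m * ιA φ r5 * m⁻¹ * (m * ιA φ a5 * m⁻¹) by group, hrX hm,
          mul_inv_cancel_right, hma, D.both_apply, D.both_apply, map_mul, mul_assoc]
      · show decide (r5 * e = a5) = !decide (e = a5)
        rcases (hmem _ hp).2.2 with h | h <;> rw [show e = _ from h] <;> decide +kernel
    have hboth : ∀ e f, (e, f) ∈ O → (r5 * e, f) ∉ O := by
      rintro e f ⟨n, hn, hnT, hna⟩ ⟨m, hm, hmT, hma⟩
      refine hshift ⟨n⁻¹ * m, mul_mem (inv_mem hn) hm, mul_mem (inv_mem hnT) hmT, ?_⟩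
      rw [show n⁻¹ * m * ιA φ a5 * (n⁻¹ * m)⁻¹ = n⁻¹ * (m * ιA φ a5 * m⁻¹) * n by group, hma, D.both_apply,
        D.both_apply, map_mul, map_mul, mul_assoc (ιA φ r5), ← D.both_apply, ← hna, map_one, mul_one]
      calc n⁻¹ * (ιA φ r5 * (n * ιA φ a5 * n⁻¹)) * n = n⁻¹ * (ιA φ r5 * n) * ιA φ a5 := by group
        _ = n⁻¹ * (n * ιA φ r5) * ιA φ a5 := by rw [hrX hn]
        _ = _ := by group
    have hk0 : ιB φ t c5 ∈ normalizer (D.four : Set G) := by
      refine mem_normalizer_iff_map_conj_eq.2 (eq_of_le_of_card_ge ?_ (by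
        rw [card_map_of_injective (MulEquiv.injective _)]))
      rintro _ ⟨g, hg, rfl⟩
      obtain ⟨x, hx, y, hy, rfl⟩ := D.mem_four.1 hg
      refine D.mem_four.2 ⟨x, hx, c5 * y * c5⁻¹,
        mem_centralizer_singleton_iff.2 (c5_four y (mem_centralizer_singleton_iff.1 hy)), ?_⟩
      have := D.conj_pair 1 c5 x y
      simp only [map_one, one_mul, inv_one, mul_one] at this
      exact this.symm
    have hrot : ∀ e f, (e, f) ∈ O → (e, c5 * f * c5⁻¹) ∈ O := by
      rintro e f ⟨n, hn, hnT, hna⟩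
      refine ⟨ιB φ t c5 * n, mul_mem (hBX _) hn, mul_mem hk0 hnT, ?_⟩
      have := D.conj_pair 1 c5 e f
      simp only [map_one, one_mul, inv_one, mul_one] at this
      rw [D.both_apply, ← this, ← D.both_apply, ← hna]; group
    have hsub : ∀ p ∈ O, p = (a5, (1 : A5)) := by
      rintro ⟨e, f⟩ hp
      by_cases hf : f = 1
      · rcases (hmem _ hp).2.2 with h | h
        · exact Prod.ext h hf
        · exact absurd (show ((r5 * a5 : A5), (1 : A5)) ∈ O by rw [← h, ← hf]; exact hp) hshift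
      exfalso
      obtain ⟨-, hf1, hf2, hf3, hf4, hf5, -, hforb⟩ := four5_orbit f (hmem _ hp).2.1 hf
      have hp1 := hrot _ _ hp
      have hp2 := hrot _ _ hp1
      have hO : O = ↑({(a5, 1), (e, f), (e, c5 * f * c5⁻¹), (e, c5 * (c5 * f * c5⁻¹) * c5⁻¹)} :
          Finset (A5 × A5)) := by
        ext ⟨e', f'⟩
        simp only [Finset.coe_insert, Finset.coe_singleton, Set.mem_insert_iff, Set.mem_singleton_iff]
        constructor
        · intro hq
          by_cases hf' : f' = 1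
          · rcases (hmem _ hq).2.2 with h | h
            · exact Or.inl (Prod.ext h hf')
            · exact absurd (show ((r5 * a5 : A5), (1 : A5)) ∈ O by rw [← h, ← hf']; exact hq) hshift
          have hrest : ∀ g, (e, g) ∈ O → f' = g → e' = e := by
            rintro g hg rfl
            by_contra hne
            rcases (hmem _ hg).2.2 with h | h <;> rcases (hmem _ hq).2.2 with h' | h'
            · exact hne (h'.trans h.symm)
            · exact hboth _ _ hg (by rwa [show e = a5 from h, ← show e' = r5 * a5 from h'])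
            · exact hboth _ _ hq (by rwa [show e' = a5 from h', ← show e = r5 * a5 from h])
            · exact hne (h'.trans h.symm)
          rcases hforb f' (hmem _ hq).2.1 hf' with h | h | h
          · exact Or.inr (Or.inl (Prod.ext (hrest _ hp h) h))
          · exact Or.inr (Or.inr (Or.inl (Prod.ext (hrest _ hp1 h) h)))
          · exact Or.inr (Or.inr (Or.inr (Prod.ext (hrest _ hp2 h) h)))
        · rintro (h | h | h | h) <;> rw [h]
          exacts [hbase, hp, hp1, hp2]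
      rw [hO, Set.ncard_coe_finset] at hodd
      rw [Finset.card_insert_of_notMem (by simp [Ne.symm hf, Ne.symm hf1, Ne.symm hf3]),
        Finset.card_insert_of_notMem (by simp [Ne.symm hf2, Ne.symm hf4]),
        Finset.card_insert_of_notMem (by simp [Ne.symm hf5]), Finset.card_singleton] at hodd
      exact absurd hodd (by decide)
    intro n hn hnT
    obtain ⟨x, -, y, -, e⟩ := D.mem_four.1 ((mem_normalizer_iff.1 hnT _).1 D.a_mem_four)
    rw [← e]
    obtain ⟨rfl, rfl⟩ := Prod.mk.inj (hsub (x, y) ⟨n, hn, hnT, e.symm⟩)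
    rw [map_one, mul_one]
  -- fusion
  have hidx : ¬ 2 ∣ (D.four.subgroupOf X).index := by
    intro h
    refine h32 ?_
    have h' := card_mul_index (D.four.subgroupOf X)
    rw [Nat.card_congr (subgroupOfEquivOfLe hTX).toEquiv, D.card_four] at h'
    obtain ⟨q, hq⟩ := h
    exact ⟨q, by rw [← h', hq]; ring⟩
  let PT : Sylow 2 X := (IsPGroup.of_card (n := 4)
    (by rw [Nat.card_congr (subgroupOfEquivOfLe hTX).toEquiv, D.card_four]; norm_num) :
    IsPGroup 2 (D.four.subgroupOf X)).toSylow hidx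
  have hfixT : ∀ (b : X), (b : G) ∈ D.four → ∀ x ∈ PT, (fun y => x * y * x⁻¹) '' {b} = {b} := fun b hb x hx => by
    rw [Set.image_singleton]
    refine congrArg _ (Subtype.ext ?_)
    show (x : G) * b * (x : G)⁻¹ = b
    rw [D.four_comm (show (x : G) ∈ D.four from hx) hb, mul_inv_cancel_right]
  let aX : X := ⟨ιA φ a5, hTX D.a_mem_four⟩
  let gX : X := ⟨g, hg⟩
  obtain ⟨n, hn, he⟩ := Transfer.Fusion.burnside_fusion_set PT (X := {aX}) (Y := {gX * aX * gX⁻¹})
    (hfixT aX D.a_mem_four) (hfixT _ hgT) (g := gX) (Set.image_singleton)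
  rw [Set.image_singleton, Set.singleton_eq_singleton_iff] at he
  have hnG : (n : G) ∈ normalizer (D.four : Set G) := by
    refine mem_normalizer_iff.2 fun w => ?_
    constructor
    · intro hw
      exact ((mem_normalizer_iff.1 hn ⟨w, hTX hw⟩).1 hw : _)
    · intro hw
      have hwX : w ∈ X := by
        have := mul_mem (mul_mem (inv_mem n.2) (hTX hw)) n.2
        rwa [show (n : G)⁻¹ * ((n : G) * w * (n : G)⁻¹) * (n : G) = w by group] at this
      exact ((mem_normalizer_iff.1 hn ⟨w, hwX⟩).2 hw : _)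
  exact (congrArg Subtype.val he).symm.trans (hnfix _ n.2 hnG)

/-- The centralizer of `r` lies in the extension. -/
theorem cent_r {g : G} (hgr : g * ιA φ r5 = ιA φ r5 * g) : g ∈ Hsub φ t := by
  obtain ⟨-, hσ1, -⟩ := sigma_three
  have hNH : Nsub φ t ≤ Hsub φ t := (le_sup_left : Nsub φ t ≤ H1sub φ t).trans le_sup_left
  refine D.frame.three_fix B.hφ B.ht (d := φ zL) (B.hφ ⟨zL, rfl⟩) ?_ ?_ (hNH (D.cent_r_K B S ⟨?_, ?_⟩))
  · rw [← map_pow, small_facts.2.2.2.2.1, map_one]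
  · rw [← D.z_eq]; exact fun e => hσ1 (D.ιB_injective (e.trans (map_one _).symm))
  · refine D.odd_K S (Or.inl ?_)
    rw [conj_pow, ← map_pow, small_facts.2.2.2.2.1, map_one, mul_one, mul_inv_cancel]
  · refine mem_centralizer_singleton_iff.2 ?_
    have hzr : Commute (ιA φ r5) (φ zL) := by rw [← D.z_eq]; exact D.com r5 _
    have hgr' : Commute (ιA φ r5) g := hgr.symm
    exact ((hgr'.mul_right hzr).mul_right hgr'.inv_right).symm.eq

end AltFrame

end Cfsg.Agent.EightFour
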