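import Cfsg.Agent.Lib.EightFour.Local
import Cfsg.Agent.Lib.Involutions.ThompsonTransfer

/-!
# A subgroup containing the normalizers, and a subgroup of index two
-/

set_option autoImplicit false
set_option linter.style.haveILetI false
set_option linter.unusedSectionVars false

namespace Cfsg.Agent.EightFour

open Subgroup

variable {G : Type*} [Group G] [Finite G] {P : Sylow 3 G} {φ : L →* G} {t : G}

/-- The hypotheses on a local subgroup. -/
structure Big (φ : L →* G) (t : G) (H : Subgroup G) : Prop where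
  hφ : φ.range ≤ H
  ht : t ∈ H
  cent : ∀ g, g * φ iL = φ iL * g → g ∈ H
  three : ∀ j ∈ H, (∃ g : G, g * φ iL * g⁻¹ = j) → ∃ d ∈ H, d ^ 3 = 1 ∧ d ≠ 1 ∧ d * j = j * d

namespace Frame

variable (D : Frame P φ t) {H : Subgroup G} (B : Big φ t H)
include D B

theorem conj_mem {g : G} (h : g * φ iL * g⁻¹ ∈ H) : g ∈ H := by
  obtain ⟨d, hd, h3, h1, hdj⟩ := B.three _ h ⟨g, rfl⟩
  have hd' : g⁻¹ * d * g ∈ H := by
    refine B.cent _ ?_
    calc g⁻¹ * d * g * φ iL = g⁻¹ * (d * (g * φ iL * g⁻¹)) * g := by group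
      _ = g⁻¹ * ((g * φ iL * g⁻¹) * d) * g := by rw [hdj]
      _ = φ iL * (g⁻¹ * d * g) := by group
  refine D.three_fix B.hφ B.ht hd' ?_ ?_ ?_
  · rw [show g⁻¹ * d * g = g⁻¹ * d * g⁻¹⁻¹ by group, conj_pow, h3, mul_one, mul_inv_cancel]
  · intro e
    exact h1 (by rw [show d = g * (g⁻¹ * d * g) * g⁻¹ by group, e]; group)
  · rwa [show g * (g⁻¹ * d * g) * g⁻¹ = d by group]

theorem odd_index : Odd H.index := by
  haveI : Fact (Nat.Prime 2) := ⟨Nat.prime_two⟩
  have ho : orderOf (φ iL) = 2 := by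
    refine orderOf_eq_prime ?_ D.i_ne
    rw [pow_two, ← map_mul, small_facts.2.2.1, map_one]
  have hz : IsPGroup 2 (zpowers (φ iL)) := IsPGroup.of_card (n := 1) (by rw [Nat.card_zpowers, ho, pow_one])
  have hmod := hz.card_modEq_card_fixedPoints (G ⧸ H)
  have hfix : MulAction.fixedPoints (zpowers (φ iL)) (G ⧸ H) = {((1 : G) : G ⧸ H)} := by
    ext c
    obtain ⟨g, rfl⟩ := QuotientGroup.mk_surjective c
    simp only [MulAction.mem_fixedPoints, Set.mem_singleton_iff]
    constructor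
    · intro h
      have h' : ((φ iL * g : G) : G ⧸ H) = (g : G ⧸ H) := h ⟨φ iL, mem_zpowers _⟩
      rw [QuotientGroup.eq] at h'
      have hm : g⁻¹ * φ iL * g⁻¹⁻¹ ∈ H := by
        have := inv_mem h'
        rwa [show ((φ iL * g)⁻¹ * g)⁻¹ = g⁻¹ * φ iL * g⁻¹⁻¹ by group] at this
      rw [QuotientGroup.eq, mul_one]
      exact D.conj_mem B hm
    · intro h
      rw [QuotientGroup.eq, mul_one] at h
      rintro ⟨x, hx⟩
      obtain ⟨k, rfl⟩ := mem_zpowers_iff.1 hx
      show ((φ iL ^ k * g : G) : G ⧸ H) = g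
      rw [QuotientGroup.eq]
      exact mul_mem (inv_mem (mul_mem (zpow_mem (B.hφ ⟨iL, rfl⟩) k) (inv_mem_iff.1 h))) (inv_mem_iff.1 h)
  rw [hfix, Nat.card_eq_fintype_card (α := ({((1 : G) : G ⧸ H)} : Set (G ⧸ H))), Set.card_singleton] at hmod
  rw [Nat.odd_iff, index_eq_card]
  exact hmod

theorem no_conj {K : Subgroup G} (hKH : K ≤ H) (hrel : K.relIndex H = 2) (hiK : φ iL ∉ K) (g : G) :
    g * φ iL * g⁻¹ ∉ K := by
  intro h
  have hg := D.conj_mem B (hKH h)
  haveI : (K.subgroupOf H).Normal := Subgroup.normal_of_index_eq_two hrel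
  exact hiK (by
    have := (inferInstance : (K.subgroupOf H).Normal).conj_mem ⟨_, hKH h⟩ h ⟨g⁻¹, inv_mem hg⟩
    simpa [mem_subgroupOf, mul_assoc] using this)

theorem exists_index_two {K : Subgroup G} (hKH : K ≤ H) (hrel : K.relIndex H = 2) (hiK : φ iL ∉ K) :
    ∃ G0 : Subgroup G, G0.index = 2 ∧ φ iL ∉ G0 := by
  refine Involutions.ThompsonTransfer.exists_index_two_of_no_conj K
    (Involutions.ThompsonTransfer.index_mod_four hKH hrel (D.odd_index B)) (φ iL) ?_ (D.no_conj B hKH hrel hiK)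
  exact orderOf_eq_prime (by rw [pow_two, ← map_mul, small_facts.2.2.1, map_one]) D.i_ne

end Frame

end Cfsg.Agent.EightFour
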