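import Cfsg.Agent.Lib.EightFour.Alt
import Cfsg.Agent.Lib.EightFour.Odd
import Cfsg.Agent.Lib.Coprime.Basic

/-!
# The second configuration: the subgroup of index four over two alternating groups
-/

set_option autoImplicit false
set_option linter.style.haveILetI false
set_option linter.unusedSectionVars false
set_option maxRecDepth 100000
set_option synthInstance.maxSize 10000

namespace Cfsg.Agent.EightFour

open Subgroup
open EightLocal (A5 sigma c3)

theorem dihedral_squares : ¬ ∀ u : DihedralGroup 4, u * u = 1 := by decide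

theorem four_group : ∀ b c : Bool × Bool, ((cond b.1 r5 1 * cond b.2 a5 1 : A5)) =
    cond c.1 r5 1 * cond c.2 a5 1 → b = c := by decide +kernel

variable {G : Type*} [Group G] [Finite G] {P : Sylow 3 G} {φ : L →* G} {t : G}

/-- The hypotheses of the second configuration. -/
structure AltFrame (P : Sylow 3 G) (φ : L →* G) (t : G) : Prop where
  frame : Frame P φ t
  hE : t * φ sL * t = φ rL
  hN : ∀ g, g * φ iL = φ iL * g → g ∈ normalizer ((P : Subgroup G) : Set G)

/-- The product of the two copies. -/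
def Nsub (φ : L →* G) (t : G) : Subgroup G := (ιA φ).range ⊔ (ιB φ t).range

/-- The extension by `i`. -/
def H1sub (φ : L →* G) (t : G) : Subgroup G := Nsub φ t ⊔ zpowers (φ iL)

/-- The extension by `i` and `t`. -/
def Hsub (φ : L →* G) (t : G) : Subgroup G := H1sub φ t ⊔ zpowers t

/-- The extension by `t`. -/
def Ksub (φ : L →* G) (t : G) : Subgroup G := Nsub φ t ⊔ zpowers t

theorem mem_two {u x : G} (hu : u * u = 1) (hx : x ∈ zpowers u) : x = 1 ∨ x = u := by
  obtain ⟨k, rfl⟩ := mem_zpowers_iff.1 hx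
  rw [zpow_eq_zpow_emod k (n := 2) (by rw [zpow_two, hu])]
  rcases Int.emod_two_eq_zero_or_one k with e | e <;> rw [e] <;> simp

theorem zpowers_le_normalizer {u : G} {S : Subgroup G} (hu : u * u = 1) (h : ∀ x ∈ S, u * x * u ∈ S) :
    zpowers u ≤ normalizer (S : Set G) := by
  rw [zpowers_le]
  refine mem_normalizer_iff.2 fun x => ?_
  rw [inv_eq_of_mul_eq_one_left hu]
  refine ⟨h x, fun hx => ?_⟩
  have := h _ hx
  rwa [show u * (u * x * u) * u = u * u * x * (u * u) by group, hu, one_mul, mul_one] at this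

namespace AltFrame

variable (D : AltFrame P φ t)
include D

theorem twist : AltFrame P φ (t * φ iL) := by
  refine ⟨D.frame.twist, ?_, D.hN⟩
  have hti : t * φ iL = φ iL * t := by
    conv_rhs => rw [← D.frame.ti]
    rw [mul_assoc, D.frame.t2, mul_one]
  calc t * φ iL * φ sL * (t * φ iL) = t * φ iL * φ sL * (φ iL * t) := by rw [hti]
    _ = t * φ (iL * sL * iL) * t := by rw [map_mul, map_mul]; group
    _ = φ rL := by
      rw [← small_facts.2.2.2.2.2.2.2.2.1, mul_assoc sL, small_facts.2.2.1, mul_one, D.hE]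

theorem com : ∀ x y : A5, Commute (ιA φ x) (ιB φ t y) := D.frame.commute_copies D.hN D.hE

theorem mem_N {g : G} : g ∈ Nsub φ t ↔ ∃ x y, g = ιA φ x * ιB φ t y := by
  rw [Nsub, ← MonoidHom.noncommCoprod_range (comm := D.com), MonoidHom.mem_range]
  constructor
  · rintro ⟨⟨x, y⟩, rfl⟩; exact ⟨x, y, rfl⟩
  · rintro ⟨x, y, rfl⟩; exact ⟨(x, y), rfl⟩

theorem prod_inj {x y x' y' : A5} (h : ιA φ x * ιB φ t y = ιA φ x' * ιB φ t y') : x = x' ∧ y = y' := by
  have h' : ιA φ (x'⁻¹ * x) = ιB φ t (y' * y⁻¹) := by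
    rw [map_mul, map_mul, map_inv, map_inv]
    calc (ιA φ x')⁻¹ * ιA φ x = (ιA φ x')⁻¹ * (ιA φ x * ιB φ t y) * (ιB φ t y)⁻¹ := by group
      _ = _ := by rw [h]; group
  have hx : x'⁻¹ * x = 1 := by
    refine alt_center _ ?_ ?_ <;>
      exact D.frame.ιA_injective (by rw [map_mul (ιA φ) (x'⁻¹ * x), map_mul (ιA φ) _ (x'⁻¹ * x), h']; exact ((D.com _ _).symm).eq)
  rw [hx, map_one] at h'
  have hy : y' * y⁻¹ = 1 := by
    have hinj : Function.Injective (ιB φ t) := (MulAut.conj t).injective.comp D.frame.ιA_injective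
    exact hinj (h'.symm.trans (map_one _).symm)
  exact ⟨(inv_mul_eq_one.1 hx).symm, (mul_inv_eq_one.1 hy).symm⟩

theorem memA (x : A5) : ιA φ x ∈ Nsub φ t := mem_sup_left ⟨x, rfl⟩

theorem memB (y : A5) : ιB φ t y ∈ Nsub φ t := mem_sup_right ⟨y, rfl⟩

theorem ιB_inv_eq (y : A5) : t * ιB φ t y * t = ιA φ y := by rw [D.frame.ιB_eq, D.frame.ttwice]

theorem t_conj : ∀ x ∈ Nsub φ t, t * x * t ∈ Nsub φ t := fun g hg => by
  obtain ⟨x, y, rfl⟩ := D.mem_N.1 hg
  rw [D.frame.tmul, ← D.frame.ιB_eq, D.ιB_inv_eq]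
  exact mul_mem (D.memB x) (D.memA y)

theorem i_sq : φ iL * φ iL = 1 := by rw [← map_mul, small_facts.2.2.1, map_one]

theorem ti_comm : t * φ iL = φ iL * t := by
  conv_rhs => rw [← D.frame.ti]
  rw [mul_assoc, D.frame.t2, mul_one]

theorem i_conjA (x : A5) : φ iL * ιA φ x * φ iL = φ ((1, Equiv.swap 0 1 * (x : Equiv.Perm (Fin 5)) * Equiv.swap 0 1) : L) := by
  rw [show ιA φ x = φ (emb5 x) from rfl, ← map_mul, ← map_mul]
  exact congrArg φ (Prod.ext (by simp [emb5, iL]) (by simp [emb5, iL]))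

/-- An even second coordinate. -/
theorem pair_mem {x : Equiv.Perm (Fin 5)} (hx : Equiv.Perm.sign x = 1) :
    φ ((1, x) : L) ∈ Nsub φ t :=
  D.memA ⟨x, Equiv.Perm.mem_alternatingGroup.2 hx⟩

theorem i_conjA_mem (x : A5) : ∃ x' : A5, φ iL * ιA φ x * φ iL = ιA φ x' := by
  refine ⟨⟨Equiv.swap 0 1 * (x : Equiv.Perm (Fin 5)) * Equiv.swap 0 1, ?_⟩, ?_⟩
  · rw [Equiv.Perm.mem_alternatingGroup, map_mul, map_mul, Equiv.Perm.mem_alternatingGroup.1 x.2,
      Equiv.Perm.sign_swap (by decide : (0 : Fin 5) ≠ 1)]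
    decide
  · rw [D.i_conjA]; rfl

theorem i_conj : ∀ x ∈ Nsub φ t, φ iL * x * φ iL ∈ Nsub φ t := fun g hg => by
  obtain ⟨x, y, rfl⟩ := D.mem_N.1 hg
  obtain ⟨x', hx⟩ := D.i_conjA_mem x
  obtain ⟨y', hy⟩ := D.i_conjA_mem y
  have : φ iL * (ιA φ x * ιB φ t y) * φ iL = ιA φ x' * ιB φ t y' := by
    rw [D.frame.ιB_eq, D.frame.ιB_eq, ← hx, ← hy]
    calc φ iL * (ιA φ x * (t * ιA φ y * t)) * φ iL
        = φ iL * ιA φ x * (φ iL * φ iL) * (t * ιA φ y * t) * φ iL := by rw [D.i_sq]; group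
      _ = φ iL * ιA φ x * φ iL * ((φ iL * t) * ιA φ y * (t * φ iL)) := by group
      _ = φ iL * ιA φ x * φ iL * ((t * φ iL) * ιA φ y * (φ iL * t)) := by rw [D.ti_comm]
      _ = φ iL * ιA φ x * φ iL * (t * (φ iL * ιA φ y * φ iL) * t) := by group
  rw [this]
  exact mul_mem (D.memA x') (D.memB y')

theorem mem_H1 {g : G} : g ∈ H1sub φ t ↔ ∃ n ∈ Nsub φ t, g = n ∨ g = n * φ iL := by
  rw [H1sub, Coprime.mem_sup_of_le_normalizer (zpowers_le_normalizer D.i_sq D.i_conj)]
  constructor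
  · rintro ⟨n, hn, y, hy, rfl⟩
    rcases mem_two D.i_sq hy with rfl | rfl
    · exact ⟨n, hn, Or.inl (mul_one n)⟩
    · exact ⟨n, hn, Or.inr rfl⟩
  · rintro ⟨n, hn, rfl | rfl⟩
    · exact ⟨_, hn, 1, one_mem _, mul_one _⟩
    · exact ⟨n, hn, _, mem_zpowers _, rfl⟩

theorem t_conjH1 : ∀ x ∈ H1sub φ t, t * x * t ∈ H1sub φ t := fun g hg => by
  obtain ⟨n, hn, rfl | rfl⟩ := D.mem_H1.1 hg
  · exact D.mem_H1.2 ⟨_, D.t_conj _ hn, Or.inl rfl⟩
  · exact D.mem_H1.2 ⟨_, D.t_conj n hn, Or.inr (by rw [D.frame.tmul, D.frame.ti])⟩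

theorem mem_H {g : G} : g ∈ Hsub φ t ↔ ∃ n ∈ H1sub φ t, g = n ∨ g = n * t := by
  rw [Hsub, Coprime.mem_sup_of_le_normalizer (zpowers_le_normalizer D.frame.t2 D.t_conjH1)]
  constructor
  · rintro ⟨n, hn, y, hy, rfl⟩
    rcases mem_two D.frame.t2 hy with rfl | rfl
    · exact ⟨n, hn, Or.inl (mul_one n)⟩
    · exact ⟨n, hn, Or.inr rfl⟩
  · rintro ⟨n, hn, rfl | rfl⟩
    · exact ⟨_, hn, 1, one_mem _, mul_one _⟩
    · exact ⟨n, hn, _, mem_zpowers _, rfl⟩

theorem mem_K {g : G} : g ∈ Ksub φ t ↔ ∃ n ∈ Nsub φ t, g = n ∨ g = n * t := by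
  rw [Ksub, Coprime.mem_sup_of_le_normalizer (zpowers_le_normalizer D.frame.t2 D.t_conj)]
  constructor
  · rintro ⟨n, hn, y, hy, rfl⟩
    rcases mem_two D.frame.t2 hy with rfl | rfl
    · exact ⟨n, hn, Or.inl (mul_one n)⟩
    · exact ⟨n, hn, Or.inr rfl⟩
  · rintro ⟨n, hn, rfl | rfl⟩
    · exact ⟨_, hn, 1, one_mem _, mul_one _⟩
    · exact ⟨n, hn, _, mem_zpowers _, rfl⟩

theorem range_le : φ.range ≤ H1sub φ t := by
  have hfirst : ∀ q : Equiv.Perm (Fin 3), φ ((q, 1) : L) ∈ Nsub φ t := by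
    have hs : φ sL ∈ Nsub φ t := by
      rw [← D.frame.ttwice (φ sL), D.hE, ← D.frame.ιA_gens.2.2, ← D.frame.ιB_eq]
      exact D.memB _
    have hz : φ zL ∈ Nsub φ t := by
      rw [← D.frame.tw, ← D.frame.ιA_gens.1, ← D.frame.ιB_eq]
      exact D.memB _
    intro q
    have hq : q ∈ Submonoid.closure (Set.range fun i : Fin 2 => Equiv.swap i.castSucc i.succ) := by
      rw [Equiv.Perm.mclosure_swap_castSucc_succ 2]; exact Submonoid.mem_top q
    induction hq using Submonoid.closure_induction with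
    | mem y hy =>
      obtain ⟨i, rfl⟩ := hy
      fin_cases i
      · exact hs
      · show φ ((Equiv.swap 1 2, 1) : L) ∈ Nsub φ t
        rw [← first_gens.1, map_mul, map_mul, map_inv]
        exact mul_mem (mul_mem hz hs) (inv_mem hz)
    | one => exact (map_one φ).symm ▸ one_mem (Nsub φ t)
    | mul a b _ _ ha hb =>
      rw [show ((a * b, 1) : L) = (a, 1) * (b, 1) from Prod.ext rfl (one_mul _).symm, map_mul]
      exact mul_mem ha hb
  rintro _ ⟨⟨q, x⟩, rfl⟩
  rw [show ((q, x) : L) = (q, 1) * (1, x) from Prod.ext (mul_one _).symm (one_mul _).symm, map_mul]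
  rcases Int.units_eq_one_or (Equiv.Perm.sign x) with hx | hx
  · exact D.mem_H1.2 ⟨_, mul_mem (hfirst q) (D.pair_mem hx), Or.inl rfl⟩
  · refine D.mem_H1.2 ⟨φ (q, 1) * φ ((1, x * Equiv.swap 0 1) : L),
      mul_mem (hfirst q) (D.pair_mem (by rw [map_mul, hx, Equiv.Perm.sign_swap (by decide : (0 : Fin 5) ≠ 1)]; decide)),
      Or.inr ?_⟩
    rw [← map_mul, ← map_mul, ← map_mul]
    exact congrArg φ (Prod.ext (by simp [iL]) (by simp [iL, mul_assoc]))

theorem i_notin : φ iL ∉ Nsub φ t := by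
  intro h
  obtain ⟨x, y, e⟩ := D.mem_N.1 h
  refine alt_outer x ?_
  have key : ∀ u : A5, (x : Equiv.Perm (Fin 5)) * (u : Equiv.Perm (Fin 5)) * (x : Equiv.Perm (Fin 5))⁻¹ =
      Equiv.swap 0 1 * (u : Equiv.Perm (Fin 5)) * Equiv.swap 0 1 := by
    intro u
    have h1 : φ iL * ιA φ u * (φ iL)⁻¹ = ιA φ (x * u * x⁻¹) := by
      rw [e, map_mul, map_mul, map_inv]
      calc ιA φ x * ιB φ t y * ιA φ u * (ιA φ x * ιB φ t y)⁻¹
          = ιA φ x * (ιB φ t y * ιA φ u * (ιB φ t y)⁻¹) * (ιA φ x)⁻¹ := by group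
        _ = _ := by rw [(D.com u y).symm.eq, mul_inv_cancel_right]
    rw [inv_eq_of_mul_eq_one_left D.i_sq, D.i_conjA] at h1
    exact (congrArg Prod.snd (D.frame.inj h1)).symm
  exact ⟨key sigma, key a5⟩

theorem t_notin : t ∉ H1sub φ t := by
  intro h
  have hfix : ∃ x : A5, t * ιA φ sigma * t = ιA φ x := by
    have key : ∀ n ∈ Nsub φ t, ∀ u : A5, ∃ x : A5, n * ιA φ u * n⁻¹ = ιA φ x := fun n hn u => by
      obtain ⟨a, b, rfl⟩ := D.mem_N.1 hn
      refine ⟨a * u * a⁻¹, ?_⟩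
      rw [map_mul, map_mul, map_inv]
      calc ιA φ a * ιB φ t b * ιA φ u * (ιA φ a * ιB φ t b)⁻¹
          = ιA φ a * (ιB φ t b * ιA φ u * (ιB φ t b)⁻¹) * (ιA φ a)⁻¹ := by group
        _ = _ := by rw [(D.com u b).symm.eq, mul_inv_cancel_right]
    obtain ⟨n, hn, e | e⟩ := D.mem_H1.1 h
    · obtain ⟨x, hx⟩ := key n hn sigma
      rw [← e, D.frame.tinv] at hx
      exact ⟨x, hx⟩
    · obtain ⟨u, hu⟩ := D.i_conjA_mem sigma
      obtain ⟨x, hx⟩ := key n hn u
      refine ⟨x, ?_⟩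
      have : t * ιA φ sigma * t⁻¹ = ιA φ x := by
        rw [e, mul_inv_rev, inv_eq_of_mul_eq_one_left D.i_sq, ← hx, ← hu]; group
      rwa [D.frame.tinv] at this
  obtain ⟨x, hx⟩ := hfix
  rw [D.frame.ιA_gens.1, D.frame.tw, show ιA φ x = φ (emb5 x) from rfl] at hx
  have h1 := congrArg Prod.fst (D.frame.inj hx)
  exact absurd (show EightLocal.c3 = 1 by simpa [zL, emb5] using h1) (by decide +kernel)

theorem not_conj_ru (g : G) (hcn : ((centralizer ((P : Subgroup G) : Set G)).subgroupOf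
      (normalizer ((P : Subgroup G) : Set G))).Normal)
    (eNC : normalizer ((P : Subgroup G) : Set G) ⧸ (centralizer ((P : Subgroup G) : Set G)).subgroupOf
      (normalizer ((P : Subgroup G) : Set G)) ≃* DihedralGroup 4) :
    g * (φ rL * φ sL) * g⁻¹ ≠ φ iL := by
  intro h
  have hr : φ rL = ιA φ r5 := D.frame.ιA_gens.2.2.symm
  have hs : φ sL = ιB φ t r5 := by
    rw [D.frame.ιB_eq, ← hr, ← D.hE, D.frame.ttwice]
  obtain ⟨-, -, -, haa, hrr, har, -⟩ := emb5_facts
  let v : Bool × Bool → A5 := fun b => cond b.1 r5 1 * cond b.2 a5 1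
  have hv : ∀ b, v b * r5 = r5 * v b ∧ v b * v b = 1 := by
    rintro ⟨b1, b2⟩
    cases b1 <;> cases b2 <;> decide +kernel
  let F : (Bool × Bool) × Bool × Bool → normalizer ((P : Subgroup G) : Set G) := fun b =>
    ⟨g * (ιA φ (v b.1) * ιB φ t (v b.2)) * g⁻¹, D.hN _ (by
      rw [← h, hr, hs]
      have e : ιA φ (v b.1) * ιB φ t (v b.2) * (ιA φ r5 * ιB φ t r5) =
          ιA φ r5 * ιB φ t r5 * (ιA φ (v b.1) * ιB φ t (v b.2)) := by
        rw [(D.com r5 (v b.2)).symm.mul_mul_mul_comm, (D.com (v b.1) r5).symm.mul_mul_mul_comm, ← map_mul,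
          ← map_mul, ← map_mul, ← map_mul, (hv _).1, (hv _).1]
      calc g * (ιA φ (v b.1) * ιB φ t (v b.2)) * g⁻¹ * (g * (ιA φ r5 * ιB φ t r5) * g⁻¹)
          = g * (ιA φ (v b.1) * ιB φ t (v b.2) * (ιA φ r5 * ιB φ t r5)) * g⁻¹ := by group
        _ = g * (ιA φ r5 * ιB φ t r5 * (ιA φ (v b.1) * ιB φ t (v b.2))) * g⁻¹ := by rw [e]
        _ = _ := by group)⟩
  have hF : Function.Injective F := by
    intro b c e
    obtain ⟨e1, e2⟩ := D.prod_inj (mul_left_cancel (mul_right_cancel (congrArg Subtype.val e)))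
    exact Prod.ext (four_group _ _ e1) (four_group _ _ e2)
  have hsq : ∀ b, F b * F b = 1 := fun b => Subtype.ext (by
    show g * (ιA φ (v b.1) * ιB φ t (v b.2)) * g⁻¹ * (g * (ιA φ (v b.1) * ιB φ t (v b.2)) * g⁻¹) = 1
    rw [show g * (ιA φ (v b.1) * ιB φ t (v b.2)) * g⁻¹ * (g * (ιA φ (v b.1) * ιB φ t (v b.2)) * g⁻¹) =
      g * ((ιA φ (v b.1) * ιB φ t (v b.2)) * (ιA φ (v b.1) * ιB φ t (v b.2))) * g⁻¹ by group,
      (D.com (v b.1) (v b.2)).symm.mul_mul_mul_comm, ← map_mul, ← map_mul, (hv _).2, (hv _).2, map_one,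
      map_one, one_mul, mul_one, mul_inv_cancel])
  set π := QuotientGroup.mk' ((centralizer ((P : Subgroup G) : Set G)).subgroupOf
      (normalizer ((P : Subgroup G) : Set G))) with hπ
  let Γ : (Bool × Bool) × Bool × Bool → DihedralGroup 4 := fun b => eNC (π (F b))
  have hsurj : Function.Surjective Γ := by
    classical
    suffices hu : Finset.univ.image Γ = Finset.univ by
      intro y
      obtain ⟨b, -, hb⟩ := Finset.mem_image.1 (hu ▸ Finset.mem_univ y)
      exact ⟨b, hb⟩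
    · refine Finset.eq_univ_of_card _ ?_
      have hfib : ∀ u ∈ Finset.univ.image Γ, (Finset.univ.filter fun b => Γ b = u).card ≤ 2 := by
        intro u hu
        obtain ⟨b0, -, rfl⟩ := Finset.mem_image.1 hu
        have hm : ∀ b ∈ Finset.univ.filter (fun b => Γ b = Γ b0),
            ((F b0 * F b : normalizer ((P : Subgroup G) : Set G)) : G) ∈ ({1, φ iL} : Set G) := by
          intro b hb
          have hk : F b0 * F b ∈ (centralizer ((P : Subgroup G) : Set G)).subgroupOf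
              (normalizer ((P : Subgroup G) : Set G)) := by
            rw [← QuotientGroup.eq_one_iff]
            change π (F b0 * F b) = 1
            rw [map_mul, eNC.injective (Finset.mem_filter.1 hb).2, ← map_mul, hsq, map_one]
          have hc := Subgroup.mem_subgroupOf.1 hk
          obtain ⟨a, e | e⟩ := D.frame.centP
            ((mem_centralizer_iff.1 hc _ (dL_facts.1 ▸ D.frame.mem (1, 0))).symm)
            ((mem_centralizer_iff.1 hc _ (dL_facts.2.1 ▸ D.frame.mem (0, 1))).symm)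
          all_goals
            have hsq2 : (g * (ιA φ (v b0.1 * v b.1) * ιB φ t (v b0.2 * v b.2)) * g⁻¹) *
                (g * (ιA φ (v b0.1 * v b.1) * ιB φ t (v b0.2 * v b.2)) * g⁻¹) = 1 := by
              have hvv : ∀ b c : Bool × Bool, v b * v c * (v b * v c) = 1 := by
                rintro ⟨b1, b2⟩ ⟨c1, c2⟩
                cases b1 <;> cases b2 <;> cases c1 <;> cases c2 <;> decide +kernel
              set x1 := v b0.1 * v b.1
              set x2 := v b0.2 * v b.2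
              rw [show g * (ιA φ x1 * ιB φ t x2) * g⁻¹ * (g * (ιA φ x1 * ιB φ t x2) * g⁻¹) =
                g * ((ιA φ x1 * ιB φ t x2) * (ιA φ x1 * ιB φ t x2)) * g⁻¹ by group,
                (D.com x1 x2).symm.mul_mul_mul_comm, ← map_mul, ← map_mul, hvv, hvv, map_one, map_one,
                one_mul, mul_one, mul_inv_cancel]
            have hval : ((F b0 * F b : normalizer ((P : Subgroup G) : Set G)) : G) =
                g * (ιA φ (v b0.1 * v b.1) * ιB φ t (v b0.2 * v b.2)) * g⁻¹ := by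
              rw [map_mul (ιA φ), map_mul (ιB φ t), ← (D.com (v b.1) (v b0.2)).symm.mul_mul_mul_comm]
              show g * _ * g⁻¹ * (g * _ * g⁻¹) = _
              group
            rw [← hval, e, ← map_mul, ← map_one φ] at hsq2
            have h2 := D.frame.inj hsq2
          · left
            rw [e, show dL a = 1 from dL_two a h2, map_one]
          · right
            rw [Set.mem_singleton_iff, e, two_of_cent_P a h2, dL_facts.2.2.2.1, one_mul]
        calc (Finset.univ.filter fun b => Γ b = Γ b0).card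
            ≤ ({1, φ iL} : Finset G).card := by
              refine Finset.card_le_card_of_injOn (fun b => ((F b0 * F b : normalizer ((P : Subgroup G) : Set G)) : G))
                (fun b hb => by simpa using hm b hb) fun b _ c _ e => hF (mul_left_cancel (Subtype.ext e))
          _ ≤ 2 := Finset.card_le_two
      have hle := Finset.card_le_mul_card_image (f := Γ) Finset.univ 2 hfib
      have h16 : (Finset.univ : Finset ((Bool × Bool) × Bool × Bool)).card = 16 := rfl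
      rw [h16] at hle
      have := Finset.card_le_univ (Finset.univ.image Γ)
      rw [DihedralGroup.card] at this ⊢
      omega
  refine dihedral_squares fun u => ?_
  obtain ⟨b, rfl⟩ := hsurj u
  show eNC (π (F b)) * eNC (π (F b)) = 1
  rw [← map_mul, ← map_mul, hsq, map_one, map_one]

theorem big (hcn : ((centralizer ((P : Subgroup G) : Set G)).subgroupOf
      (normalizer ((P : Subgroup G) : Set G))).Normal)
    (eNC : normalizer ((P : Subgroup G) : Set G) ⧸ (centralizer ((P : Subgroup G) : Set G)).subgroupOf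
      (normalizer ((P : Subgroup G) : Set G)) ≃* DihedralGroup 4) :
    Big φ t (Hsub φ t) := by
  have hφ : φ.range ≤ Hsub φ t := D.range_le.trans le_sup_left
  have ht : t ∈ Hsub φ t := mem_sup_right (mem_zpowers t)
  refine ⟨hφ, ht, fun g hg => ?_, ?_⟩
  · obtain ⟨p, -, rfl | rfl⟩ := D.frame.norm_P (D.hN g hg)
    exacts [hφ ⟨p, rfl⟩, mul_mem ht (hφ ⟨p, rfl⟩)]
  intro j hj hjc
  obtain ⟨g, hg⟩ := hjc
  have hj2 : j * j = 1 := by
    rw [← hg, show g * φ iL * g⁻¹ * (g * φ iL * g⁻¹) = g * (φ iL * φ iL) * g⁻¹ by group, D.i_sq, mul_one,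
      mul_inv_cancel]
  obtain ⟨-, -, -, -, -, -, -, -, -, hσo, hσ1, -⟩ := emb5_facts
  have hσ3 : sigma ^ 3 = 1 := orderOf_dvd_iff_pow_eq_one.1 hσo
  have hA1 : ∀ c : A5, c ≠ 1 → ιA φ c ≠ 1 := fun c hc e => hc (D.frame.ιA_injective (e.trans (map_one _).symm))
  obtain ⟨n1, hn1, rfl | rfl⟩ := D.mem_H.1 hj
  · obtain ⟨n, hn, rfl | rfl⟩ := D.mem_H1.1 hn1
    · -- inside the product
      obtain ⟨x, y, rfl⟩ := D.mem_N.1 hn
      by_cases hx : x = 1
      · refine ⟨ιA φ sigma, mem_sup_left (mem_sup_left (D.memA _)),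
          by rw [← map_pow, hσ3, map_one], hA1 _ hσ1, ?_⟩
        rw [hx, map_one, one_mul, (D.com sigma y).eq]
      by_cases hy : y = 1
      · refine ⟨ιB φ t sigma, mem_sup_left (mem_sup_left (D.memB _)),
          by rw [← map_pow, hσ3, map_one], fun e => hA1 _ hσ1 ?_, ?_⟩
        · rw [← D.ιB_inv_eq, e, mul_one, D.frame.t2]
        · rw [hy, map_one, mul_one, (D.com x sigma).eq]
      exfalso
      obtain ⟨hxx, hyy⟩ := D.prod_inj (x := x * x) (y := y * y) (x' := 1) (y' := 1) (by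
        rw [map_mul, map_mul, ← (D.com x y).symm.mul_mul_mul_comm, hj2, map_one, map_one, one_mul])
      obtain ⟨a, ha⟩ := alt_invol x hxx hx
      obtain ⟨b, hb⟩ := alt_invol y hyy hy
      refine D.not_conj_ru (g⁻¹ * (ιA φ a * ιB φ t b)⁻¹) hcn eNC ?_
      have hr : φ rL = ιA φ r5 := D.frame.ιA_gens.2.2.symm
      have hs : φ sL = ιB φ t r5 := by rw [D.frame.ιB_eq, ← hr, ← D.hE, D.frame.ttwice]
      have e : φ rL * φ sL = ιA φ a * ιB φ t b * (ιA φ x * ιB φ t y) * (ιA φ a * ιB φ t b)⁻¹ := by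
        rw [hr, hs]
        nth_rw 1 [← ha]
        nth_rw 1 [← hb]
        simp only [map_mul, map_inv]
        set c := ιB φ t b * ιB φ t y * (ιB φ t b)⁻¹ with hc
        have hac : Commute (ιA φ a)⁻¹ c :=
          ((D.com a b).inv_left.mul_right (D.com a y).inv_left).mul_right (D.com a b).inv_left.inv_right
        have hxb : ιA φ x * ιB φ t b = ιB φ t b * ιA φ x := (D.com x b).eq
        calc ιA φ a * ιA φ x * (ιA φ a)⁻¹ * c = ιA φ a * ιA φ x * c * (ιA φ a)⁻¹ := by
              rw [mul_assoc _ _ c, hac.eq]; group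
          _ = ιA φ a * (ιA φ x * ιB φ t b) * ιB φ t y * (ιB φ t b)⁻¹ * (ιA φ a)⁻¹ := by rw [hc]; group
          _ = _ := by rw [hxb]; group
      rw [e, show φ iL = g⁻¹ * (ιA φ x * ιB φ t y) * g by rw [← hg]; group]
      group
    · -- the coset of `i`
      obtain ⟨x, y, rfl⟩ := D.mem_N.1 hn
      obtain ⟨x', hx'⟩ := D.i_conjA_mem x
      obtain ⟨y', hy'⟩ := D.i_conjA_mem y
      obtain ⟨hxx, -⟩ := D.prod_inj (x := x * x') (y := y * y') (x' := 1) (y' := 1) (by
        have hyB : φ iL * ιB φ t y * φ iL = ιB φ t y' := by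
          rw [D.frame.ιB_eq, D.frame.ιB_eq, ← hy']
          calc φ iL * (t * ιA φ y * t) * φ iL = (φ iL * t) * ιA φ y * (t * φ iL) := by group
            _ = (t * φ iL) * ιA φ y * (φ iL * t) := by rw [D.ti_comm]
            _ = _ := by group
        rw [map_mul, map_mul, ← (D.com x' y).symm.mul_mul_mul_comm, map_one, map_one, one_mul, ← hj2,
          ← hx', ← hyB]
        rw [show φ iL * ιA φ x * φ iL * (φ iL * ιB φ t y * φ iL) =
          φ iL * ιA φ x * (φ iL * φ iL) * ιB φ t y * φ iL by group, D.i_sq, mul_one]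
        group)
      have hx2 : (x : Equiv.Perm (Fin 5)) * Equiv.swap 0 1 * ((x : Equiv.Perm (Fin 5)) * Equiv.swap 0 1) = 1 := by
        have e : φ iL * ιA φ x * φ iL = ιA φ x' := hx'
        rw [D.i_conjA] at e
        have e2 : Equiv.swap 0 1 * (x : Equiv.Perm (Fin 5)) * Equiv.swap 0 1 = (x' : Equiv.Perm (Fin 5)) :=
          congrArg Prod.snd (D.frame.inj e)
        have e3 : (x : Equiv.Perm (Fin 5)) * (x' : Equiv.Perm (Fin 5)) = 1 := congrArg Subtype.val hxx
        rw [← e2] at e3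
        rw [← e3]; group
      obtain ⟨c, hc3, hc1, hcc⟩ := odd_three x hx2
      refine ⟨ιA φ c, mem_sup_left (mem_sup_left (D.memA _)), by rw [← map_pow, hc3, map_one], hA1 _ hc1, ?_⟩
      have hAx : ιA φ c * (ιA φ x * φ iL) = ιA φ x * φ iL * ιA φ c := by
        show φ (emb5 c) * (φ (emb5 x) * φ iL) = φ (emb5 x) * φ iL * φ (emb5 c)
        rw [← map_mul, ← map_mul, ← map_mul]
        exact congrArg φ (Prod.ext (by simp [emb5, iL]) (by simpa [emb5, iL] using hcc))
      calc ιA φ c * (ιA φ x * ιB φ t y * φ iL) = ιA φ c * (ιB φ t y * (ιA φ x * φ iL)) := by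
            rw [(D.com x y).eq]; group
        _ = ιB φ t y * (ιA φ c * (ιA φ x * φ iL)) := by rw [← mul_assoc, (D.com c y).eq, mul_assoc]
        _ = ιB φ t y * (ιA φ x * φ iL) * ιA φ c := by rw [hAx]; group
        _ = ιA φ x * ιB φ t y * φ iL * ιA φ c := by rw [(D.com x y).eq]; group
  · -- the elements exchanging the copies
    have hjinv : (n1 * t)⁻¹ = n1 * t := inv_eq_of_mul_eq_one_left hj2
    have hswap : ∃ y : A5, n1 * t * ιA φ sigma * (n1 * t) = ιB φ t y := by
      have key : ∀ n ∈ Nsub φ t, ∀ u : A5, ∃ x : A5, n * ιB φ t u * n⁻¹ = ιB φ t x := fun n hn u => by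
        obtain ⟨a, b, rfl⟩ := D.mem_N.1 hn
        refine ⟨b * u * b⁻¹, ?_⟩
        rw [map_mul, map_mul, map_inv]
        calc ιA φ a * ιB φ t b * ιB φ t u * (ιA φ a * ιB φ t b)⁻¹
            = ιA φ a * (ιB φ t b * ιB φ t u * (ιB φ t b)⁻¹) * (ιA φ a)⁻¹ := by group
          _ = ιA φ a * ιB φ t (b * u * b⁻¹) * (ιA φ a)⁻¹ := by rw [map_mul, map_mul, map_inv]
          _ = ιB φ t (b * u * b⁻¹) := by rw [(D.com a _).eq, mul_inv_cancel_right]
          _ = _ := by rw [map_mul, map_mul, map_inv]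
      have hconj : n1 * t * ιA φ sigma * (n1 * t) = n1 * ιB φ t sigma * n1⁻¹ := by
        conv_lhs => arg 2; rw [← hjinv, mul_inv_rev, D.frame.tinv]
        rw [D.frame.ιB_eq]; group
      obtain ⟨n, hn, rfl | rfl⟩ := D.mem_H1.1 hn1
      · obtain ⟨x, hx⟩ := key n1 hn sigma
        exact ⟨x, hconj.trans hx⟩
      · obtain ⟨u, hu⟩ := D.i_conjA_mem sigma
        obtain ⟨x, hx⟩ := key n hn u
        refine ⟨x, hconj.trans ?_⟩
        rw [← hx, mul_inv_rev, inv_eq_of_mul_eq_one_left D.i_sq, D.frame.ιB_eq, D.frame.ιB_eq, ← hu]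
        calc n * φ iL * (t * ιA φ sigma * t) * (φ iL * n⁻¹)
            = n * ((φ iL * t) * ιA φ sigma * (t * φ iL)) * n⁻¹ := by group
          _ = n * ((t * φ iL) * ιA φ sigma * (φ iL * t)) * n⁻¹ := by rw [D.ti_comm]
          _ = _ := by group
    obtain ⟨y, hy⟩ := hswap
    have hy3 : ιB φ t y ^ 3 = 1 := by
      rw [← hy]
      conv_lhs => arg 1; arg 2; rw [← hjinv]
      rw [conj_pow, ← map_pow, hσ3, map_one, mul_one, mul_inv_cancel]
    refine ⟨ιA φ sigma * ιB φ t y, mem_sup_left (mem_sup_left (mul_mem (D.memA _) (D.memB _))), ?_, ?_, ?_⟩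
    · rw [(D.com sigma y).mul_pow, hy3, ← map_pow, hσ3, map_one, one_mul]
    · intro e
      exact hσ1 (D.prod_inj (x := sigma) (y := y) (x' := 1) (y' := 1)
        (by rw [e, map_one, map_one, one_mul])).1
    · have e1 : ιB φ t y * (n1 * t) = n1 * t * ιA φ sigma := by
        rw [← hy, mul_assoc, hj2, mul_one]
      have e2 : ιA φ sigma * (n1 * t) = n1 * t * ιB φ t y := by
        rw [← hy, show n1 * t * (n1 * t * ιA φ sigma * (n1 * t)) = (n1 * t * (n1 * t)) * ιA φ sigma * (n1 * t) by group,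
          hj2, one_mul]
      rw [mul_assoc, e1, ← mul_assoc, e2, mul_assoc]
      rw [← (D.com sigma y).eq]

theorem N_le_K : Nsub φ t ≤ Ksub φ t := le_sup_left

theorem K_le_H : Ksub φ t ≤ Hsub φ t := sup_le (le_sup_left.trans le_sup_left) le_sup_right

theorem i_notin_K : φ iL ∉ Ksub φ t := fun h => by
  obtain ⟨n, hn, e | e⟩ := D.mem_K.1 h
  · exact D.i_notin (e ▸ hn)
  · refine D.t_notin ?_
    have h2 : n⁻¹ * φ iL ∈ H1sub φ t := mul_mem (inv_mem (mem_sup_left hn)) (mem_sup_right (mem_zpowers _))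
    rwa [e, inv_mul_cancel_left] at h2

theorem relIndex_K : (Ksub φ t).relIndex (Hsub φ t) = 2 := by
  rw [relIndex, index_eq_two_iff]
  have hiH : φ iL ∈ Hsub φ t := mem_sup_left (mem_sup_right (mem_zpowers _))
  refine ⟨⟨φ iL, hiH⟩, fun b => ?_⟩
  simp only [mem_subgroupOf, Subgroup.coe_mul]
  obtain ⟨n1, hn1, hb⟩ := D.mem_H.1 b.2
  obtain ⟨n, hn, hn1'⟩ := D.mem_H1.1 hn1
  have hnK : n ∈ Ksub φ t := N_le_K D hn
  have htK : t ∈ Ksub φ t := mem_sup_right (mem_zpowers t)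
  have hi := D.i_notin_K
  rcases hn1' with rfl | rfl <;> rcases hb with e | e <;> rw [e]
  · exact Or.inr ⟨hnK, fun h => hi ((mul_mem_cancel_left hnK).1 h)⟩
  · exact Or.inr ⟨mul_mem hnK htK, fun h => hi ((mul_mem_cancel_left (mul_mem hnK htK)).1 h)⟩
  · refine Or.inl ⟨by rw [mul_assoc, D.i_sq, mul_one]; exact hnK, fun h => hi ((mul_mem_cancel_left hnK).1 h)⟩
  · refine Or.inl ⟨?_, fun h => hi ?_⟩
    · rw [show n * φ iL * t * φ iL = n * (φ iL * t * φ iL) by group, ← D.ti_comm, mul_assoc t, D.i_sq, mul_one]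
      exact mul_mem hnK htK
    · rw [mul_assoc, mul_mem_cancel_left hnK] at h
      exact (mul_mem_cancel_right htK).1 h

end AltFrame

end Cfsg.Agent.EightFour
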