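import Cfsg.Agent.Lib.EightFour.AltTop
import Cfsg.Agent.Lib.Components.Fitting

/-!
# The second configuration: conclusion
-/

set_option autoImplicit false
set_option linter.style.haveILetI false
set_option linter.unusedSectionVars false
set_option maxRecDepth 100000
set_option synthInstance.maxSize 10000

namespace Cfsg.Agent.EightFour

open Subgroup
open EightLocal (A5)
open Cfsg.Agent.Components

theorem quasisimple_A5 : Cfsg.IsQuasisimple A5 := by
  haveI := alternatingGroup.isSimpleGroup (α := Fin 5) (by simp)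
  have hp : Group.IsPerfect A5 := by
    refine ⟨((inferInstance : (commutator A5).Normal).eq_bot_or_eq_top).resolve_left fun h => ?_⟩
    have hz := (_root_.commutator_eq_bot_iff_center_eq_top A5).1 h
    have hc : ∀ a : A5, r5 * a = a * r5 := fun a =>
      (Subgroup.mem_center_iff.1 (hz ▸ mem_top r5) a).symm
    exact emb5_facts.2.2.2.2.2.2.2.1 (alt_center r5 (hc _) (hc _))
  refine Basic.isQuasisimple_of_normal hp inferInstance fun M hM => ?_
  rcases hM.eq_bot_or_eq_top with h | h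
  · exact Or.inr (h ▸ bot_le)
  · exact Or.inl h

variable {G : Type*} [Group G] [Finite G] {P : Sylow 3 G} {φ : L →* G} {t : G} {G0 K0 : Subgroup G}

namespace AltFrame

variable (D : AltFrame P φ t) (B : Big φ t (Hsub φ t)) (S : Split φ t G0 K0)
include D B S

theorem N_normal : (Nsub φ t).Normal := by
  refine normalizer_eq_top_iff.1 (eq_top_iff.2 ?_)
  rw [← D.top B S]
  exact sup_le (sup_le le_normalizer (zpowers_le_normalizer D.i_sq D.i_conj))
    (zpowers_le_normalizer D.frame.t2 D.t_conj)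

theorem cosets (g : G) : ∃ n ∈ Nsub φ t, ∃ c, (c = 1 ∨ c = φ iL ∨ c = t ∨ c = φ iL * t) ∧ g = n * c := by
  obtain ⟨n1, hn1, h⟩ := D.mem_H.1 (D.top B S ▸ mem_top g : g ∈ Hsub φ t)
  obtain ⟨n, hn, rfl | rfl⟩ := D.mem_H1.1 hn1 <;> rcases h with rfl | rfl
  · exact ⟨g, hn, 1, Or.inl rfl, (mul_one g).symm⟩
  · exact ⟨n1, hn, t, Or.inr (Or.inr (Or.inl rfl)), rfl⟩
  · exact ⟨n, hn, _, Or.inr (Or.inl rfl), rfl⟩
  · exact ⟨n, hn, _, Or.inr (Or.inr (Or.inr rfl)), mul_assoc _ _ _⟩

theorem sq_mem (g : G) : g ^ 2 ∈ Nsub φ t := by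
  haveI := D.N_normal B S
  obtain ⟨n, hn, c, hc, rfl⟩ := D.cosets B S g
  have hc2 : c * c = 1 := by
    rcases hc with rfl | rfl | rfl | rfl
    · exact one_mul 1
    · exact D.i_sq
    · exact D.frame.t2
    · rw [show φ iL * t * (φ iL * t) = φ iL * (t * φ iL) * t by group, D.ti_comm,
        show φ iL * (φ iL * t) * t = φ iL * φ iL * (t * t) by group, D.i_sq, D.frame.t2, one_mul]
  rw [pow_two, show n * c * (n * c) = n * (c * n * c⁻¹) * (c * c) by group, hc2, mul_one]
  exact mul_mem hn (Subgroup.Normal.conj_mem inferInstance n hn c)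

theorem index_N : (Nsub φ t).index = 4 := by
  have hG : Nat.card G = 14400 := by
    rw [← D.card_H, D.top B S, Nat.card_congr Subgroup.topEquiv.toEquiv]
  have := card_mul_index (Nsub φ t)
  rw [D.card_N, hG] at this
  omega

theorem minimal (K : Subgroup G) (hK : K.Normal) (hKN : K ≤ Nsub φ t) : K = ⊥ ∨ K = Nsub φ t := by
  haveI := alternatingGroup.isSimpleGroup (α := Fin 5) (by simp)
  have hswap : ∀ x : A5, ιA φ x ∈ K ↔ ιB φ t x ∈ K := fun x => by
    rw [D.frame.ιB_eq]
    refine ⟨fun h => ?_, fun h => ?_⟩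
    · have := hK.conj_mem _ h t; rwa [D.frame.tinv] at this
    · have := hK.conj_mem _ h t
      rwa [D.frame.tinv, D.frame.ttwice] at this
  haveI : (K.comap (ιA φ)).Normal := hK.comap _
  rcases (inferInstance : (K.comap (ιA φ)).Normal).eq_bot_or_eq_top with hb | ht
  · left
    refine (eq_bot_iff_forall _).2 fun g hg => ?_
    obtain ⟨x, y, rfl⟩ := D.mem_N.1 (hKN hg)
    have hx : ∀ u : A5, x * u = u * x := fun u => by
      have h := mul_mem hg (hK.conj_mem _ (inv_mem hg) (ιA φ u))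
      have e : ιA φ x * ιB φ t y * (ιA φ u * (ιA φ x * ιB φ t y)⁻¹ * (ιA φ u)⁻¹) =
          ιA φ (x * u * x⁻¹ * u⁻¹) := by
        have h1 := D.conj_pair x y u 1
        simp only [map_one, mul_one, mul_inv_cancel] at h1
        rw [map_mul _ (x * u * x⁻¹), map_inv _ u, ← h1]; group
      rw [e] at h
      have h2 : x * u * x⁻¹ * u⁻¹ ∈ K.comap (ιA φ) := h
      rw [hb, mem_bot] at h2
      exact mul_inv_eq_iff_eq_mul.1 (mul_inv_eq_one.1 h2)
    obtain rfl : x = 1 := alt_center x (hx _) (hx _)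
    rw [map_one, one_mul] at hg ⊢
    have : y ∈ K.comap (ιA φ) := (hswap y).2 hg
    rw [hb, mem_bot] at this
    rw [this, map_one]
  · right
    refine le_antisymm hKN (sup_le ?_ ?_) <;> rintro _ ⟨x, rfl⟩
    · exact (ht ▸ mem_top x : x ∈ K.comap (ιA φ))
    · exact (hswap x).1 (ht ▸ mem_top x : x ∈ K.comap (ιA φ))

theorem cent_N : centralizer (Nsub φ t : Set G) ≤ Nsub φ t := by
  intro g hg
  have hr : ∀ u, g * ιA φ u = ιA φ u * g := fun u => (mem_centralizer_iff.1 hg _ (D.memA u)).symm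
  obtain ⟨x, y, rfl | rfl⟩ := D.H_cent_r (D.top B S ▸ mem_top g) (hr r5)
  · exact mul_mem (D.memA x) (D.memB y)
  · exact absurd ⟨D.i_coset_comm (hr r5), D.i_coset_comm (hr a5)⟩ (no_odd_four x)

theorem genFitting : Cfsg.generalizedFittingSubgroup G = Nsub φ t := by
  haveI := D.N_normal B S
  have hsubA : ((ιA φ).range.subgroupOf (Nsub φ t)).Normal := by
    refine ⟨fun m hm k => ?_⟩
    obtain ⟨u, hu⟩ := mem_subgroupOf.1 hm
    obtain ⟨x, y, e⟩ := D.mem_N.1 k.2
    refine mem_subgroupOf.2 ⟨x * u * x⁻¹, ?_⟩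
    have h1 := D.conj_pair x y u 1
    simp only [map_one, mul_one, mul_inv_cancel] at h1
    rw [← h1, ← e, hu]; rfl
  have hsubB : ((ιB φ t).range.subgroupOf (Nsub φ t)).Normal := by
    refine ⟨fun m hm k => ?_⟩
    obtain ⟨u, hu⟩ := mem_subgroupOf.1 hm
    obtain ⟨x, y, e⟩ := D.mem_N.1 k.2
    refine mem_subgroupOf.2 ⟨y * u * y⁻¹, ?_⟩
    have h1 := D.conj_pair x y 1 u
    simp only [map_one, one_mul, mul_one, mul_inv_cancel] at h1
    rw [← h1, ← e, hu]; rfl
  have hA : Cfsg.IsComponent (ιA φ).range :=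
    ⟨IsSubnormal.trans le_sup_left hsubA.isSubnormal (D.N_normal B S).isSubnormal,
      Basic.quasisimple_of_mulEquiv (MonoidHom.ofInjective D.frame.ιA_injective) quasisimple_A5⟩
  have hB : Cfsg.IsComponent (ιB φ t).range :=
    ⟨IsSubnormal.trans le_sup_right hsubB.isSubnormal (D.N_normal B S).isSubnormal,
      Basic.quasisimple_of_mulEquiv (MonoidHom.ofInjective D.ιB_injective) quasisimple_A5⟩
  have hcen : ∀ {g : Subgroup G}, ⁅g, (ιA φ).range⁆ = ⊥ → ⁅g, (ιB φ t).range⁆ = ⊥ → g ≤ Nsub φ t := fun h1 h2 => by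
    refine le_trans ?_ (D.cent_N B S)
    rw [le_centralizer_iff]
    exact sup_le (le_centralizer_iff.1 (commutator_eq_bot_iff_le_centralizer.1 h1))
      (le_centralizer_iff.1 (commutator_eq_bot_iff_le_centralizer.1 h2))
  refine le_antisymm (sup_le (Basic.layer_le fun L hL => ?_) ?_)
    (sup_le (Fitting.component_le_genFitting hA) (Fitting.component_le_genFitting hB))
  · by_cases h1 : L = (ιA φ).range
    · exact h1 ▸ le_sup_left
    by_cases h2 : L = (ιB φ t).range
    · exact h2 ▸ le_sup_right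
    exact hcen (Basic.component_commutator_eq_bot_of_ne hL hA h1) (Basic.component_commutator_eq_bot_of_ne hL hB h2)
  · refine hcen ?_ ?_ <;> rw [commutator_comm]
    exacts [Fitting.component_commutator_fitting hA, Fitting.component_commutator_fitting hB]

theorem equiv_N : Nonempty (Nsub φ t ≃* A5 × A5) :=
  ⟨((MonoidHom.ofInjective D.both_injective).trans
    (MulEquiv.subgroupCongr (MonoidHom.noncommCoprod_range (comm := D.com)))).symm⟩

omit B S in
theorem conclusion (hcn : ((centralizer ((P : Subgroup G) : Set G)).subgroupOf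
      (normalizer ((P : Subgroup G) : Set G))).Normal)
    (eNC : normalizer ((P : Subgroup G) : Set G) ⧸ (centralizer ((P : Subgroup G) : Set G)).subgroupOf
      (normalizer ((P : Subgroup G) : Set G)) ≃* DihedralGroup 4) :
    ∃ N : Subgroup G, N.Normal ∧ Cfsg.generalizedFittingSubgroup G = N ∧
      Nonempty (N ≃* alternatingGroup (Fin 5) × alternatingGroup (Fin 5)) ∧
      (∀ K : Subgroup G, K.Normal → K ≤ N → K = ⊥ ∨ K = N) ∧ N.index = 4 ∧ ∀ g : G, g ^ 2 ∈ N := by
  obtain ⟨t', G0, K0, D', B', S'⟩ := D.exists_split (D.big hcn eNC)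
  exact ⟨Nsub φ t', D'.N_normal B' S', D'.genFitting B' S', D'.equiv_N B' S', D'.minimal B' S',
    D'.index_N B' S', D'.sq_mem B' S'⟩

end AltFrame

end Cfsg.Agent.EightFour
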