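import Cfsg.Agent.Lib.EightFour.AltGroup
import Cfsg.Agent.S3331

/-!
# The second configuration: a subgroup of index four containing the two copies
-/

set_option autoImplicit false
set_option linter.style.haveILetI false
set_option linter.unusedSectionVars false
set_option maxRecDepth 100000
set_option synthInstance.maxSize 10000

namespace Cfsg.Agent.EightFour

open Subgroup
open EightLocal (A5 c3)

/-- The centralizer of an involution of the alternating group of degree five. -/
def four5 : Subgroup A5 := centralizer ({r5} : Set A5)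

theorem card_four5 : Nat.card four5 = 4 := by
  have h : Fintype.card {x : A5 // x * r5 = r5 * x} = 4 := by decide +kernel
  rw [← h, ← Nat.card_eq_fintype_card]
  exact Nat.card_congr (Equiv.subtypeEquivRight fun x => mem_centralizer_singleton_iff)

theorem card_A5 : Nat.card A5 = 60 := by
  rw [Nat.card_eq_fintype_card]; decide +kernel

theorem card_seven : Nat.card SelfThree.SLSeven = 336 := by
  rw [Nat.card_eq_fintype_card]; decide +kernel

theorem sigma_three : (EightLocal.sigma : A5) ^ 3 = 1 ∧ (EightLocal.sigma : A5) ≠ 1 ∧ (EightLocal.sigma * a5) ^ 5 = 1 :=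
  ⟨orderOf_dvd_iff_pow_eq_one.1 emb5_facts.2.2.2.2.2.2.2.2.2.1, emb5_facts.2.2.2.2.2.2.2.2.2.2.1,
    emb5_facts.2.2.2.2.2.2.2.2.2.2.2.1⟩

/-- A group with a self-centralizing element of order three inside a copy of the alternating group of degree
five, and small two-part, has order sixty. -/
theorem sixty {Q : Type*} [Group Q] [Finite Q] (f : A5 →* Q) (hf : Function.Injective f)
    (hs : ∀ g, g * f EightLocal.sigma = f EightLocal.sigma * g → g ∈ zpowers (f EightLocal.sigma)) (h32 : ¬ 32 ∣ Nat.card Q) :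
    Nat.card Q = 60 := by
  haveI : Fact (Nat.Prime 3) := ⟨Nat.prime_three⟩
  obtain ⟨hσ3, hσ1, -⟩ := sigma_three
  have hX : Nat.card (zpowers (f EightLocal.sigma)) = 3 := by
    rw [Nat.card_zpowers, orderOf_injective f hf, orderOf_eq_prime hσ3 hσ1]
  have hC : centralizer (zpowers (f EightLocal.sigma) : Set Q) = zpowers (f EightLocal.sigma) := by
    refine le_antisymm (fun g hg => hs g (mem_centralizer_iff.1 hg _ (mem_zpowers _)).symm) fun g hg => ?_
    refine mem_centralizer_iff.2 fun x hx => ?_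
    obtain ⟨k, rfl⟩ := mem_zpowers_iff.1 hg
    obtain ⟨l, rfl⟩ := mem_zpowers_iff.1 hx
    exact (Commute.zpow_zpow_self (f EightLocal.sigma) l k).eq
  have h60 : 60 ∣ Nat.card Q := card_A5 ▸ card_dvd_of_injective f hf
  rcases Cfsg.Agent.S3331.result (zpowers (f EightLocal.sigma)) hX hC with
    ⟨N, hN, -, hco, hq⟩ | ⟨N, hN, hNc, hN2, ⟨e⟩⟩ | h3
  · exfalso
    haveI := alternatingGroup.isSimpleGroup (α := Fin 5) (by simp)
    have hk : 60 ∣ Nat.card N := by
      rcases (inferInstance : ((QuotientGroup.mk' N).comp f).ker.Normal).eq_bot_or_eq_top with h | h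
      · have := card_dvd_of_injective _ ((MonoidHom.ker_eq_bot_iff _).1 h)
        rcases hq with hq | ⟨⟨e⟩⟩
        · rw [card_A5, hq] at this; norm_num at this
        · rw [card_A5, Nat.card_congr e.toEquiv, Nat.card_perm, Nat.card_eq_fintype_card,
            Fintype.card_fin] at this
          norm_num [Nat.factorial] at this
      · have hmem : ∀ x, f x ∈ N := fun x =>
          (QuotientGroup.eq_one_iff _).1 (MonoidHom.mem_ker.1 (h.symm ▸ mem_top x))
        rw [← card_A5]
        exact card_dvd_of_injective (f.codRestrict N hmem) fun x y e => hf (congrArg Subtype.val e)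
    have := Nat.eq_one_of_dvd_coprimes hco (k := 3) (dvd_trans (by norm_num) hk) dvd_rfl
    norm_num at this
  · haveI := hN
    have hcard : Nat.card Q = 60 * Nat.card N := by
      rw [card_eq_card_quotient_mul_card_subgroup N, Nat.card_congr e.toEquiv]
      exact congrArg (· * Nat.card N) card_A5
    obtain ⟨k, hk⟩ := IsPGroup.iff_card.1 (show IsPGroup 2 N from fun n =>
      ⟨1, Subtype.ext (by simpa using hN2 n n.2)⟩)
    rcases Nat.lt_or_ge k 3 with hk3 | hk3
    swap
    · refine absurd ?_ h32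
      rw [hcard, hk, ← Nat.sub_add_cancel hk3, pow_add]
      exact ⟨2 ^ (k - 3) * 15, by ring⟩
    have hN4 : Nat.card N ≤ 4 := by
      rw [hk]; exact (Nat.pow_le_pow_right (by norm_num) (show k ≤ 2 by omega)).trans (by norm_num)
    -- the alternating group acts trivially
    let ρ : A5 →* MulAut N := MulAut.conjNormal.comp f
    haveI := alternatingGroup.isSimpleGroup (α := Fin 5) (by simp)
    have hρ : ρ.ker = ⊤ := by
      refine (ρ.normal_ker.eq_bot_or_eq_top).resolve_left fun h => ?_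
      have hinj : Function.Injective ((MulAction.toPermHom (MulAut N) N).comp ρ) :=
        (MulAction.toPerm_injective (α := MulAut N) (β := N)).comp ((MonoidHom.ker_eq_bot_iff _).1 h)
      have := Nat.le_of_dvd Nat.card_pos (card_dvd_of_injective _ hinj)
      rw [card_A5, Nat.card_perm] at this
      have : (60 : ℕ) ≤ 24 := this.trans ((Nat.factorial_le hN4).trans (by decide))
      omega
    have hN1 : N = ⊥ := by
      refine (eq_bot_iff_forall _).2 fun n hn => ?_
      have hfix : f EightLocal.sigma * n * (f EightLocal.sigma)⁻¹ = n := by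
        have hm : ρ EightLocal.sigma = 1 := MonoidHom.mem_ker.1 (hρ.symm ▸ mem_top _)
        exact congrArg Subtype.val (DFunLike.congr_fun hm ⟨n, hn⟩)
      have hz := hs n (mul_inv_eq_iff_eq_mul.1 hfix).symm
      have h1 := orderOf_dvd_natCard (⟨n, hz⟩ : zpowers (f EightLocal.sigma))
      rw [hX, orderOf_mk] at h1
      have h2 : orderOf n ∣ 2 := orderOf_dvd_of_pow_eq_one (hN2 n hn)
      exact orderOf_eq_one_iff.1 (Nat.eq_one_of_dvd_coprimes (by norm_num : Nat.Coprime 2 3) h2 h1)
    rw [hcard, hN1, card_bot, mul_one]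
  · exfalso
    obtain ⟨e⟩ := h3
    have h168 : Nat.card Q ∣ 336 := by
      rw [Nat.card_congr e.toEquiv, ← card_seven]
      exact card_quotient_dvd_card _
    have := h60.trans h168
    norm_num at this

theorem card_of_two_cosets {G : Type*} [Group G] {S T : Subgroup G} {u : G}
    (h : ∀ g, g ∈ T ↔ ∃ n ∈ S, g = n ∨ g = n * u) (hu : u ∉ S) : Nat.card T = 2 * Nat.card S := by
  let F : S × Bool → T := fun x => ⟨x.1.1 * (if x.2 then u else 1), (h _).2 ⟨x.1.1, x.1.2, by
    cases x.2 <;> simp⟩⟩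
  have hF : Function.Bijective F := by
    constructor
    · rintro ⟨a, b⟩ ⟨a', b'⟩ e
      have e' : a.1 * (if b then u else 1) = a'.1 * (if b' then u else 1) := congrArg Subtype.val e
      cases b <;> cases b' <;> simp only [if_true, Bool.false_eq_true, if_false, mul_one] at e'
      · exact Prod.ext (Subtype.ext e') rfl
      · exact absurd (by rw [show u = a'.1⁻¹ * a.1 by rw [e', inv_mul_cancel_left]]
                         exact mul_mem (inv_mem a'.2) a.2) hu
      · exact absurd (by rw [show u = a.1⁻¹ * a'.1 by rw [← e', inv_mul_cancel_left]]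
                         exact mul_mem (inv_mem a.2) a'.2) hu
      · exact Prod.ext (Subtype.ext (mul_right_cancel e')) rfl
    · rintro ⟨g, hg⟩
      obtain ⟨n, hn, e | e⟩ := (h g).1 hg
      · exact ⟨(⟨n, hn⟩, false), Subtype.ext (by simp [F, e])⟩
      · exact ⟨(⟨n, hn⟩, true), Subtype.ext (by simp [F, e])⟩
  rw [← Nat.card_eq_of_bijective F hF, Nat.card_prod, Nat.card_eq_fintype_card (α := Bool), Fintype.card_bool,
    mul_comm]

variable {G : Type*} [Group G] [Finite G] {P : Sylow 3 G} {φ : L →* G} {t : G}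

namespace AltFrame

variable (D : AltFrame P φ t)
include D

/-- The product map of the two copies. -/
def both : A5 × A5 →* G := MonoidHom.noncommCoprod (ιA φ) (ιB φ t) D.com

theorem both_apply (x y : A5) : D.both (x, y) = ιA φ x * ιB φ t y := rfl

theorem both_injective : Function.Injective D.both := fun p q e => by
  obtain ⟨h1, h2⟩ := D.prod_inj (x := p.1) (y := p.2) (x' := q.1) (y' := q.2) e
  exact Prod.ext h1 h2

theorem card_N : Nat.card (Nsub φ t) = 3600 := by
  have h : Nsub φ t = D.both.range := (MonoidHom.noncommCoprod_range (comm := D.com)).symm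
  rw [h, ← Nat.card_congr (MonoidHom.ofInjective D.both_injective).toEquiv, Nat.card_prod, card_A5]

theorem card_H : Nat.card (Hsub φ t) = 14400 := by
  rw [card_of_two_cosets (fun g => D.mem_H) D.t_notin, card_of_two_cosets (fun g => D.mem_H1) D.i_notin,
    D.card_N]

theorem ιA_r5 : ιA φ r5 = φ rL := D.frame.ιA_gens.2.2

theorem ιB_r5 : ιB φ t r5 = φ sL := by rw [D.frame.ιB_eq, D.ιA_r5, ← D.hE, D.frame.ttwice]

theorem t_swap (x y : A5) : t * (ιA φ x * ιB φ t y) * t = ιA φ y * ιB φ t x := by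
  rw [D.frame.tmul, ← D.frame.ιB_eq, D.ιB_inv_eq, (D.com y x).eq]

/-- Conjugation inside the product is componentwise. -/
theorem conj_pair (a b x y : A5) : ιA φ a * ιB φ t b * (ιA φ x * ιB φ t y) * (ιA φ a * ιB φ t b)⁻¹ =
    ιA φ (a * x * a⁻¹) * ιB φ t (b * y * b⁻¹) := by
  rw [← D.both_apply, ← D.both_apply, ← D.both_apply, ← map_inv, ← map_mul, ← map_mul]
  rfl

theorem N_classes {n : G} (hn : n ∈ Nsub φ t) (h2 : n * n = 1) (h1 : n ≠ 1) :
    ∃ c ∈ Nsub φ t, c * n * c⁻¹ = ιA φ r5 ∨ c * n * c⁻¹ = ιB φ t r5 ∨ c * n * c⁻¹ = ιA φ r5 * ιB φ t r5 := by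
  obtain ⟨x, y, rfl⟩ := D.mem_N.1 hn
  obtain ⟨hxx, hyy⟩ := D.prod_inj (x := x * x) (y := y * y) (x' := 1) (y' := 1) (by
    rw [map_mul, map_mul, ← (D.com x y).symm.mul_mul_mul_comm, h2, map_one, map_one, one_mul])
  obtain ⟨a, ha⟩ : ∃ a : A5, a * x * a⁻¹ = if x = 1 then 1 else r5 := by
    by_cases hx : x = 1
    · exact ⟨1, by simp [hx]⟩
    · obtain ⟨a, ha⟩ := alt_invol x hxx hx
      exact ⟨a, by rw [ha, if_neg hx]⟩
  obtain ⟨b, hb⟩ : ∃ b : A5, b * y * b⁻¹ = if y = 1 then 1 else r5 := by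
    by_cases hy : y = 1
    · exact ⟨1, by simp [hy]⟩
    · obtain ⟨b, hb⟩ := alt_invol y hyy hy
      exact ⟨b, by rw [hb, if_neg hy]⟩
  refine ⟨_, mul_mem (D.memA a) (D.memB b), ?_⟩
  rw [D.conj_pair, ha, hb]
  by_cases hx : x = 1
  · by_cases hy : y = 1
    · exact absurd (by rw [hx, hy, map_one, map_one, one_mul]) h1
    · rw [if_pos hx, if_neg hy, map_one, one_mul]; exact Or.inr (Or.inl rfl)
  · by_cases hy : y = 1
    · rw [if_neg hx, if_pos hy, map_one, mul_one]; exact Or.inl rfl
    · rw [if_neg hx, if_neg hy]; exact Or.inr (Or.inr rfl)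

variable (B : Big φ t (Hsub φ t)) {G0 : Subgroup G}
include B

theorem card_G : ∃ m, Nat.card G = 14400 * m ∧ Odd m :=
  ⟨_, by rw [← D.card_H, card_mul_index], D.frame.odd_index B⟩

omit B in
theorem copies_le {S : Subgroup G} (h : ∀ g : G, (g ^ 3 = 1 ∨ g ^ 5 = 1) → g ∈ S) : Nsub φ t ≤ S := by
  obtain ⟨hσ3, hσ1, h5⟩ := sigma_three
  refine sup_le ?_ ?_ <;> rintro _ ⟨x, rfl⟩
  · have htop := a5_top_of (S.comap (ιA φ)) (h _ (Or.inl (by rw [← map_pow, hσ3, map_one])))
      (h _ (Or.inr (by rw [← map_pow, h5, map_one]))) h5 emb5_facts.2.2.2.2.2.2.2.2.2.2.2.2.1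
    exact (htop ▸ mem_top x : x ∈ S.comap (ιA φ))
  · have htop := a5_top_of (S.comap (ιB φ t)) (h _ (Or.inl (by rw [← map_pow, hσ3, map_one])))
      (h _ (Or.inr (by rw [← map_pow, h5, map_one]))) h5 emb5_facts.2.2.2.2.2.2.2.2.2.2.2.2.1
    exact (htop ▸ mem_top x : x ∈ S.comap (ιB φ t))

omit B in
theorem odd_mem (h0 : G0.index = 2) : ∀ g : G, (g ^ 3 = 1 ∨ g ^ 5 = 1) → g ∈ G0 := by
  rintro g (h | h)
  · rw [show g = (g ^ 2) ^ 2 by rw [← pow_mul]; exact (by rw [pow_succ, h, one_mul])]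
    exact Subgroup.sq_mem_of_index_two h0 _
  · rw [show g = (g ^ 3) ^ 2 by rw [← pow_mul]; exact (by rw [pow_succ, h, one_mul])]
    exact Subgroup.sq_mem_of_index_two h0 _

/-- The exchange is conjugate to no element of the product. -/
theorem no_t_conj (h0 : G0.index = 2) (hi0 : φ iL ∉ G0) (ht0 : t ∈ G0) (g : G) :
    g * t * g⁻¹ ∉ Nsub φ t := by
  intro hm
  haveI : G0.Normal := normal_of_index_eq_two h0
  obtain ⟨hd10, hd01, hd11, -⟩ := dL_facts
  have hty : t * φ (zL * wL) = φ (zL * wL) * t := by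
    refine mul_inv_eq_iff_eq_mul.1 ?_
    rw [D.frame.tinv, map_mul, D.frame.tmul, D.frame.tz, D.frame.tw, ← map_mul, ← map_mul,
      small_facts.2.2.2.2.2.2.2.2.2.2.2.2.2.1]
  have hnr : ∀ k : G, k * t * k⁻¹ ≠ φ rL := fun k h => by
    refine D.frame.r_not_y (g := k⁻¹) (k := 1) ?_
    rw [← h, inv_inv, show k⁻¹ * (k * t * k⁻¹) * k = t by group, one_mul, inv_one, mul_one, hty]
  have h2 : g * t * g⁻¹ * (g * t * g⁻¹) = 1 := by
    rw [show g * t * g⁻¹ * (g * t * g⁻¹) = g * (t * t) * g⁻¹ by group, D.frame.t2]; group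
  have h1 : g * t * g⁻¹ ≠ 1 := fun e => D.t_notin (by rw [conj_eq_one_iff.1 e]; exact one_mem _)
  obtain ⟨c, -, e | e | e⟩ := D.N_classes hm h2 h1
  · refine hnr (c * g) ?_
    rw [← D.ιA_r5, ← e]; group
  · refine hnr (t * (c * g)) ?_
    rw [← D.ιA_r5, ← D.ιB_inv_eq, ← e, mul_inv_rev, D.frame.tinv]; group
  obtain ⟨k, hk⟩ : ∃ k : G, k * t * k⁻¹ = ιA φ r5 * ιB φ t r5 := ⟨c * g, by rw [← e]; group⟩
  have hN0 : Nsub φ t ≤ G0 := D.copies_le (odd_mem D h0)
  set X : Subgroup G := G0 ⊓ centralizer ({t} : Set G) with hXdef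
  have memX : ∀ {x : G}, x ∈ G0 → x * t = t * x → x ∈ X := fun h h' =>
    ⟨h, mem_centralizer_singleton_iff.2 h'⟩
  -- four times four inside
  have h16 : 16 ∣ Nat.card X := by
    have hcard : Nat.card (four5 × four5) = 16 := by rw [Nat.card_prod, card_four5]
    let f : four5 × four5 →* G :=
      (MulAut.conj k⁻¹).toMonoidHom.comp (D.both.comp (four5.subtype.prodMap four5.subtype))
    have hmem : ∀ p, f p ∈ X := by
      rintro ⟨⟨x, hx⟩, ⟨y, hy⟩⟩
      show k⁻¹ * (ιA φ x * ιB φ t y) * k⁻¹⁻¹ ∈ X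
      refine memX (Subgroup.Normal.conj_mem inferInstance _ (hN0 (mul_mem (D.memA x) (D.memB y))) _) ?_
      have hc : ιA φ x * ιB φ t y * (ιA φ r5 * ιB φ t r5) = ιA φ r5 * ιB φ t r5 * (ιA φ x * ιB φ t y) := by
        rw [← D.both_apply, ← D.both_apply, ← map_mul, ← map_mul]
        exact congrArg D.both (Prod.ext (mem_centralizer_singleton_iff.1 hx) (mem_centralizer_singleton_iff.1 hy))
      generalize ιA φ x * ιB φ t y = u at hc ⊢
      rw [← hk] at hc
      rw [inv_inv]
      calc k⁻¹ * u * k * t = k⁻¹ * (u * (k * t * k⁻¹)) * k := by group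
        _ = k⁻¹ * (k * t * k⁻¹ * u) * k := by rw [hc]
        _ = _ := by group
    rw [← hcard]
    refine card_dvd_of_injective (f.codRestrict X hmem) fun p q e => ?_
    have := (MulAut.conj k⁻¹).injective (congrArg Subtype.val e)
    exact Prod.ext (Subtype.ext (congrArg Prod.fst (D.both_injective this)))
      (Subtype.ext (congrArg Prod.snd (D.both_injective this)))
  -- the quotient by the exchange
  let tX : X := ⟨t, memX ht0 rfl⟩
  set S : Subgroup X := zpowers tX with hSdef
  have hcomm : ∀ x : X, x * tX = tX * x := fun x => Subtype.ext (mem_centralizer_singleton_iff.1 x.2.2)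
  haveI : S.Normal := ⟨fun n hn x => by
    obtain ⟨m, rfl⟩ := mem_zpowers_iff.1 hn
    rw [(Commute.zpow_right (show Commute x tX from hcomm x) m).eq, mul_inv_cancel_right]
    exact zpow_mem (mem_zpowers tX) m⟩
  have hS : Nat.card S = 2 := by
    rw [hSdef, Nat.card_zpowers, ← orderOf_coe tX]
    exact orderOf_eq_prime (by rw [pow_two]; exact D.frame.t2)
      (fun e => D.t_notin (by rw [show t = 1 from e]; exact one_mem _))
  have hSmem : ∀ x : X, x ∈ S → (x : G) = 1 ∨ (x : G) = t := fun x hx =>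
    (mem_two (u := tX) (Subtype.ext D.frame.t2) hx).imp (congrArg Subtype.val) (congrArg Subtype.val)
  let diag : A5 →* G := D.both.comp ((MonoidHom.id A5).prod (MonoidHom.id A5))
  have hdiag : ∀ x, diag x ∈ X := fun x => memX
    (show ιA φ x * ιB φ t x ∈ G0 from hN0 (mul_mem (D.memA x) (D.memB x))) (by
    show ιA φ x * ιB φ t x * t = t * (ιA φ x * ιB φ t x)
    conv_lhs => rw [← D.t_swap x x]
    rw [mul_assoc, D.frame.t2, mul_one])
  let f : A5 →* X ⧸ S := (QuotientGroup.mk' S).comp (diag.codRestrict X hdiag)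
  have hf : Function.Injective f := by
    refine (injective_iff_map_eq_one f).2 fun x hx => ?_
    have hm : (diag.codRestrict X hdiag x) ∈ S := (QuotientGroup.eq_one_iff _).1 hx
    rcases hSmem _ hm with e | e
    · exact congrArg Prod.fst (D.both_injective (show D.both (x, x) = D.both 1 from e.trans (map_one _).symm))
    · refine absurd ?_ D.t_notin
      have h1 : ιA φ x * ιB φ t x ∈ H1sub φ t := mem_sup_left (mul_mem (D.memA x) (D.memB x))
      rwa [show ιA φ x * ιB φ t x = t from e] at h1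
  have hy : ((diag.codRestrict X hdiag EightLocal.sigma : X) : G) = φ (zL * wL) := by
    show ιA φ EightLocal.sigma * ιB φ t EightLocal.sigma = _
    rw [D.frame.ιB_eq, D.frame.ιA_gens.1, D.frame.tw, ← map_mul, small_facts.2.2.2.2.2.2.2.2.2.2.2.2.2.1]
  have hs : ∀ q, q * f EightLocal.sigma = f EightLocal.sigma * q → q ∈ zpowers (f EightLocal.sigma) := by
    intro q hq
    obtain ⟨x, rfl⟩ := QuotientGroup.mk_surjective q
    set yX : X := diag.codRestrict X hdiag EightLocal.sigma
    have hy3 : (yX : G) ^ 3 = 1 := by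
      rw [hy, ← map_pow, show (zL * wL) ^ 3 = 1 by decide +kernel, map_one]
    have hm : x * yX * x⁻¹ * yX⁻¹ ∈ S := by
      refine (QuotientGroup.eq_one_iff _).1 ?_
      have hq' : (x : X ⧸ S) * (yX : X ⧸ S) * (x : X ⧸ S)⁻¹ * (yX : X ⧸ S)⁻¹ = 1 := by
        rw [show (x : X ⧸ S) * (yX : X ⧸ S) = (yX : X ⧸ S) * (x : X ⧸ S) from hq]; group
      exact hq'
    have hxy : (x : G) * yX = yX * x := by
      rcases hSmem _ hm with e | e
      · exact mul_inv_eq_iff_eq_mul.1 (mul_inv_eq_one.1 e)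
      · exfalso
        have hcy : Commute t (yX : G) := (mem_centralizer_singleton_iff.1 yX.2.2).symm
        have e' : (x : G) * yX * (x : G)⁻¹ = t * yX :=
          mul_inv_eq_iff_eq_mul.1 (show (x : G) * yX * (x : G)⁻¹ * (yX : G)⁻¹ = t from e)
        have h3 : (t * (yX : G)) ^ 3 = 1 := by rw [← e', conj_pow, hy3, mul_one, mul_inv_cancel]
        rw [hcy.mul_pow, hy3, mul_one, pow_succ, pow_two, D.frame.t2, one_mul] at h3
        exact D.t_notin (h3 ▸ one_mem _)
    rw [hy] at hxy
    obtain ⟨p, hp, hxp⟩ := D.frame.norm_P (D.frame.normY _ (mem_centralizer_singleton_iff.2 hxy))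
    have hxt : (x : G) * t = t * x := mem_centralizer_singleton_iff.1 x.2.2
    have hpy : p * (zL * wL) = zL * wL * p ∧ φ p * t = t * φ p ∧ φ p ∈ G0 := by
      rcases hxp with e | e
      · refine ⟨D.frame.inj ?_, e ▸ hxt, e ▸ x.2.1⟩
        rw [map_mul φ p, map_mul φ (zL * wL) p, ← e]; exact hxy
      · have e' : φ p = t * (x : G) := by rw [e, ← mul_assoc, D.frame.t2, one_mul]
        refine ⟨D.frame.inj ?_, by rw [e', mul_assoc, hxt], by rw [e']; exact mul_mem ht0 x.2.1⟩
        rw [map_mul φ p, map_mul φ _ p, e', mul_assoc, hxy, ← mul_assoc, hty, mul_assoc]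
    obtain ⟨a, ha⟩ : ∃ a, p = dL a := by
      have key : ∀ p : L, p * (zL * wL) = zL * wL * p → ∃ a, p = dL a ∨ p = dL a * iL := by decide +kernel
      obtain ⟨a, e | e⟩ := key p hpy.1
      · exact ⟨a, e⟩
      · refine absurd ?_ hi0
        have h3 : φ (dL a) ∈ G0 := odd_mem D h0 _ (Or.inl (by rw [← map_pow, dL_facts.2.2.2.2.2 a, map_one]))
        have := hpy.2.2
        rwa [e, map_mul, mul_mem_cancel_left h3] at this
    have hfix : dL (a.2, a.1) = dL a := D.frame.inj (by
      rw [← D.frame.t_dL, ← ha, mul_assoc, hpy.2.1, ← mul_assoc, D.frame.t2, one_mul])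
    have key : ∀ a, dL (a.2, a.1) = dL a → ∃ j : Fin 3, dL a = (zL * wL) ^ (j : ℕ) := by decide +kernel
    obtain ⟨j, hj⟩ := key a hfix
    refine mem_zpowers_iff.2 ⟨((j : ℕ) : ℤ), ?_⟩
    rw [zpow_natCast]
    show ((yX : X ⧸ S)) ^ (j : ℕ) = (x : X ⧸ S)
    rw [← QuotientGroup.mk_pow, QuotientGroup.eq]
    have hv : φ p = (yX : G) ^ (j : ℕ) := by rw [hy, ← map_pow, ha, hj]
    rcases hxp with e | e
    · have : (yX ^ (j : ℕ))⁻¹ * x = 1 := Subtype.ext (by
        show ((yX : G) ^ (j : ℕ))⁻¹ * x = 1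
        rw [e, hv, inv_mul_cancel])
      rw [this]; exact one_mem _
    · have : (yX ^ (j : ℕ))⁻¹ * x = tX := Subtype.ext (by
        show ((yX : G) ^ (j : ℕ))⁻¹ * x = t
        rw [← hv, e, show t * φ p = φ p * t from hpy.2.1.symm, inv_mul_cancel_left])
      rw [this]; exact mem_zpowers tX
  have hX : Nat.card X = Nat.card (X ⧸ S) * 2 := by rw [card_eq_card_quotient_mul_card_subgroup S, hS]
  have h32 : ¬ 32 ∣ Nat.card (X ⧸ S) := by
    intro h
    obtain ⟨m, hm, l, hl⟩ := D.card_G B
    have hd : 64 ∣ Nat.card G0 :=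
      ((mul_dvd_mul_right h 2).trans (dvd_of_eq hX.symm)).trans (card_dvd_of_le inf_le_left)
    have := card_mul_index G0
    rw [h0, hm, hl] at this
    obtain ⟨d, hd⟩ := hd
    omega
  rw [hX, sixty f hf hs h32] at h16
  norm_num at h16

/-- The data of the subgroup of index four. -/
structure Split (φ : L →* G) (t : G) (G0 K0 : Subgroup G) : Prop where
  index0 : G0.index = 2
  i0 : φ iL ∉ G0
  t0 : t ∈ G0
  le : K0 ≤ G0
  rel : K0.relIndex G0 = 2
  tK : t ∉ K0

theorem exists_split : ∃ t' G0 K0, AltFrame P φ t' ∧ Big φ t' (Hsub φ t') ∧ Split φ t' G0 K0 := by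
  obtain ⟨G0, h0, hi0⟩ := D.frame.exists_index_two B D.K_le_H D.relIndex_K D.i_notin_K
  have main : ∀ t', AltFrame P φ t' → Big φ t' (Hsub φ t') → t' ∈ G0 →
      ∃ t' G0 K0, AltFrame P φ t' ∧ Big φ t' (Hsub φ t') ∧ Split φ t' G0 K0 := by
    intro t' D' B' ht0
    have hN0 : Nsub φ t' ≤ G0 := D'.copies_le (odd_mem D' h0)
    have hK0 : Ksub φ t' ≤ G0 := sup_le hN0 (zpowers_le.2 ht0)
    have hidx : Odd ((Ksub φ t').subgroupOf G0).index := by
      have h := relIndex_mul_index hK0
      rw [← relIndex_mul_index D'.K_le_H, D'.relIndex_K, h0] at h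
      obtain ⟨m, hm⟩ := D'.frame.odd_index B'
      rw [relIndex] at h
      exact ⟨m, by rw [hm] at h; omega⟩
    have hrel : ((Nsub φ t').subgroupOf G0).relIndex ((Ksub φ t').subgroupOf G0) = 2 := by
      rw [relIndex_subgroupOf hK0]
      have hc : Nat.card (Ksub φ t') = 2 * Nat.card (Nsub φ t') :=
        card_of_two_cosets (fun g => D'.mem_K) fun h => D'.t_notin (mem_sup_left h)
      rw [relIndex]
      have h' := index_mul_card ((Nsub φ t').subgroupOf (Ksub φ t'))
      rw [Nat.card_congr (subgroupOfEquivOfLe (N_le_K D')).toEquiv, hc] at h'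
      exact Nat.eq_of_mul_eq_mul_right Nat.card_pos h'
    obtain ⟨K1, hK1, htK1⟩ := Involutions.ThompsonTransfer.exists_index_two_of_no_conj _
      (Involutions.ThompsonTransfer.index_mod_four (comap_mono (N_le_K D')) hrel hidx)
      (⟨t', ht0⟩ : G0) (by
        rw [orderOf_mk]
        exact orderOf_eq_prime (by rw [pow_two]; exact D'.frame.t2)
          (fun e => D'.t_notin (e.symm ▸ one_mem _)))
      (fun x hx => D'.no_t_conj B' h0 hi0 ht0 (x : G) hx)
    refine ⟨t', G0, K1.map G0.subtype, D', B', h0, hi0, ht0, map_subtype_le _, ?_, ?_⟩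
    · rw [relIndex, show (K1.map G0.subtype).subgroupOf G0 = K1 from
        comap_map_eq_self_of_injective G0.subtype_injective _, hK1]
    · rintro ⟨⟨x, hx⟩, hxK, e⟩
      obtain rfl : x = t' := e
      exact htK1 hxK
  by_cases ht0 : t ∈ G0
  · exact main t D B ht0
  · refine main _ D.twist ?_ ((Subgroup.mul_mem_iff_of_index_two h0).2 (iff_of_false ht0 hi0))
    have hN : Nsub φ (t * φ iL) = Nsub φ t := by
      refine eq_of_le_of_card_ge (sup_le le_sup_left ?_) (by rw [D.card_N, D.twist.card_N])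
      rintro _ ⟨y, rfl⟩
      obtain ⟨y', hy'⟩ := D.i_conjA_mem y
      rw [D.twist.frame.ιB_eq]
      conv => arg 2; arg 2; rw [D.ti_comm]
      rw [show t * φ iL * ιA φ y * (φ iL * t) = t * (φ iL * ιA φ y * φ iL) * t by group, hy', ← D.frame.ιB_eq]
      exact D.memB y'
    have hH : Hsub φ (t * φ iL) = Hsub φ t := by
      unfold Hsub H1sub
      rw [hN]
      refine le_antisymm (sup_le le_sup_left (zpowers_le.2 ?_)) (sup_le le_sup_left (zpowers_le.2 ?_))
      · exact mul_mem (mem_sup_right (mem_zpowers t)) (mem_sup_left (mem_sup_right (mem_zpowers _)))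
      · have e : t * φ iL * φ iL = t := by rw [mul_assoc, D.i_sq, mul_one]
        have h1 : t * φ iL * φ iL ∈ Nsub φ t ⊔ zpowers (φ iL) ⊔ zpowers (t * φ iL) :=
          mul_mem (mem_sup_right (mem_zpowers _)) (mem_sup_left (mem_sup_right (mem_zpowers _)))
        rwa [e] at h1
    rw [hH]
    exact ⟨B.hφ, hH ▸ mem_sup_right (mem_zpowers _), B.cent, B.three⟩

end AltFrame

end Cfsg.Agent.EightFour
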