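import Cfsg.Agent.Lib.EightFour.AltCent
import Mathlib.GroupTheory.Transfer

/-!
# The second configuration: the extension is the whole group
-/

set_option autoImplicit false
set_option linter.style.haveILetI false
set_option linter.unusedSectionVars false
set_option maxRecDepth 100000
set_option synthInstance.maxSize 10000

namespace Cfsg.Agent.EightFour

open Subgroup
open EightLocal (A5)

theorem odd_involution : ∀ x : A5, (x : Equiv.Perm (Fin 5)) * Equiv.swap 0 1 * ((x : Equiv.Perm (Fin 5)) * Equiv.swap 0 1) = 1 →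
    ∃ c : A5, (c : Equiv.Perm (Fin 5)) * Equiv.swap 0 1 * (c : Equiv.Perm (Fin 5))⁻¹ =
      (x : Equiv.Perm (Fin 5)) * Equiv.swap 0 1 := by
  decide +kernel

section Generic

variable {G : Type*} [Group G]

theorem conj_of_odd_product {x y : G} (hx : x * x = 1) (hy : y * y = 1) (ho : Odd (orderOf (x * y))) :
    ∃ g : G, g * x * g⁻¹ = y := by
  obtain ⟨k, hk⟩ := ho
  have hflip : ∀ n : ℕ, (x * y) ^ n * x = x * ((x * y) ^ n)⁻¹ := fun n => by
    have h : SemiconjBy x (x * y)⁻¹ (x * y) := by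
      show x * (x * y)⁻¹ = x * y * x
      rw [mul_inv_rev, inv_eq_of_mul_eq_one_left hx, inv_eq_of_mul_eq_one_left hy, mul_assoc]
    rw [← inv_pow]
    exact (h.pow_right n).eq.symm
  refine ⟨(x * y) ^ k, ?_⟩
  have h1 : (x * y) ^ (k + k) * (x * y) = 1 := by rw [← pow_succ, ← two_mul, ← hk, pow_orderOf_eq_one]
  rw [mul_assoc, ← hflip k, ← mul_assoc, ← pow_add, eq_inv_of_mul_eq_one_left h1, mul_inv_rev,
    inv_eq_of_mul_eq_one_left hx, inv_eq_of_mul_eq_one_left hy, mul_assoc, hx, mul_one]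

theorem middle_of_even_product [Finite G] {x y : G} (hx : x * x = 1) (hy : y * y = 1)
    (he : Even (orderOf (x * y))) : ∃ u : G, u * u = 1 ∧ u ≠ 1 ∧ u * x = x * u ∧ u * y = y * u := by
  obtain ⟨k, hk⟩ := he
  have hpos := orderOf_pos (x * y)
  set u := (x * y) ^ k with hu
  have hu2 : u * u = 1 := by rw [hu, ← pow_add, ← hk, pow_orderOf_eq_one]
  have h : SemiconjBy x (x * y) (x * y)⁻¹ := by
    show x * (x * y) = (x * y)⁻¹ * x
    rw [mul_inv_rev, inv_eq_of_mul_eq_one_left hx, inv_eq_of_mul_eq_one_left hy, mul_assoc y, hx, mul_one,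
      ← mul_assoc, hx, one_mul]
  have hux : u * x = x * u := by
    have := (h.pow_right k).eq
    rw [inv_pow, ← hu, inv_eq_of_mul_eq_one_left hu2] at this
    exact this.symm
  refine ⟨u, hu2, ?_, hux, ?_⟩
  · intro e
    have := Nat.le_of_dvd (by omega) (orderOf_dvd_of_pow_eq_one e)
    omega
  · have hc : Commute u (x * y) := Commute.pow_self _ k
    calc u * y = x * (x * u) * y := by rw [← mul_assoc x x, hx, one_mul]
      _ = x * (u * (x * y)) := by rw [← hux]; group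
      _ = x * (x * y * u) := by rw [hc.eq]
      _ = _ := by rw [← mul_assoc, ← mul_assoc, hx, one_mul]

end Generic

variable {G : Type*} [Group G] [Finite G] {P : Sylow 3 G} {φ : L →* G} {t : G} {G0 K0 : Subgroup G}

namespace AltFrame

variable (D : AltFrame P φ t)
include D

theorem theta_invol : ιA φ r5 * ιB φ t r5 * (ιA φ r5 * ιB φ t r5) = 1 := by
  rw [← D.both_apply, ← map_mul, show ((r5, r5) : A5 × A5) * (r5, r5) = 1 from
    Prod.ext emb5_facts.2.2.2.2.1 emb5_facts.2.2.2.2.1, map_one]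

variable (B : Big φ t (Hsub φ t)) (S : Split φ t G0 K0)
include B S

/-- `r` and the product of `r` with its image are not conjugate. -/
theorem r_not_theta (g : G) : g * ιA φ r5 * g⁻¹ ≠ ιA φ r5 * ιB φ t r5 := by
  intro h
  have hr1 := emb5_facts.2.2.2.2.2.2.2.1
  have htθ : t * (ιA φ r5 * ιB φ t r5) = ιA φ r5 * ιB φ t r5 * t := by
    conv_rhs => rw [← D.t_swap r5 r5]
    rw [mul_assoc, D.frame.t2, mul_one]
  have hc : g⁻¹ * t * g * ιA φ r5 = ιA φ r5 * (g⁻¹ * t * g) := by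
    rw [← h] at htθ
    calc g⁻¹ * t * g * ιA φ r5 = g⁻¹ * (t * (g * ιA φ r5 * g⁻¹)) * g := by group
      _ = g⁻¹ * (g * ιA φ r5 * g⁻¹ * t) * g := by rw [htθ]
      _ = _ := by group
  haveI : G0.Normal := normal_of_index_eq_two S.index0
  have h0 : g⁻¹ * t * g ∈ G0 := by
    have := Subgroup.Normal.conj_mem (H := G0) inferInstance _ S.t0 g⁻¹
    rwa [inv_inv] at this
  obtain ⟨x, y, e | e⟩ := D.H_cent_r (D.cent_r B S hc) hc
  · refine D.no_t_conj B S.index0 S.i0 S.t0 g⁻¹ ?_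
    rw [inv_inv, e]
    exact mul_mem (D.memA x) (D.memB y)
  · refine S.i0 ?_
    rw [e] at h0
    exact (Subgroup.mul_mem_cancel_left G0 (S.le (D.N_le S (mul_mem (D.memA x) (D.memB y))))).1 h0

theorem cent_v_K {v : A5} (hv : v * v = 1) (hv1 : v ≠ 1) :
    K0 ⊓ centralizer ({ιA φ v} : Set G) ≤ Nsub φ t := by
  intro g hg
  obtain ⟨c, hc⟩ := alt_invol v hv hv1
  have hcK := D.N_le S (D.memA c)
  have hm : ιA φ c * g * (ιA φ c)⁻¹ ∈ Nsub φ t := by
    refine D.cent_r_K B S (Subgroup.mem_inf.2 ⟨mul_mem (mul_mem hcK hg.1) (inv_mem hcK), mem_centralizer_singleton_iff.2 ?_⟩)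
    rw [← hc, map_mul, map_mul, map_inv]
    calc ιA φ c * g * (ιA φ c)⁻¹ * (ιA φ c * ιA φ v * (ιA φ c)⁻¹)
        = ιA φ c * (g * ιA φ v) * (ιA φ c)⁻¹ := by group
      _ = ιA φ c * (ιA φ v * g) * (ιA φ c)⁻¹ := by rw [mem_centralizer_singleton_iff.1 hg.2]
      _ = _ := by group
  have h1 := mul_mem (mul_mem (inv_mem (D.memA c)) hm) (D.memA c)
  rwa [show (ιA φ c)⁻¹ * (ιA φ c * g * (ιA φ c)⁻¹) * ιA φ c = g by group] at h1

omit B S in
theorem N_cent_theta {g : G} (hg : g ∈ Nsub φ t)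
    (hc : g * (ιA φ r5 * ιB φ t r5) = ιA φ r5 * ιB φ t r5 * g) : g ∈ D.four := by
  obtain ⟨x, y, rfl⟩ := D.mem_N.1 hg
  rw [← D.both_apply, ← D.both_apply, ← map_mul, ← map_mul] at hc
  have h := D.both_injective hc
  exact D.mem_four.2 ⟨x, mem_centralizer_singleton_iff.2 (congrArg Prod.fst h),
    y, mem_centralizer_singleton_iff.2 (congrArg Prod.snd h), rfl⟩

set_option maxHeartbeats 400000 in
/-- The centralizer of the product of `r` with its image, inside the subgroup of index four. -/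
theorem cent_theta_K : K0 ⊓ centralizer ({ιA φ r5 * ιB φ t r5} : Set G) ≤ Nsub φ t := by
  obtain ⟨-, -, -, haa, hrr, har, ha1, hr1, hane, -⟩ := emb5_facts
  haveI : Fact (Nat.Prime 2) := ⟨Nat.prime_two⟩
  set Y : Subgroup G := K0 ⊓ centralizer ({ιA φ r5 * ιB φ t r5} : Set G) with hYdef
  have hYc : ∀ {g : G}, g ∈ Y → g * (ιA φ r5 * ιB φ t r5) = ιA φ r5 * ιB φ t r5 * g := fun hg =>
    mem_centralizer_singleton_iff.1 hg.2
  have hθT : ιA φ r5 * ιB φ t r5 ∈ D.four :=
    D.mem_four.2 ⟨r5, mem_centralizer_singleton_iff.2 rfl, r5, mem_centralizer_singleton_iff.2 rfl, rfl⟩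
  have hTY : D.four ≤ Y := fun g hg =>
    ⟨D.N_le S (D.four_le_N hg), mem_centralizer_singleton_iff.2 (D.four_comm hg hθT)⟩
  have h32 : ¬ 32 ∣ Nat.card Y := fun h => D.K0_two_part B S (h.trans (card_dvd_of_le inf_le_left))
  -- the normalizer fixes `r`
  have hnfix : ∀ n ∈ Y, n ∈ normalizer (D.four : Set G) → n ∈ D.four := by
    set O : Set G := {b : G | ∃ n ∈ Y, n ∈ normalizer (D.four : Set G) ∧ n * ιA φ r5 * n⁻¹ = b} with hOdef
    have hodd : Odd O.ncard := orbit_odd hTY D.card_four h32 (fun x hx => D.four_comm hx D.r_mem_four)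
    have hsub : O ⊆ {ιA φ r5, ιB φ t r5} := by
      rintro b ⟨n, hn, hnT, rfl⟩
      obtain ⟨x, hx, y, hy, e⟩ := D.mem_four.1 ((mem_normalizer_iff.1 hnT _).1 D.r_mem_four)
      have hx' := mem_centralizer_singleton_iff.1 hx
      have hy' := mem_centralizer_singleton_iff.1 hy
      have hθn : n * (ιA φ r5 * ιB φ t r5) * n⁻¹ = ιA φ r5 * ιB φ t r5 := by
        rw [hYc hn, mul_inv_cancel_right]
      have hs : n * ιB φ t r5 * n⁻¹ = ιA φ (r5 * x) * ιB φ t (r5 * y) := by
        have hxy : (ιA φ x * ιB φ t y)⁻¹ = ιA φ x * ιB φ t y := by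
          refine inv_eq_of_mul_eq_one_left ?_
          rw [← D.both_apply, ← map_mul, show ((x, y) : A5 × A5) * (x, y) = 1 from
            Prod.ext (four5_comm x hx' x hx').2 (four5_comm y hy' y hy').2, map_one]
        calc n * ιB φ t r5 * n⁻¹ = (n * ιA φ r5 * n⁻¹)⁻¹ * (n * (ιA φ r5 * ιB φ t r5) * n⁻¹) := by group
          _ = (ιA φ x * ιB φ t y) * (ιA φ r5 * ιB φ t r5) := by rw [hθn, ← e, hxy]
          _ = _ := by
            rw [← D.both_apply, ← D.both_apply, ← D.both_apply, ← map_mul]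
            exact congrArg D.both (Prod.ext (four5_comm x hx' r5 rfl).1 (four5_comm y hy' r5 rfl).1)
      have key : ∀ u v : A5, u * u = 1 → v * v = 1 → (∃ k : G, k * ιA φ r5 * k⁻¹ = ιA φ u * ιB φ t v) →
          u = 1 ∨ v = 1 := by
        intro u v hu hv ⟨k, hk⟩
        by_contra hne
        push Not at hne
        obtain ⟨c, hc⟩ := alt_invol u hu hne.1
        obtain ⟨d, hd⟩ := alt_invol v hv hne.2
        refine D.r_not_theta B S (ιA φ c * ιB φ t d * k) ?_
        rw [show ιA φ c * ιB φ t d * k * ιA φ r5 * (ιA φ c * ιB φ t d * k)⁻¹ =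
          ιA φ c * ιB φ t d * (k * ιA φ r5 * k⁻¹) * (ιA φ c * ιB φ t d)⁻¹ by group, hk, D.conj_pair, hc, hd]
      have h1 := key x y (four5_comm x hx' x hx').2 (four5_comm y hy' y hy').2 ⟨n, e.symm⟩
      have h2 := key (r5 * x) (r5 * y)
        (four5_comm _ (mem_centralizer_singleton_iff.1 (mul_mem (mem_centralizer_singleton_iff.2 rfl) hx)) _
          (mem_centralizer_singleton_iff.1 (mul_mem (mem_centralizer_singleton_iff.2 rfl) hx))).2
        (four5_comm _ (mem_centralizer_singleton_iff.1 (mul_mem (mem_centralizer_singleton_iff.2 rfl) hy)) _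
          (mem_centralizer_singleton_iff.1 (mul_mem (mem_centralizer_singleton_iff.2 rfl) hy))).2
        ⟨n * t, by
          rw [mul_inv_rev, D.frame.tinv, show n * t * ιA φ r5 * (t * n⁻¹) = n * (t * ιA φ r5 * t) * n⁻¹ by group,
            ← D.frame.ιB_eq]
          exact hs⟩
      have hfix : ∀ {u : A5}, r5 * u = 1 → u = r5 := fun h =>
        (eq_inv_of_mul_eq_one_right h).trans (inv_eq_of_mul_eq_one_left hrr)
      rw [← e]
      rcases h1 with h1 | h1 <;> rcases h2 with h2 | h2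
      · rw [h1, mul_one] at h2; exact absurd h2 hr1
      · exact Or.inr (by rw [h1, hfix h2, map_one, one_mul]; rfl)
      · exact Or.inl (by rw [h1, hfix h2, map_one, mul_one])
      · rw [h1, mul_one] at h2; exact absurd h2 hr1
    have hr0 : ιA φ r5 ∈ O := ⟨1, one_mem _, one_mem _, by group⟩
    intro n hn hnT
    have hb : n * ιA φ r5 * n⁻¹ = ιA φ r5 := by
      rcases hsub ⟨n, hn, hnT, rfl⟩ with h | h
      · exact h
      exfalso
      have hO : O = {ιA φ r5, ιB φ t r5} :=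
        Set.Subset.antisymm hsub (Set.insert_subset hr0 (Set.singleton_subset_iff.2 ⟨n, hn, hnT, h⟩))
      rw [hO, Set.ncard_pair (fun e => hr1 (D.prod_inj (x := r5) (y := 1) (x' := 1) (y' := r5)
        (by rw [map_one, map_one, one_mul, mul_one, e])).1)] at hodd
      exact absurd hodd (by decide)
    refine D.N_cent_theta (D.cent_r_K B S ⟨hn.1, mem_centralizer_singleton_iff.2 (mul_inv_eq_iff_eq_mul.1 hb)⟩)
      (hYc hn)
  -- a normal complement
  have hidx : ¬ 2 ∣ (D.four.subgroupOf Y).index := by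
    intro h
    refine h32 ?_
    have h' := card_mul_index (D.four.subgroupOf Y)
    rw [Nat.card_congr (subgroupOfEquivOfLe hTY).toEquiv, D.card_four] at h'
    obtain ⟨q, hq⟩ := h
    exact ⟨q, by rw [← h', hq]; ring⟩
  let PT : Sylow 2 Y := (IsPGroup.of_card (n := 4)
    (by rw [Nat.card_congr (subgroupOfEquivOfLe hTY).toEquiv, D.card_four]; norm_num) :
    IsPGroup 2 (D.four.subgroupOf Y)).toSylow hidx
  have hcent : normalizer (PT : Set Y) ≤ centralizer (PT : Set Y) := by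
    intro n hn
    have hnG : (n : G) ∈ normalizer (D.four : Set G) := by
      refine mem_normalizer_iff.2 fun w => ?_
      constructor
      · intro hw
        exact ((mem_normalizer_iff.1 hn ⟨w, hTY hw⟩).1 hw : _)
      · intro hw
        have hwY : w ∈ Y := by
          have := mul_mem (mul_mem (inv_mem n.2) (hTY hw)) n.2
          rwa [show (n : G)⁻¹ * ((n : G) * w * (n : G)⁻¹) * (n : G) = w by group] at this
        exact ((mem_normalizer_iff.1 hn ⟨w, hwY⟩).2 hw : _)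
    exact mem_centralizer_iff.2 fun w hw =>
      Subtype.ext (D.four_comm (show (w : G) ∈ D.four from hw) (hnfix _ n.2 hnG))
  obtain ⟨Q, hQn, hcompl⟩ : ∃ Q : Subgroup Y, Q.Normal ∧ IsComplement' Q (PT : Subgroup Y) :=
    ⟨_, MonoidHom.normal_ker _, MonoidHom.ker_transferSylow_isComplement' PT hcent⟩
  obtain ⟨O, hOdef⟩ : ∃ O : Subgroup G, O = Q.map Y.subtype := ⟨_, rfl⟩
  have hOY : O ≤ Y := hOdef ▸ map_subtype_le _
  have hcard : Nat.card O * 16 = Nat.card Y := by
    have hc := hcompl.card_mul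
    rw [hOdef, card_map_of_injective Y.subtype_injective, ← hc]
    exact congrArg _ (((Nat.card_congr (subgroupOfEquivOfLe hTY).toEquiv).trans D.card_four).symm)
  have hOodd : Odd (Nat.card O) := by
    rcases Nat.even_or_odd (Nat.card O) with ⟨m, hm⟩ | h
    · exact absurd ⟨m, by omega⟩ h32
    · exact h
  set V : Subgroup G := four5.map (ιA φ) with hVdef
  have hVT : V ≤ D.four := by
    rintro _ ⟨x, hx, rfl⟩
    exact D.mem_four.2 ⟨x, hx, 1, one_mem _, by rw [map_one, mul_one]⟩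
  have hV : Nat.card V = 4 := by rw [hVdef, card_map_of_injective D.frame.ιA_injective, card_four5]
  haveI : IsMulCommutative V := ⟨⟨fun a b => Subtype.ext (D.four_comm (hVT a.2) (hVT b.2))⟩⟩
  have hVcyc : ¬ IsCyclic V := by
    intro hc
    obtain ⟨g, hg⟩ := hc.exists_ofOrder_eq_natCard
    obtain ⟨x, hx, e⟩ := g.2
    have hx' := mem_centralizer_singleton_iff.1 hx
    have hg2 : g ^ 2 = 1 := Subtype.ext (by
      show (g : G) ^ 2 = 1
      rw [← e, pow_two, ← map_mul, (four5_comm x hx' x hx').2, map_one])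
    have := Nat.le_of_dvd (by norm_num) (orderOf_dvd_of_pow_eq_one hg2)
    rw [hg, hV] at this
    omega
  have hnorm : V ≤ normalizer (O : Set G) := by
    intro v hv
    refine mem_normalizer_iff_map_conj_eq.2 (eq_of_le_of_card_ge ?_
      (by rw [card_map_of_injective (MulAut.conj v).injective]))
    rw [hOdef]
    rintro _ ⟨_, ⟨q, hq, rfl⟩, rfl⟩
    exact ⟨⟨v, hTY (hVT hv)⟩ * q * ⟨v, hTY (hVT hv)⟩⁻¹, hQn.conj_mem q hq _, by simp⟩
  have hcop : (Nat.card V).Coprime (Nat.card O) := by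
    rw [hV, show 4 = 2 ^ 2 from rfl]
    exact (Nat.coprime_two_left.2 hOodd).pow_left 2
  have hOT : O ≤ D.four := by
    rw [← Coprime.fixedGen_eq hVcyc hnorm hcop]
    refine iSup₂_le fun a ha g hg => ?_
    obtain ⟨haV, ha1⟩ := ha
    obtain ⟨x, hx, rfl⟩ := haV
    have hx' := mem_centralizer_singleton_iff.1 hx
    exact D.N_cent_theta (D.cent_v_K B S (four5_comm x hx' x hx').2
      (fun e => ha1 (by rw [e, map_one])) ⟨(hOY hg.1).1, hg.2⟩) (hYc (hOY hg.1))
  have hO1 : Nat.card O = 1 := Nat.dvd_one.1 (by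
    have := Nat.dvd_gcd (D.card_four ▸ card_dvd_of_le hOT : Nat.card O ∣ 16) (dvd_refl (Nat.card O))
    rwa [show Nat.gcd 16 (Nat.card O) = 1 from (show 16 = 2 ^ 4 from rfl) ▸
      (Nat.coprime_two_left.2 hOodd).pow_left 4] at this)
  have hY : D.four = Y := eq_of_le_of_card_ge hTY (by rw [← hcard, hO1, D.card_four])
  rw [← hY]
  exact D.four_le_N

/-- The centralizers of the involutions of the product lie in the extension. -/
theorem cent_invol {n : G} (hn : n ∈ Nsub φ t) (h2 : n * n = 1) (h1 : n ≠ 1) {g : G} (hg : g * n = n * g) :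
    g ∈ Hsub φ t := by
  have hNH : Nsub φ t ≤ Hsub φ t := (le_sup_left : Nsub φ t ≤ H1sub φ t).trans le_sup_left
  obtain ⟨c, hc, hcases⟩ := D.N_classes hn h2 h1
  have hmain : ∀ m : G, (m = ιA φ r5 ∨ m = ιB φ t r5 ∨ m = ιA φ r5 * ιB φ t r5) →
      ∀ x : G, x * m = m * x → x ∈ Hsub φ t := by
    rintro m (rfl | rfl | rfl) x hx
    · exact D.cent_r B S hx
    · have h := D.cent_r B S (g := t * x * t) (by
        rw [← D.ιB_inv_eq, ← D.frame.tmul, hx, D.frame.tmul])
      have := mul_mem (mul_mem B.ht h) B.ht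
      rwa [D.frame.ttwice] at this
    · obtain ⟨c, hc, hK⟩ := D.cover S x
      have hθi : φ iL * (ιA φ r5 * ιB φ t r5) = ιA φ r5 * ιB φ t r5 * φ iL := by
        rw [D.ιA_r5, D.ιB_r5, ← map_mul, ← map_mul, ← map_mul]
        exact congrArg φ (by decide +kernel)
      have hθt : t * (ιA φ r5 * ιB φ t r5) = ιA φ r5 * ιB φ t r5 * t := by
        conv_rhs => rw [← D.t_swap r5 r5]
        rw [mul_assoc, D.frame.t2, mul_one]
      have hcc : Commute c (ιA φ r5 * ιB φ t r5) := by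
        rcases hc with rfl | rfl | rfl | rfl
        exacts [Commute.one_left _, hθi, hθt, (show Commute _ _ from hθi).mul_left hθt]
      have hcH : c ∈ Hsub φ t := by
        rcases hc with rfl | rfl | rfl | rfl
        exacts [one_mem _, B.hφ ⟨iL, rfl⟩, B.ht, mul_mem (B.hφ ⟨iL, rfl⟩) B.ht]
      have hxc := hNH (D.cent_theta_K B S ⟨hK, mem_centralizer_singleton_iff.2
        ((show Commute x _ from hx).mul_left hcc).eq⟩)
      have := mul_mem hxc (inv_mem hcH)
      rwa [mul_inv_cancel_right] at this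
  have h := hmain (c * n * c⁻¹) hcases (c * g * c⁻¹) (by
    calc c * g * c⁻¹ * (c * n * c⁻¹) = c * (g * n) * c⁻¹ := by group
      _ = c * (n * g) * c⁻¹ := by rw [hg]
      _ = _ := by group)
  have := mul_mem (mul_mem (inv_mem (hNH hc)) h) (hNH hc)
  rwa [show c⁻¹ * (c * g * c⁻¹) * c = g by group] at this

/-- The extension is the whole group. -/
theorem top : Hsub φ t = ⊤ := by
  refine eq_top_iff.2 fun g _ => D.frame.conj_mem B ?_
  have hr1 : ιA φ r5 ≠ 1 := fun e =>
    emb5_facts.2.2.2.2.2.2.2.1 (D.frame.ιA_injective (e.trans (map_one _).symm))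
  have hr2 : ιA φ r5 * ιA φ r5 = 1 := by rw [← map_mul, emb5_facts.2.2.2.2.1, map_one]
  have hx2 : g * φ iL * g⁻¹ * (g * φ iL * g⁻¹) = 1 := by
    rw [show g * φ iL * g⁻¹ * (g * φ iL * g⁻¹) = g * (φ iL * φ iL) * g⁻¹ by group, D.i_sq]; group
  rcases Nat.even_or_odd (orderOf (ιA φ r5 * (g * φ iL * g⁻¹))) with he | ho
  swap
  · exfalso
    obtain ⟨k, hk⟩ := conj_of_odd_product hr2 hx2 ho
    refine D.frame.r_not_conj_i (g⁻¹ * k) ?_
    rw [← D.ιA_r5, show g⁻¹ * k * ιA φ r5 * (g⁻¹ * k)⁻¹ = g⁻¹ * (k * ιA φ r5 * k⁻¹) * g by group, hk]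
    group
  obtain ⟨c, hc2, hc1, hcr, hcx⟩ := middle_of_even_product hr2 hx2 he
  have hcH := D.cent_r B S hcr
  obtain ⟨x, y, rfl | rfl⟩ := D.H_cent_r hcH hcr
  · exact D.cent_invol B S (mul_mem (D.memA x) (D.memB y)) hc2 hc1 hcx.symm
  · -- conjugate to `i`
    obtain ⟨x', hx'⟩ := D.i_conjA_mem x
    obtain ⟨y', hy'⟩ := D.i_conjA_mem y
    obtain ⟨hxx, hyy⟩ := D.prod_inj (x := x * x') (y := y * y') (x' := 1) (y' := 1) (by
      have hyB : φ iL * ιB φ t y * φ iL = ιB φ t y' := by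
        rw [D.frame.ιB_eq, D.frame.ιB_eq, ← hy']
        calc φ iL * (t * ιA φ y * t) * φ iL = (φ iL * t) * ιA φ y * (t * φ iL) := by group
          _ = (t * φ iL) * ιA φ y * (φ iL * t) := by rw [D.ti_comm]
          _ = _ := by group
      rw [map_mul, map_mul, ← (D.com x' y).symm.mul_mul_mul_comm, map_one, map_one, one_mul, ← hc2,
        ← hx', ← hyB]
      rw [show φ iL * ιA φ x * φ iL * (φ iL * ιB φ t y * φ iL) =
        φ iL * ιA φ x * (φ iL * φ iL) * ιB φ t y * φ iL by group, D.i_sq, mul_one]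
      group)
    have key : ∀ (u u' : A5), φ iL * ιA φ u * φ iL = ιA φ u' → u * u' = 1 →
        ∃ c : A5, ιA φ u * φ iL = ιA φ c * φ iL * (ιA φ c)⁻¹ := by
      intro u u' hu huu
      rw [D.i_conjA] at hu
      have e2 : Equiv.swap 0 1 * (u : Equiv.Perm (Fin 5)) * Equiv.swap 0 1 = (u' : Equiv.Perm (Fin 5)) :=
        congrArg Prod.snd (D.frame.inj hu)
      have e3 : (u : Equiv.Perm (Fin 5)) * (u' : Equiv.Perm (Fin 5)) = 1 := congrArg Subtype.val huu
      rw [← e2] at e3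
      obtain ⟨c, hc⟩ := odd_involution u (by rw [← e3]; group)
      refine ⟨c, ?_⟩
      show φ (emb5 u) * φ iL = φ (emb5 c) * φ iL * (φ (emb5 c))⁻¹
      rw [← map_inv, ← map_mul, ← map_mul, ← map_mul]
      exact congrArg φ (Prod.ext (by simp [emb5, iL]) (by simpa [emb5, iL] using hc.symm))
    obtain ⟨a, ha⟩ := key x x' hx' hxx
    obtain ⟨b, hb⟩ := key y y' hy' hyy
    set d := ιA φ a * ιB φ t b with hd
    have hdH : d ∈ Hsub φ t := mem_sup_left (mem_sup_left (mul_mem (D.memA a) (D.memB b)))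
    have hdi : d * φ iL * d⁻¹ = ιA φ x * ιB φ t y * φ iL := by
      have hbB : ιB φ t b * φ iL * (ιB φ t b)⁻¹ = ιB φ t y * φ iL := by
        rw [D.frame.ιB_eq, D.frame.ιB_eq]
        calc t * ιA φ b * t * φ iL * (t * ιA φ b * t)⁻¹
            = t * ιA φ b * (t * φ iL * t⁻¹) * (ιA φ b)⁻¹ * t⁻¹ := by group
          _ = t * (ιA φ b * φ iL * (ιA φ b)⁻¹) * t := by rw [D.frame.tinv, D.frame.ti]; group
          _ = t * ιA φ y * (φ iL * t) := by rw [← hb]; group
          _ = _ := by rw [← D.ti_comm]; group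
      rw [hd, show ιA φ a * ιB φ t b * φ iL * (ιA φ a * ιB φ t b)⁻¹ =
        ιA φ a * (ιB φ t b * φ iL * (ιB φ t b)⁻¹) * (ιA φ a)⁻¹ by group, hbB]
      calc ιA φ a * (ιB φ t y * φ iL) * (ιA φ a)⁻¹ = ιA φ a * ιB φ t y * φ iL * (ιA φ a)⁻¹ := by group
        _ = ιB φ t y * ιA φ a * φ iL * (ιA φ a)⁻¹ := by rw [(D.com a y).eq]
        _ = ιB φ t y * (ιA φ x * φ iL) := by rw [ha]; group
        _ = _ := by rw [← mul_assoc, ← (D.com x y).eq]
    rw [← hdi] at hcx
    have h := B.cent (d⁻¹ * (g * φ iL * g⁻¹) * d) (by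
      calc d⁻¹ * (g * φ iL * g⁻¹) * d * φ iL = d⁻¹ * (g * φ iL * g⁻¹ * (d * φ iL * d⁻¹)) * d := by group
        _ = d⁻¹ * (d * φ iL * d⁻¹ * (g * φ iL * g⁻¹)) * d := by rw [hcx]
        _ = _ := by group)
    have := mul_mem (mul_mem hdH h) (inv_mem hdH)
    rwa [show d * (d⁻¹ * (g * φ iL * g⁻¹) * d) * d⁻¹ = g * φ iL * g⁻¹ by group] at this

end AltFrame

end Cfsg.Agent.EightFour
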