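import Cfsg.Agent.Lib.EightFour.Local
import Cfsg.Agent.S3333

/-!
# The centralizer of the involution centralizing the Sylow subgroup
-/

set_option autoImplicit false
set_option linter.style.haveILetI false
set_option linter.unusedSectionVars false
set_option maxRecDepth 100000
set_option synthInstance.maxSize 10000

namespace Cfsg.Agent.EightFour

open Subgroup

theorem normP_of_iL : ∀ p : L, p * zL = zL * p → p * iL = iL * p → NormP p := by decide +kernel

variable {G : Type*} [Group G] [Finite G] {P : Sylow 3 G} {φ : L →* G} {t : G}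

namespace Frame

variable (D : Frame P φ t)
include D

theorem cent_in_N {x g : G} (hx : x ∈ (P : Subgroup G)) (hx1 : x ≠ 1) (hgi : g * φ iL = φ iL * g)
    (hgx : g * x = x * g) : g ∈ normalizer ((P : Subgroup G) : Set G) := by
  obtain ⟨a, rfl⟩ := (D.sylow x).1 hx
  have ha : a ≠ 0 := fun e => hx1 (by rw [e, dL_facts.2.2.2.1, map_one])
  obtain ⟨n, hn, hn'⟩ := D.d_conj ha
  have hni := D.N_fix_i hn
  have h1 : n * g * n⁻¹ * φ iL = φ iL * (n * g * n⁻¹) := by
    have h : Commute g (φ iL) := hgi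
    have h' : Commute n (φ iL) := hni
    exact ((h'.mul_left h).mul_left h'.inv_left).eq
  have h2 : n * g * n⁻¹ * (n * φ (dL a) * n⁻¹) = n * φ (dL a) * n⁻¹ * (n * g * n⁻¹) := by
    calc n * g * n⁻¹ * (n * φ (dL a) * n⁻¹) = n * (g * φ (dL a)) * n⁻¹ := by group
      _ = n * (φ (dL a) * g) * n⁻¹ := by rw [hgx]
      _ = _ := by group
  have h3 : n * g * n⁻¹ ∈ normalizer ((P : Subgroup G) : Set G) := by
    rcases hn' with e | e <;> rw [e] at h2
    · obtain ⟨p, hp, hp'⟩ := D.cent_z h2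
      rw [← hp'] at h1 ⊢
      exact D.normP_mem (normP_of_iL p hp (D.inj (by rw [map_mul, map_mul]; exact h1)))
    · exact D.normY _ (mem_centralizer_singleton_iff.2 h2)
  have := mul_mem (mul_mem (inv_mem hn) h3) hn
  rwa [show n⁻¹ * (n * g * n⁻¹) * n = g by group] at this

theorem cent_i
    [hcn : ((centralizer ((P : Subgroup G) : Set G)).subgroupOf
      (normalizer ((P : Subgroup G) : Set G))).Normal]
    (eNC : normalizer ((P : Subgroup G) : Set G) ⧸ (centralizer ((P : Subgroup G) : Set G)).subgroupOf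
      (normalizer ((P : Subgroup G) : Set G)) ≃* DihedralGroup 4) :
    (∀ g, g * φ iL = φ iL * g → g ∈ normalizer ((P : Subgroup G) : Set G)) ∨
      ∃ ψ : centralizer ({φ iL} : Set G) →* Equiv.Perm (Fin 6), Function.Surjective ψ ∧
        (∀ g, ψ g = 1 ↔ (g : G) = 1 ∨ (g : G) = φ iL) := by
  haveI : Fact (Nat.Prime 3) := ⟨Nat.prime_three⟩
  set C := centralizer ({φ iL} : Set G) with hC
  let iC : C := ⟨φ iL, mem_centralizer_singleton_iff.2 rfl⟩
  haveI hIn : (zpowers iC).Normal := ⟨fun n hn g => by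
    obtain ⟨k, rfl⟩ := mem_zpowers_iff.1 hn
    have hg : Commute g iC := Subtype.ext (mem_centralizer_singleton_iff.1 g.2)
    rw [(hg.zpow_right k).eq, mul_inv_cancel_right]
    exact zpow_mem (mem_zpowers iC) k⟩
  set π := QuotientGroup.mk' (zpowers iC) with hπ
  have hker : ∀ g : C, π g = 1 ↔ (g : G) = 1 ∨ (g : G) = φ iL := by
    intro g
    rw [hπ, QuotientGroup.mk'_apply, QuotientGroup.eq_one_iff]
    constructor
    · intro h
      obtain ⟨k, hk⟩ := mem_zpowers_iff.1 h
      have h2 : iC ^ (2 : ℤ) = 1 := Subtype.ext (by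
        simp only [Subgroup.coe_zpow, zpow_two, Subgroup.coe_one]
        show φ iL * φ iL = 1
        rw [← map_mul, small_facts.2.2.1, map_one])
      rw [zpow_eq_zpow_emod k h2] at hk
      rcases Int.emod_two_eq_zero_or_one k with e | e <;> rw [e] at hk
      · left; rw [← hk]; simp
      · right; rw [← hk]; simp [iC]
    · rintro (e | e)
      · rw [show g = 1 from Subtype.ext e]; exact one_mem _
      · rw [show g = iC from Subtype.ext e]; exact mem_zpowers iC
  set PC := P.subtype D.i_fix_P with hPC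
  set PQ := PC.mapSurjective (f := π) (QuotientGroup.mk'_surjective _) with hPQ
  have hPQm : ∀ q, q ∈ (PQ : Subgroup (C ⧸ zpowers iC)) ↔ ∃ g : C, (g : G) ∈ (P : Subgroup G) ∧ π g = q := by
    intro q
    rw [hPQ, Sylow.coe_mapSurjective, Subgroup.mem_map]
    exact Iff.rfl
  -- the image of the Sylow subgroup determines it
  have hlift : ∀ a b : C, (a : G) ^ 3 = 1 → (b : G) ^ 3 = 1 → π a = π b → (a : G) = b := by
    intro a b ha hb e
    have h : π (a⁻¹ * b) = 1 := by rw [map_mul, map_inv, e, inv_mul_cancel]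
    rcases (hker _).1 h with h | h <;> simp only [Subgroup.coe_mul, Subgroup.coe_inv] at h
    · exact inv_mul_eq_one.1 h
    · exfalso
      have hc : Commute ((a : G)) (φ iL) := mem_centralizer_singleton_iff.1 a.2
      have h3 : ((b : G)) ^ 3 = (a : G) ^ 3 * (φ iL) ^ 3 := by
        rw [show (b : G) = a * φ iL by rw [← h]; group, hc.mul_pow]
      rw [ha, hb, one_mul, pow_succ, pow_two, ← map_mul, small_facts.2.2.1, map_one, one_mul] at h3
      exact D.i_ne h3.symm
  have hcardQ : Nat.card (PQ : Subgroup (C ⧸ zpowers iC)) = 9 := by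
    rw [← D.cardP]
    refine (Nat.card_eq_of_bijective (fun x : (P : Subgroup G) => (⟨π ⟨x, D.i_fix_P x x.2⟩,
      (hPQm _).2 ⟨_, x.2, rfl⟩⟩ : (PQ : Subgroup (C ⧸ zpowers iC)))) ⟨?_, ?_⟩).symm
    · exact fun x y e => Subtype.ext (hlift ⟨x, D.i_fix_P x x.2⟩ ⟨y, D.i_fix_P y y.2⟩ (D.exp x.2) (D.exp y.2)
        (congrArg Subtype.val e))
    · rintro ⟨q, hq⟩
      obtain ⟨g, hg, rfl⟩ := (hPQm q).1 hq
      exact ⟨⟨g, hg⟩, rfl⟩
  have hconj : ∀ g x : C, (x : G) ∈ (P : Subgroup G) → π g * π x * (π g)⁻¹ ∈ (PQ : Subgroup (C ⧸ zpowers iC)) →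
      (g : G) * x * (g : G)⁻¹ ∈ (P : Subgroup G) := by
    intro g x hx h
    obtain ⟨y, hy, e⟩ := (hPQm _).1 h
    rw [← map_inv, ← map_mul, ← map_mul] at e
    have := hlift (g * x * g⁻¹) y (by simp only [Subgroup.coe_mul, Subgroup.coe_inv]; rw [conj_pow, D.exp hx, mul_one, mul_inv_cancel])
      (D.exp hy) e.symm
    simp only [Subgroup.coe_mul, Subgroup.coe_inv] at this
    rw [this]; exact hy
  have hnorm : ∀ g : C, π g ∈ normalizer ((PQ : Subgroup (C ⧸ zpowers iC)) : Set (C ⧸ zpowers iC)) ↔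
      (g : G) ∈ normalizer ((P : Subgroup G) : Set G) := by
    intro g
    constructor
    · intro h
      refine mem_normalizer_iff_map_conj_eq.2 (eq_of_le_of_card_ge ?_ (by
        rw [card_map_of_injective (MulEquiv.injective _)]))
      rintro _ ⟨x, hx, rfl⟩
      exact hconj g ⟨x, D.i_fix_P x hx⟩ hx ((mem_normalizer_iff.1 h _).1 ((hPQm _).2 ⟨_, hx, rfl⟩))
    · intro h
      refine mem_normalizer_iff_map_conj_eq.2 (eq_of_le_of_card_ge ?_ (by
        rw [card_map_of_injective (MulEquiv.injective _)]))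
      rintro _ ⟨q, hq, rfl⟩
      obtain ⟨x, hx, rfl⟩ := (hPQm q).1 hq
      refine (hPQm _).2 ⟨g * x * g⁻¹, ?_, ?_⟩
      · simp only [Subgroup.coe_mul, Subgroup.coe_inv]
        exact (mem_normalizer_iff.1 h _).1 hx
      · rw [map_mul, map_mul, map_inv]; rfl
  have hcomm : ∀ g x : C, (x : G) ∈ (P : Subgroup G) → π g * π x = π x * π g → (g : G) * x = x * g := by
    intro g x hx e
    have h := hlift (g * x * g⁻¹) x
      (by simp only [Subgroup.coe_mul, Subgroup.coe_inv]; rw [conj_pow, D.exp hx, mul_one, mul_inv_cancel])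
      (D.exp hx) (by rw [map_mul, map_mul, map_inv, e, mul_inv_cancel_right])
    simp only [Subgroup.coe_mul, Subgroup.coe_inv] at h
    exact mul_inv_eq_iff_eq_mul.1 h
  have hPself : centralizer ((PQ : Subgroup (C ⧸ zpowers iC)) : Set (C ⧸ zpowers iC)) = PQ := by
    refine le_antisymm (fun q hq => ?_) ?_
    · obtain ⟨g, rfl⟩ := QuotientGroup.mk'_surjective (zpowers iC) q
      have hx : ∀ x ∈ (P : Subgroup G), (g : G) * x = x * g := fun x hx =>
        hcomm g ⟨x, D.i_fix_P x hx⟩ hx (mem_centralizer_iff.1 hq _ ((hPQm _).2 ⟨_, hx, rfl⟩)).symm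
      obtain ⟨a, e | e⟩ := D.centP (hx _ (by rw [← dL_facts.1]; exact D.mem _))
        (hx _ (by rw [← dL_facts.2.1]; exact D.mem _))
      · exact (hPQm _).2 ⟨g, e ▸ D.mem a, rfl⟩
      · refine (hPQm _).2 ⟨⟨φ (dL a), D.i_fix_P _ (D.mem a)⟩, D.mem a, ?_⟩
        have : g = (⟨φ (dL a), D.i_fix_P _ (D.mem a)⟩ : C) * iC := Subtype.ext (by simp [e, iC])
        have hi : π iC = 1 := (hker _).2 (Or.inr rfl)
        change _ = π g
        rw [this, map_mul, hi, mul_one]
    · intro q hq
      refine mem_centralizer_iff.2 fun r hr => ?_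
      obtain ⟨g, hg, rfl⟩ := (hPQm q).1 hq
      obtain ⟨h, hh, rfl⟩ := (hPQm r).1 hr
      rw [← map_mul, ← map_mul, show h * g = g * h from Subtype.ext (D.commP hh hg)]
  have hcentN : ∀ q ∈ (PQ : Subgroup (C ⧸ zpowers iC)), q ≠ 1 →
      centralizer ({q} : Set (C ⧸ zpowers iC)) ≤
        normalizer ((PQ : Subgroup (C ⧸ zpowers iC)) : Set (C ⧸ zpowers iC)) := by
    intro q hq hq1 r hr
    obtain ⟨x, hx, rfl⟩ := (hPQm q).1 hq
    obtain ⟨g, rfl⟩ := QuotientGroup.mk'_surjective (zpowers iC) r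
    refine (hnorm g).2 (D.cent_in_N hx (fun e => hq1 ?_) (mem_centralizer_singleton_iff.1 g.2)
      (hcomm g x hx (mem_centralizer_singleton_iff.1 hr)))
    rw [show x = 1 from Subtype.ext e, map_one]
  set N := normalizer ((P : Subgroup G) : Set G) with hNdef
  set NQ := normalizer ((PQ : Subgroup (C ⧸ zpowers iC)) : Set (C ⧸ zpowers iC)) with hNQ
  have hmemC : ∀ n : N, (n : G) ∈ C := fun n => mem_centralizer_singleton_iff.2 (D.N_fix_i n.2)
  let toQ : N →* NQ :=
    { toFun := fun n => ⟨π ⟨n, hmemC n⟩, (hnorm _).2 n.2⟩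
      map_one' := Subtype.ext (map_one π)
      map_mul' := fun a b => Subtype.ext (map_mul π ⟨a, hmemC a⟩ ⟨b, hmemC b⟩) }
  let f := (QuotientGroup.mk' ((PQ : Subgroup (C ⧸ zpowers iC)).subgroupOf NQ)).comp toQ
  have hfs : Function.Surjective f := by
    intro u
    obtain ⟨⟨q, hq⟩, rfl⟩ := QuotientGroup.mk'_surjective _ u
    obtain ⟨g, rfl⟩ := QuotientGroup.mk'_surjective (zpowers iC) q
    exact ⟨⟨g, (hnorm g).1 hq⟩, rfl⟩
  have hfk : f.ker = (centralizer ((P : Subgroup G) : Set G)).subgroupOf N := by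
    ext n
    rw [MonoidHom.mem_ker, MonoidHom.comp_apply, QuotientGroup.mk'_apply, QuotientGroup.eq_one_iff,
      mem_subgroupOf, mem_subgroupOf]
    change π ⟨n, hmemC n⟩ ∈ (PQ : Subgroup (C ⧸ zpowers iC)) ↔ _
    constructor
    · intro h
      obtain ⟨x, hx, e⟩ := (hPQm _).1 h
      have hk : π (x⁻¹ * ⟨n, hmemC n⟩) = 1 := by rw [map_mul, map_inv, e, inv_mul_cancel]
      refine mem_centralizer_iff.2 fun y hy => ?_
      have hcy : Commute y (n : G) := by
        rcases (hker _).1 hk with h' | h' <;> simp only [Subgroup.coe_mul, Subgroup.coe_inv] at h'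
        · rw [← inv_mul_eq_one.1 h']; exact D.commP hy hx
        · rw [show (n : G) = x * φ iL by rw [← h']; group]
          exact Commute.mul_right (D.commP hy hx) (D.N_fix_i (le_normalizer hy))
      exact hcy.eq
    · intro h
      rw [← hPself]
      refine mem_centralizer_iff.2 fun q hq => ?_
      obtain ⟨x, hx, rfl⟩ := (hPQm q).1 hq
      rw [← map_mul, ← map_mul]
      exact congrArg π (Subtype.ext (mem_centralizer_iff.1 h _ hx))
  have eN : NQ ⧸ (PQ : Subgroup (C ⧸ zpowers iC)).subgroupOf NQ ≃* DihedralGroup 4 :=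
    ((QuotientGroup.quotientKerEquivOfSurjective f hfs).symm.trans
      (QuotientGroup.quotientMulEquivOfEq hfk)).trans eNC
  rcases Cfsg.Agent.S3333.result PQ _ rfl hcardQ hPself eN hcentN with h | ⟨⟨e⟩⟩
  · left
    intro g hg
    refine (hnorm ⟨g, mem_centralizer_singleton_iff.2 hg⟩).1 ?_
    rw [hNQ, normalizer_eq_top_iff.2 h]; exact mem_top _
  · right
    refine ⟨e.toMonoidHom.comp π, e.surjective.comp (QuotientGroup.mk'_surjective _), fun g => ?_⟩
    rw [MonoidHom.comp_apply]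
    exact (map_eq_one_iff _ e.injective).trans (hker g)

end Frame

end Cfsg.Agent.EightFour
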