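import Mathlib
import Cfsg.Agent.Lib.CharTheory.AltPresentation

/-!
# Homomorphisms out of the symmetric group of degree eight
-/

set_option autoImplicit false
set_option linter.style.haveILetI false
set_option maxRecDepth 100000
set_option synthInstance.maxSize 10000

namespace Cfsg.Agent.EightFour

open CharTheory.AltPresentation

/-- Permutations of eight points. -/
abbrev S8 : Type := Equiv.Perm (Fin 8)

/-- An adjacent transposition. -/
abbrev adj8 (i : Fin 7) : S8 := Equiv.swap i.castSucc i.succ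

theorem adj8_rels : (∀ i j : Fin 7, i.val + 1 = j.val → (adj8 i * adj8 j) ^ 3 = 1) ∧
    ∀ i j : Fin 7, i.val + 1 < j.val → adj8 i * adj8 j = adj8 j * adj8 i := by decide +kernel

theorem conj_pow_three {Q : Type*} [Group Q] {g h : Q} (hg : g * g = 1) :
    (g * h * g) ^ 3 = g * h ^ 3 * g := by
  have hc : ∀ y : Q, g * (g * y) = y := fun y => by rw [← mul_assoc, hg, one_mul]
  simp [pow_succ, mul_assoc, hc]

variable {G : Type*} [Group G]

/-- The presentation by the seven adjacent transpositions. -/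
theorem exists_hom8 (s : Fin 7 → G) (hsq : ∀ i, s i * s i = 1)
    (hadj : ∀ i j : Fin 7, i.val + 1 = j.val → (s i * s j) ^ 3 = 1)
    (hfar : ∀ i j : Fin 7, i.val + 1 < j.val → s i * s j = s j * s i) :
    ∃ f : S8 →* G, ∀ i : Fin 7, f (adj8 i) = s i := by
  classical
  set g : Fin 7 → S8 × G := fun i => (adj8 i, s i) with hg
  have gsq : ∀ i, g i * g i = 1 := fun i => Prod.ext (Equiv.swap_mul_self _ _) (hsq i)
  have gadj : ∀ i j : Fin 7, i.val + 1 = j.val → (g i * g j) ^ 3 = 1 := fun i j h =>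
    Prod.ext (adj8_rels.1 i j h) (hadj i j h)
  have gfar : ∀ i j : Fin 7, i.val + 1 < j.val → Commute (g i) (g j) := fun i j h =>
    Prod.ext (adj8_rels.2 i j h) (hfar i j h)
  have gc : ∀ i (y : S8 × G), g i * (g i * y) = y := fun i y => by rw [← mul_assoc, gsq, one_mul]
  have sqc : ∀ {a b : S8 × G}, a * a = 1 → b * b = 1 → Commute a b → (a * b) ^ 2 = 1 :=
    fun {a b} ha hb hc => by rw [hc.mul_pow, sq, sq, ha, hb, one_mul]
  let x : ℕ → S8 × G := fun i => if h : i + 1 < 7 then g 0 * g ⟨i + 1, h⟩ else 1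
  have hx_eq : ∀ i, ∀ h : i + 1 < 7, x i = g 0 * g ⟨i + 1, h⟩ := fun i h => dif_pos h
  have hrels : Rels x 6 := by
    refine ⟨fun _ => ?_, fun i h1 h6 => ?_, fun i hi => ?_, fun i j hij hj => ?_⟩
    · rw [hx_eq 0 (by norm_num)]; exact gadj _ _ rfl
    · rw [hx_eq i (by omega)]
      exact sqc (gsq _) (gsq _) (gfar 0 ⟨i + 1, by omega⟩ (by simp; omega))
    · rw [hx_eq i (by omega), hx_eq (i + 1) (by omega)]
      rcases Nat.eq_zero_or_pos i with rfl | h0
      · rw [show g 0 * g ⟨0 + 1, by norm_num⟩ * (g 0 * g ⟨0 + 1 + 1, by norm_num⟩) =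
            g 0 * (g ⟨0 + 1, by norm_num⟩ * g ⟨0 + 1 + 1, by norm_num⟩) * g 0 by
          rw [(gfar 0 ⟨0 + 1 + 1, by norm_num⟩ (by simp)).eq]; simp [mul_assoc],
          conj_pow_three (gsq 0), gadj _ _ rfl, mul_one, gsq]
      · have hc1 := gfar 0 ⟨i + 1, by omega⟩ (by simp; omega)
        rw [show g 0 * g ⟨i + 1, by omega⟩ * (g 0 * g ⟨i + 1 + 1, by omega⟩) =
            g ⟨i + 1, by omega⟩ * g ⟨i + 1 + 1, by omega⟩ by
          rw [hc1.eq, mul_assoc, gc]]
        exact gadj _ _ rfl
    · rw [hx_eq i (by omega), hx_eq j (by omega)]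
      have hcj := gfar 0 ⟨j + 1, by omega⟩ (by simp; omega)
      have hij' := gfar ⟨i + 1, by omega⟩ ⟨j + 1, by omega⟩ (by simp; omega)
      rw [show g 0 * g ⟨i + 1, by omega⟩ * (g 0 * g ⟨j + 1, by omega⟩) =
          g 0 * (g ⟨i + 1, by omega⟩ * g ⟨j + 1, by omega⟩) * g 0 by rw [hcj.eq]; simp [mul_assoc]]
      rw [sq, show g 0 * (g ⟨i + 1, by omega⟩ * g ⟨j + 1, by omega⟩) * g 0 *
            (g 0 * (g ⟨i + 1, by omega⟩ * g ⟨j + 1, by omega⟩) * g 0) =
          g 0 * ((g ⟨i + 1, by omega⟩ * g ⟨j + 1, by omega⟩) * (g ⟨i + 1, by omega⟩ * g ⟨j + 1, by omega⟩)) *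
            g 0 by simp [mul_assoc, gc],
        ← sq (g ⟨i + 1, by omega⟩ * g ⟨j + 1, by omega⟩), sqc (gsq _) (gsq _) hij', mul_one, gsq]
  set R := Subgroup.closure (x '' Set.Iio 6) with hR
  obtain ⟨hfin, hcard⟩ := card_closure_le hrels 6 (by omega) le_rfl
  rw [← hR] at hfin hcard
  set Γ := Subgroup.closure (Set.range g) with hΓ
  have hx : ∀ i : Fin 7, g 0 * g i ∈ R := by
    rintro ⟨i, hi⟩
    rcases i with _ | i
    · rw [show g ⟨0, hi⟩ = g 0 from rfl, gsq]; exact R.one_mem
    · exact Subgroup.subset_closure ⟨i, show i < 6 by omega, hx_eq i hi⟩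
  have hx' : ∀ i : Fin 7, g i * g 0 ∈ R := fun i => by
    have := R.inv_mem (hx i)
    rwa [mul_inv_rev, inv_eq_of_mul_eq_one_right (gsq i), inv_eq_of_mul_eq_one_right (gsq 0)] at this
  have hΓR : ∀ y ∈ Γ, y ∈ R ∨ y * g 0 ∈ R := by
    intro y hy
    have step : ∀ (y : S8 × G) (i : Fin 7), (y ∈ R ∨ y * g 0 ∈ R) →
        (y * g i ∈ R ∨ y * g i * g 0 ∈ R) := by
      intro y i h
      rcases h with h | h
      · right; rw [mul_assoc]; exact R.mul_mem h (hx' i)
      · left
        have := R.mul_mem h (hx i)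
        rwa [← mul_assoc, mul_assoc y, gsq, mul_one] at this
    induction hy using Subgroup.closure_induction_right with
    | one => exact Or.inl R.one_mem
    | mul_right z _ w hw ih => obtain ⟨i, rfl⟩ := hw; exact step z i ih
    | mul_inv_cancel z _ w hw ih =>
      obtain ⟨i, rfl⟩ := hw
      rw [inv_eq_of_mul_eq_one_right (gsq i)]
      exact step z i ih
  let enc : Γ → R × Bool := fun y =>
    if h : (y : S8 × G) ∈ R then (⟨y, h⟩, true)
    else (⟨y * g 0, (hΓR y y.2).resolve_left h⟩, false)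
  have henc : Function.Injective enc := fun a b h => by
    apply Subtype.ext
    simp only [enc] at h
    split_ifs at h
    · simpa using h
    · simp at h
    · simp at h
    · simpa using h
  haveI := hfin
  haveI : Finite Γ := Finite.of_injective enc henc
  have hΓcard : Nat.card Γ ≤ 40320 := by
    have := Nat.card_le_card_of_injective enc henc
    rw [Nat.card_prod, Nat.card_eq_fintype_card (α := Bool), Fintype.card_bool] at this
    simp only [Nat.factorial] at hcard
    omega
  let p : Γ →* S8 := (MonoidHom.fst _ _).comp Γ.subtype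
  have hp : Function.Surjective p := by
    intro σ
    have hσ : σ ∈ Submonoid.closure (Set.range fun i : Fin 7 => adj8 i) := by
      rw [Equiv.Perm.mclosure_swap_castSucc_succ 7]; exact Submonoid.mem_top σ
    have : σ ∈ p.range := by
      induction hσ using Submonoid.closure_induction with
      | mem y hy => obtain ⟨i, rfl⟩ := hy; exact ⟨⟨g i, Subgroup.subset_closure ⟨i, rfl⟩⟩, rfl⟩
      | one => exact one_mem _
      | mul a b _ _ ha hb => exact mul_mem ha hb
    exact this
  have h8 : Nat.card S8 = 40320 := by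
    rw [Nat.card_eq_fintype_card, Fintype.card_perm, Fintype.card_fin]; rfl
  have hbij : Function.Bijective p := (Nat.bijective_iff_surjective_and_card p).2
    ⟨hp, le_antisymm (h8 ▸ hΓcard) (Nat.card_le_card_of_surjective p hp)⟩
  refine ⟨((MonoidHom.snd _ _).comp Γ.subtype).comp (MulEquiv.ofBijective p hbij).symm.toMonoidHom,
    fun i => ?_⟩
  have : (MulEquiv.ofBijective p hbij).symm (adj8 i) = ⟨g i, Subgroup.subset_closure ⟨i, rfl⟩⟩ :=
    (MulEquiv.ofBijective p hbij).symm_apply_eq.2 rfl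
  simp [this, hg]

/-- A homomorphism out of the symmetric group of degree eight is determined by the transpositions. -/
theorem hom_ext_swaps {n : ℕ} {f g : Equiv.Perm (Fin (n + 1)) →* G}
    (h : ∀ i : Fin n, f (Equiv.swap i.castSucc i.succ) = g (Equiv.swap i.castSucc i.succ)) : f = g := by
  ext σ
  have hσ : σ ∈ Submonoid.closure (Set.range fun i : Fin n => Equiv.swap i.castSucc i.succ) := by
    rw [Equiv.Perm.mclosure_swap_castSucc_succ n]; exact Submonoid.mem_top σ
  induction hσ using Submonoid.closure_induction with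
  | mem y hy => obtain ⟨i, rfl⟩ := hy; exact h i
  | one => rw [map_one, map_one]
  | mul a b _ _ ha hb => rw [map_mul, map_mul, ha, hb]

theorem two_triples : ∀ a : Fin 8, ∃ b c d e : Fin 8, a ≠ b ∧ b ≠ c ∧ a ≠ c ∧ a ≠ d ∧ d ≠ e ∧ a ≠ e ∧
    b ≠ d ∧ b ≠ e ∧ c ≠ d ∧ c ≠ e := by decide +kernel

theorem eight_trivial {k : S8} (h : ∀ a ∈ alternatingGroup (Fin 8), k * a = a * k) : k = 1 := by
  refine Equiv.ext fun a => ?_
  have key : ∀ b c : Fin 8, a ≠ b → b ≠ c → a ≠ c → k a = a ∨ k a = b ∨ k a = c := by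
    intro b c hab hbc hac
    by_contra hcon
    push Not at hcon
    obtain ⟨n1, n2, n3⟩ := hcon
    set x := Equiv.swap a b * Equiv.swap b c with hx
    have hmem : x ∈ alternatingGroup (Fin 8) := by
      rw [Equiv.Perm.mem_alternatingGroup, hx, map_mul, Equiv.Perm.sign_swap hab, Equiv.Perm.sign_swap hbc]
      rfl
    have h1 : x (k a) = k a := by
      rw [hx, Equiv.Perm.mul_apply, Equiv.swap_apply_of_ne_of_ne n2 n3, Equiv.swap_apply_of_ne_of_ne n1 n2]
    have h2 : x a = b := by
      rw [hx, Equiv.Perm.mul_apply, Equiv.swap_apply_of_ne_of_ne hab hac, Equiv.swap_apply_left]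
    have h3 := congrArg (fun p : S8 => p a) (h x hmem)
    simp only [Equiv.Perm.mul_apply] at h3
    rw [h2, h1] at h3
    exact hab (k.injective h3).symm
  obtain ⟨b, c, d, e, hab, hbc, hac, had, hde, hae, hbd, hbe, hcd, hce⟩ := two_triples a
  rw [Equiv.Perm.one_apply]
  rcases key b c hab hbc hac with e1 | e1 | e1 <;> rcases key d e had hde hae with e2 | e2 | e2 <;>
    first
    | exact e1
    | exact e2
    | exact absurd (e1.symm.trans e2) hbd
    | exact absurd (e1.symm.trans e2) hbe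
    | exact absurd (e1.symm.trans e2) hcd
    | exact absurd (e1.symm.trans e2) hce

/-- A homomorphism not killing a three cycle is injective. -/
theorem injective8 {f : S8 →* G} {a : S8} (ha : a ∈ alternatingGroup (Fin 8)) (h : f a ≠ 1) :
    Function.Injective f := by
  rw [← MonoidHom.ker_eq_bot_iff, eq_bot_iff]
  haveI := alternatingGroup.isSimpleGroup (α := Fin 8) (by simp)
  set A := alternatingGroup (Fin 8)
  have hbot : f.ker.subgroupOf A = ⊥ :=
    (Subgroup.Normal.eq_bot_or_eq_top (inferInstance : (f.ker.subgroupOf A).Normal)).resolve_right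
      fun ht => h (MonoidHom.mem_ker.1 ((Subgroup.subgroupOf_eq_top.1 ht) ha))
  intro g hg
  refine Subgroup.mem_bot.2 (eight_trivial fun a ha => ?_)
  have hm : g * a * g⁻¹ * a⁻¹ ∈ f.ker := by
    simp [MonoidHom.mem_ker, MonoidHom.mem_ker.1 hg]
  have hA : g * a * g⁻¹ * a⁻¹ ∈ A :=
    A.mul_mem ((inferInstance : A.Normal).conj_mem a ha g) (A.inv_mem ha)
  have : (⟨_, hA⟩ : A) ∈ f.ker.subgroupOf A := hm
  rw [hbot, Subgroup.mem_bot] at this
  have h1 : g * a * g⁻¹ * a⁻¹ = 1 := congrArg Subtype.val this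
  calc g * a = (g * a * g⁻¹ * a⁻¹) * a * g := by group
    _ = a * g := by rw [h1, one_mul]

end Cfsg.Agent.EightFour
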