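import Cfsg.Agent.Lib.EightFour.Six

/-!
# Facts about the symmetric group of degree six, up to conjugation
-/

set_option autoImplicit false
set_option maxRecDepth 100000
set_option synthInstance.maxSize 10000

namespace Cfsg.Agent.EightFour

theorem invReps_cover : ∀ x : S6, IsTwo x → ∃ c : S6, c * x * c⁻¹ ∈ invReps := by
  decide +kernel

theorem threeReps_cover : ∀ x : S6, x ^ 3 = 1 → x ≠ 1 → ∃ c : S6, c * x * c⁻¹ ∈ threeReps := by
  decide +kernel

theorem isTwo_map (f : S6 ≃* S6) {x : S6} : IsTwo (f x) ↔ IsTwo x := by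
  unfold IsTwo
  rw [← map_mul, f.map_eq_one_iff, ne_eq, f.map_eq_one_iff]

/-- The gap in a chain of transpositions. -/
theorem five_gap {x3 x4 x5 x6 a : S6} (h3 : IsTwo x3) (h4 : IsTwo x4) (h5 : IsTwo x5) (h6 : IsTwo x6)
    (ha : IsTwo a) (h56 : x5 ≠ x6) (p56 : (x5 * x6) ^ 3 = 1) (c35 : x3 * x5 = x5 * x3)
    (c36 : x3 * x6 = x6 * x3) (c46 : x4 * x6 = x6 * x4) (h34 : x3 ≠ x4) (h45 : x4 ≠ x5)
    (p34 : (x3 * x4) ^ 3 = 1) (p45 : (x4 * x5) ^ 3 = 1) (a5 : a * x5 = x5 * a) (a6 : a * x6 = x6 * a)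
    (a3 : a ≠ x3) (pa3 : (a * x3) ^ 3 = 1) :
    a * x4 = x4 * a ∨ x3 * a * x3 * x4 = x4 * (x3 * a * x3) := by
  obtain ⟨c, hc⟩ := invReps_cover x5 h5
  set f := MulAut.conj c
  have hi : ∀ {u v : S6}, f u ≠ f v ↔ u ≠ v := fun {u v} => f.injective.ne_iff
  have hp : ∀ {u v : S6}, (u * v) ^ 3 = 1 → (f u * f v) ^ 3 = 1 := fun {u v} h => by
    rw [← map_mul, ← map_pow, h, map_one]
  have hm : ∀ {u v : S6}, u * v = v * u → f u * f v = f v * f u := fun {u v} h => by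
    rw [← map_mul, h, map_mul]
  have h := five_gap_reps (f x5) hc (f x6) ((isTwo_map f).2 h6) (hi.2 h56) (hp p56)
    (f x3) ((isTwo_map f).2 h3) (hm c35) (hm c36) (f x4) ((isTwo_map f).2 h4) (hm c46) (hi.2 h34)
    (hi.2 h45) (hp p34) (hp p45) (f a) ((isTwo_map f).2 ha) (hm a5) (hm a6) (hi.2 a3) (hp pa3)
  simp only [← map_mul] at h
  exact h.imp (fun e => f.injective e) fun e => f.injective e

/-- The configuration of two commuting elements of order three with two inverting involutions. -/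
theorem frame_six {Z W U R : S6} (hZ3 : Z ^ 3 = 1) (hZ1 : Z ≠ 1) (hWZ : W * Z = Z * W) (hW3 : W ^ 3 = 1)
    (hW1 : W ≠ 1) (hne : W ≠ Z) (hne' : W ≠ Z⁻¹) (hUW : U * W = W * U) (hUZ : U * Z * U⁻¹ = Z⁻¹)
    (hU : IsTwo U) (hRZ : R * Z = Z * R) (hRW : R * W * R⁻¹ = W⁻¹) (hR : IsTwo R) :
    ∃ g e : S6, g * U = U * g ∧ e = g * R * g⁻¹ ∧ e * R = R * e ∧ e ≠ R ∧ e ≠ U ∧ e ≠ U * R ∧
      (∃ h : S6, h * U * h⁻¹ = R ∧ h * e = e * h) ∧
      (∃ k : S6, k * (Z * W) * k⁻¹ * (U * R * e) = U * R * e * (k * (Z * W) * k⁻¹)) ∧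
      ∀ x : S6, x * U = U * x → x * R = R * x → x ∈ [1, U, R, U * R, e, U * e, R * e, U * R * e] := by
  obtain ⟨c, hc⟩ := threeReps_cover Z hZ3 hZ1
  set f := MulAut.conj c with hf
  have hm : ∀ {u v : S6}, u * v = v * u → f u * f v = f v * f u := fun {u v} h => by
    rw [← map_mul, h, map_mul]
  obtain ⟨g, -, g1, g2, g3, g4, g5, ⟨h, -, h1, h2⟩, ⟨k, -, k1⟩, hall⟩ := frame_reps (f Z) hc (f W) (hm hWZ)
    (by rw [← map_pow, hW3, map_one]) (by rwa [Ne, f.map_eq_one_iff]) (f.injective.ne_iff.2 hne)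
    (by rw [← map_inv]; exact f.injective.ne_iff.2 hne')
    (f U) (hm hUW) (by rw [← map_inv, ← map_mul, ← map_mul, hUZ, map_inv]) ((isTwo_map f).2 hU)
    (f R) (hm hRZ) (by rw [← map_inv, ← map_mul, ← map_mul, hRW, map_inv]) ((isTwo_map f).2 hR)
  obtain ⟨g, rfl⟩ := f.surjective g
  obtain ⟨h, rfl⟩ := f.surjective h
  obtain ⟨k, rfl⟩ := f.surjective k
  have hi : ∀ {u v : S6}, f u = f v → u = v := fun {u v} e => f.injective e
  refine ⟨g, g * R * g⁻¹, hi (by rw [map_mul, map_mul]; exact g1), rfl,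
    hi (by simp only [map_mul, map_inv]; exact g2), fun e => g3 (by rw [← map_inv, ← map_mul, ← map_mul, e]),
    fun e => g4 (by rw [← map_inv, ← map_mul, ← map_mul, e]),
    fun e => g5 (by rw [← map_inv, ← map_mul, ← map_mul, ← map_mul, e]),
    ⟨h, hi (by simp only [map_mul, map_inv]; exact h1), hi (by simp only [map_mul, map_inv]; exact h2)⟩,
    ⟨k, hi (by simp only [map_mul, map_inv]; exact k1)⟩, fun x x1 x2 => ?_⟩
  have := hall (f x) (hm x1) (hm x2)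
  simp only [List.mem_cons, List.not_mem_nil, or_false] at this ⊢
  have e1 : f x = 1 → x = 1 := fun e => hi (by rw [map_one]; exact e)
  refine this.imp e1 (Or.imp (fun e => hi e) (Or.imp (fun e => hi e) (Or.imp (fun e => hi ?_)
    (Or.imp (fun e => hi ?_) (Or.imp (fun e => hi ?_) (Or.imp (fun e => hi ?_) (fun e => hi ?_)))))))
  all_goals simp only [map_mul, map_inv]; exact e

end Cfsg.Agent.EightFour
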