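import Cfsg.Agent.Lib.EightFour.CentI
import Cfsg.Agent.Lib.EightFour.SixConj
import Cfsg.Agent.Lib.EightFour.Hom8

/-!
# The missing relation in the chain of transpositions
-/

set_option autoImplicit false
set_option linter.style.haveILetI false
set_option linter.unusedSectionVars false
set_option maxRecDepth 100000
set_option synthInstance.maxSize 10000

namespace Cfsg.Agent.EightFour

open Subgroup

/-- The transposition of the other block reached from the first. -/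
def bL : L := (1, Equiv.swap 4 0)

/-- A transposition. -/
def x4L : L := (1, Equiv.swap 1 2)

/-- A transposition. -/
def x6L : L := (1, Equiv.swap 3 4)

/-- The second transposition of the first block. -/
def s1L : L := (Equiv.swap 1 2, 1)

theorem chain_facts : s1L * s1L = 1 ∧ bL * bL = 1 ∧ x4L * x4L = 1 ∧ x6L * x6L = 1 ∧
    (sL * s1L) ^ 3 = 1 ∧ (qL * x6L) ^ 3 = 1 ∧ (x4L * qL) ^ 3 = 1 ∧ (iL * x4L) ^ 3 = 1 ∧
    (x6L * bL) ^ 3 = 1 ∧ (bL * iL) ^ 3 = 1 ∧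
    sL * x4L = x4L * sL ∧ sL * x6L = x6L * sL ∧ s1L * iL = iL * s1L ∧ s1L * x4L = x4L * s1L ∧
    s1L * qL = qL * s1L ∧ s1L * x6L = x6L * s1L ∧ iL * qL = qL * iL ∧ iL * x6L = x6L * iL ∧
    x4L * x6L = x6L * x4L ∧ qL * bL = bL * qL ∧ bL * sL = sL * bL ∧ bL * s1L = s1L * bL ∧
    zL * sL * zL⁻¹ = s1L ∧ wL * qL * wL⁻¹ = x6L := by
  decide +kernel

theorem chain_ne : (iL ≠ 1 ∧ iL ≠ sL) ∧ (x4L ≠ 1 ∧ x4L ≠ sL) ∧ (qL ≠ 1 ∧ qL ≠ sL) ∧ (x6L ≠ 1 ∧ x6L ≠ sL) ∧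
    (qL * x6L ≠ 1 ∧ qL * x6L ≠ sL) ∧ (iL * x4L ≠ 1 ∧ iL * x4L ≠ sL) ∧ (x4L * qL ≠ 1 ∧ x4L * qL ≠ sL) ∧
    (bL ≠ 1 ∧ bL ≠ qL) ∧ (bL * iL ≠ 1 ∧ bL * iL ≠ qL) := by
  decide +kernel

/-- The second factor commutes with the transposition of the first. -/
def inr5 : Equiv.Perm (Fin 5) →* L := MonoidHom.inr _ _

theorem inr5_comm (p : Equiv.Perm (Fin 5)) : inr5 p * sL = sL * inr5 p :=
  Prod.ext (by simp [inr5, sL]) (by simp [inr5, sL])

variable {G : Type*} [Group G] [Finite G] {P : Sylow 3 G} {φ : L →* G} {t : G}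

namespace Frame

variable (D : Frame P φ t)
include D

theorem ts_one (hS : t * φ sL * t = φ qL) : t * φ s1L * t = φ x6L ∧ t * φ qL * t = φ sL ∧ t * φ x6L * t = φ s1L := by
  have h := chain_facts
  have h1 : t * φ s1L * t = φ x6L := by
    rw [← h.2.2.2.2.2.2.2.2.2.2.2.2.2.2.2.2.2.2.2.2.2.2.1, ← h.2.2.2.2.2.2.2.2.2.2.2.2.2.2.2.2.2.2.2.2.2.2.2]
    simp only [map_mul, map_inv, D.tmul, D.tz, hS]
    congr 1
    rw [← D.tz, mul_inv_rev, mul_inv_rev, D.tinv, mul_assoc]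
  exact ⟨h1, by rw [← hS, D.ttwice], by rw [← h1, D.ttwice]⟩

theorem gap
    [hcn : ((centralizer ((P : Subgroup G) : Set G)).subgroupOf
      (normalizer ((P : Subgroup G) : Set G))).Normal]
    (eNC : normalizer ((P : Subgroup G) : Set G) ⧸ (centralizer ((P : Subgroup G) : Set G)).subgroupOf
      (normalizer ((P : Subgroup G) : Set G)) ≃* DihedralGroup 4)
    (hS : t * φ sL * t = φ qL) :
    t * φ bL * t * φ x4L = φ x4L * (t * φ bL * t) ∨
      φ iL * (t * φ bL * t) * φ iL * φ x4L = φ x4L * (φ iL * (t * φ bL * t) * φ iL) := by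
  obtain ⟨h11, hbb, h44, h66, p01, p56, p45, p34, p6b, pbi, c04, c06, c13, c14, c15, c16, c35, c36, c46,
    cqb, cbs, cb1, -, -⟩ := chain_facts
  obtain ⟨n3, n4, n5, n6, n56, n34, n45, nb, nbi⟩ := chain_ne
  obtain ⟨hss, hqq, hii, -, -, -, hqi, -, csi, csq, -⟩ := small_facts
  obtain ⟨t1, tq, t6⟩ := D.ts_one hS
  set a := t * φ bL * t with ha
  obtain ⟨g1, hg1⟩ := D.q_conj_i
  set g0 := g1 * t with hg0
  have hq : g0 * φ sL * g0⁻¹ = φ iL := by
    rw [hg0, mul_inv_rev, D.tinv, show g1 * t * φ sL * (t * g1⁻¹) = g1 * (t * φ sL * t) * g1⁻¹ by group, hS, hg1]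
  have hcomm : ∀ x : G, x * φ sL = φ sL * x → g0 * x * g0⁻¹ * φ iL = φ iL * (g0 * x * g0⁻¹) := fun x hx => by
    rw [← hq]
    calc g0 * x * g0⁻¹ * (g0 * φ sL * g0⁻¹) = g0 * (x * φ sL) * g0⁻¹ := by group
      _ = g0 * (φ sL * x) * g0⁻¹ := by rw [hx]
      _ = _ := by group
  have hphi : ∀ p : L, p * sL = sL * p → φ p * φ sL = φ sL * φ p := fun p hp => by
    rw [← map_mul, hp, map_mul]
  obtain hN | ⟨ψ, -, hk⟩ := D.cent_i eNC
  · -- too many elements centralize the transposition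
    exfalso
    let j : Equiv.Perm (Fin 5) →* normalizer ((P : Subgroup G) : Set G) :=
      (((MulAut.conj g0).toMonoidHom.comp φ).comp inr5).codRestrict _ fun p =>
        hN _ (hcomm _ (hphi _ (inr5_comm p)))
    have hj : Function.Injective j := fun p q e => by
      have e' := D.inj ((MulAut.conj g0).injective (congrArg Subtype.val e))
      exact congrArg Prod.snd e'
    have hdvd := card_dvd_of_injective j hj
    rw [D.cardN, Nat.card_eq_fintype_card, Fintype.card_perm, Fintype.card_fin] at hdvd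
    norm_num [Nat.factorial] at hdvd
  have hac : a * φ sL = φ sL * a := by
    rw [← tq, ha]
    have : bL * qL = qL * bL := cqb.symm
    rw [← D.tmul, ← D.tmul, ← map_mul, this, map_mul]
  set Cs := centralizer ({φ sL} : Set G) with hCs
  let cj : Cs →* centralizer ({φ iL} : Set G) :=
    ((MulAut.conj g0).toMonoidHom.comp Cs.subtype).codRestrict _ fun x =>
      mem_centralizer_singleton_iff.2 (hcomm x (mem_centralizer_singleton_iff.1 x.2))
  let Ψ : Cs →* Equiv.Perm (Fin 6) := ψ.comp cj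
  have Ψone : ∀ x : Cs, Ψ x = 1 ↔ (x : G) = 1 ∨ (x : G) = φ sL := by
    intro x
    refine (hk (cj x)).trans ?_
    change g0 * (x : G) * g0⁻¹ = 1 ∨ g0 * (x : G) * g0⁻¹ = φ iL ↔ _
    rw [conj_eq_one_iff, ← hq]
    exact or_congr Iff.rfl ⟨fun e => mul_left_cancel (mul_right_cancel e), fun e => by rw [e]⟩
  have Ψc : ∀ x y : Cs, (x : G) * y = y * x → Ψ x * Ψ y = Ψ y * Ψ x := fun x y e => by
    rw [← map_mul, ← map_mul, show x * y = y * x from Subtype.ext e]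
  have Ψp : ∀ x y : Cs, ((x : G) * y) ^ 3 = 1 → (Ψ x * Ψ y) ^ 3 = 1 := fun x y e => by
    rw [← map_mul, ← map_pow, show (x * y) ^ 3 = 1 from Subtype.ext e, map_one]
  have Ψne : ∀ x y : Cs, (y : G) * y = 1 → (x : G) * y ≠ 1 → (x : G) * y ≠ φ sL → Ψ x ≠ Ψ y :=
    fun x y hy h1 h2 e => by
      have : Ψ (x * y) = 1 := by
        rw [map_mul, e, ← map_mul, show y * y = 1 from Subtype.ext hy, map_one]
      exact ((Ψone _).1 this).elim h1 h2
  have Ψtwo : ∀ x : Cs, (x : G) * x = 1 → (x : G) ≠ 1 → (x : G) ≠ φ sL → IsTwo (Ψ x) :=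
    fun x h2 h1 hs => ⟨by rw [← map_mul, show x * x = 1 from Subtype.ext h2, map_one],
      fun e => ((Ψone x).1 e).elim h1 hs⟩
  let mk : (p : L) → p * sL = sL * p → Cs := fun p hp => ⟨φ p, mem_centralizer_singleton_iff.2 (hphi p hp)⟩
  set X3 := mk iL csi.symm with hX3
  set X4 := mk x4L c04.symm with hX4
  set X5 := mk qL csq.symm with hX5
  set X6 := mk x6L c06.symm with hX6
  set A : Cs := ⟨a, mem_centralizer_singleton_iff.2 hac⟩ with hA
  have phi_ne : ∀ p : L, p ≠ 1 ∧ p ≠ sL → φ p ≠ 1 ∧ φ p ≠ φ sL := fun p h =>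
    ⟨fun e => h.1 (D.inj (e.trans (map_one φ).symm)), fun e => h.2 (D.inj e)⟩
  have phi_sq : ∀ p : L, p * p = 1 → φ p * φ p = 1 := fun p h => by rw [← map_mul, h, map_one]
  have t_ne : ∀ p : L, p ≠ 1 ∧ p ≠ qL → t * φ p * t ≠ 1 ∧ t * φ p * t ≠ φ sL := fun p h => by
    refine ⟨fun e => h.1 (D.inj ?_), fun e => h.2 (D.inj ?_)⟩
    · rw [map_one, ← D.ttwice (φ p), e, mul_one, D.t2]
    · rw [← D.ttwice (φ p), e, hS]
  have haa : a * a = 1 := by rw [ha, ← D.tmul, ← map_mul, hbb, map_one, mul_one, D.t2]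
  have hai : a * φ iL = t * φ (bL * iL) * t := by rw [map_mul, D.tmul, D.ti]
  obtain ⟨pbi1, pbi2⟩ := t_ne _ nbi
  obtain ⟨a1, a2⟩ := t_ne _ nb
  have ne2 : ∀ p q : L, p * q ≠ 1 ∧ p * q ≠ sL → φ p * φ q ≠ 1 ∧ φ p * φ q ≠ φ sL := fun p q h => by
    rw [← map_mul]; exact phi_ne _ h
  have key := five_gap (x3 := Ψ X3) (x4 := Ψ X4) (x5 := Ψ X5) (x6 := Ψ X6) (a := Ψ A)
    (Ψtwo _ (phi_sq _ hii) (phi_ne _ n3).1 (phi_ne _ n3).2)
    (Ψtwo _ (phi_sq _ h44) (phi_ne _ n4).1 (phi_ne _ n4).2)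
    (Ψtwo _ (phi_sq _ hqq) (phi_ne _ n5).1 (phi_ne _ n5).2)
    (Ψtwo _ (phi_sq _ h66) (phi_ne _ n6).1 (phi_ne _ n6).2)
    (Ψtwo _ haa a1 a2)
    (Ψne _ _ (phi_sq _ h66) (ne2 _ _ n56).1 (ne2 _ _ n56).2)
    (Ψp _ _ (show (φ qL * φ x6L) ^ 3 = 1 by rw [← map_mul, ← map_pow, p56, map_one]))
    (Ψc _ _ (show φ iL * φ qL = φ qL * φ iL by rw [← map_mul, c35, map_mul]))
    (Ψc _ _ (show φ iL * φ x6L = φ x6L * φ iL by rw [← map_mul, c36, map_mul]))
    (Ψc _ _ (show φ x4L * φ x6L = φ x6L * φ x4L by rw [← map_mul, c46, map_mul]))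
    (Ψne _ _ (phi_sq _ h44) (ne2 _ _ n34).1 (ne2 _ _ n34).2)
    (Ψne _ _ (phi_sq _ hqq) (ne2 _ _ n45).1 (ne2 _ _ n45).2)
    (Ψp _ _ (show (φ iL * φ x4L) ^ 3 = 1 by rw [← map_mul, ← map_pow, p34, map_one]))
    (Ψp _ _ (show (φ x4L * φ qL) ^ 3 = 1 by rw [← map_mul, ← map_pow, p45, map_one]))
    (Ψc _ _ (show a * φ qL = φ qL * a by rw [← hS, ha, ← D.tmul, ← D.tmul, ← map_mul, cbs, map_mul]))
    (Ψc _ _ (show a * φ x6L = φ x6L * a by rw [← t1, ha, ← D.tmul, ← D.tmul, ← map_mul, cb1, map_mul]))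
    (Ψne _ _ (phi_sq _ hii) (show a * φ iL ≠ 1 from hai ▸ pbi1) (show a * φ iL ≠ φ sL from hai ▸ pbi2))
    (Ψp _ _ (show (a * φ iL) ^ 3 = 1 by rw [hai, ← D.tpow, ← map_pow, pbi, map_one, mul_one, D.t2]))
  -- lifting from the quotient
  have lift : ∀ (t' : G) (D' : Frame P φ t') (_ : t' * φ sL * t' = φ qL) (c : Cs),
      (c : G) = t' * φ bL * t' → Ψ c * Ψ X4 = Ψ X4 * Ψ c → (c : G) * φ x4L = φ x4L * c := by
    intro t' D' hS' c hc e
    have hcc : (c : G) * c = 1 := by rw [hc, ← D'.tmul, ← map_mul, hbb, map_one, mul_one, D'.t2]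
    have h2 : Ψ (c * X4 * (c * X4)) = 1 := by
      rw [map_mul, map_mul]
      calc Ψ c * Ψ X4 * (Ψ c * Ψ X4) = Ψ c * Ψ c * (Ψ X4 * Ψ X4) := by
            rw [mul_assoc, ← mul_assoc (Ψ X4), ← e]; group
        _ = 1 := by
            rw [← map_mul, ← map_mul, show c * c = 1 from Subtype.ext hcc,
              show X4 * X4 = 1 from Subtype.ext (phi_sq _ h44), map_one, one_mul]
    have hx44 := inv_eq_of_mul_eq_one_left (phi_sq _ h44)
    rcases (Ψone _).1 h2 with h' | h' <;> simp only [Subgroup.coe_mul] at h' <;>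
      change (c : G) * φ x4L * ((c : G) * φ x4L) = _ at h'
    · calc (c : G) * φ x4L = (c : G) * φ x4L * ((c : G) * φ x4L * ((c : G) * φ x4L))⁻¹ := by
            rw [h', inv_one, mul_one]
        _ = (φ x4L)⁻¹ * (c : G)⁻¹ := by group
        _ = φ x4L * c := by rw [inv_eq_of_mul_eq_one_left hcc, hx44]
    · exfalso
      have e1 : φ x4L * (c : G) * (φ x4L)⁻¹ = t' * φ (bL * qL) * t' := by
        rw [map_mul, D'.tmul, ← hc, ← hS', D'.ttwice, ← h', hx44]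
        calc φ x4L * (c : G) * φ x4L = (c : G) * c * φ x4L * c * φ x4L := by rw [hcc, one_mul]
          _ = _ := by group
      obtain ⟨v, hv⟩ : ∃ v : L, v * bL * v⁻¹ = iL := ⟨(1, Equiv.swap 1 4), by decide +kernel⟩
      obtain ⟨u, hu⟩ : ∃ u : L, u * rL * u⁻¹ = bL * qL :=
        ⟨(1, Equiv.swap 1 4), by decide +kernel⟩
      refine D.r_not_conj_i (φ v * t' * (φ x4L)⁻¹ * t' * φ u) ?_
      rw [← hu, hc, map_mul, map_mul, map_inv] at e1
      rw [← hv, map_mul, map_mul, map_inv]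
      calc φ v * t' * (φ x4L)⁻¹ * t' * φ u * φ rL * (φ v * t' * (φ x4L)⁻¹ * t' * φ u)⁻¹
          = φ v * t' * (φ x4L)⁻¹ * (t' * (φ u * φ rL * (φ u)⁻¹) * t'⁻¹) * φ x4L * t'⁻¹ * (φ v)⁻¹ := by group
        _ = φ v * t' * (φ x4L)⁻¹ * (φ x4L * (t' * φ bL * t') * (φ x4L)⁻¹) * φ x4L * t'⁻¹ * (φ v)⁻¹ := by
            rw [D'.tinv, e1]
        _ = φ v * (t' * (t' * φ bL * t') * t'⁻¹) * (φ v)⁻¹ := by group
        _ = φ v * φ bL * (φ v)⁻¹ := by rw [D'.tinv, D'.ttwice]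
  rcases key with e | e
  · exact Or.inl (lift t D hS A rfl e)
  · right
    have hti : t * φ iL = φ iL * t := by
      conv_rhs => rw [← D.ti]
      rw [mul_assoc, D.t2, mul_one]
    have hS' : t * φ iL * φ sL * (t * φ iL) = φ qL := by
      calc t * φ iL * φ sL * (t * φ iL) = t * φ iL * φ sL * (φ iL * t) := by rw [hti]
        _ = t * φ (sL * iL * iL) * t := by rw [csi, map_mul, map_mul]; group
        _ = φ qL := by rw [mul_assoc sL, hii, mul_one, hS]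
    have hc : ((X3 * A * X3 : Cs) : G) = t * φ iL * φ bL * (t * φ iL) := by
      show φ iL * a * φ iL = _
      calc φ iL * a * φ iL = φ iL * t * φ bL * (t * φ iL) := by rw [ha]; group
        _ = t * φ iL * φ bL * (t * φ iL) := by rw [← hti]
    have h := lift _ D.twist hS' (X3 * A * X3) hc (by rw [map_mul, map_mul]; exact e)
    exact h

end Frame

end Cfsg.Agent.EightFour
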