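import Cfsg.Agent.Lib.EightFour.Setup

/-!
# The normalizer of the Sylow subgroup, and fusion
-/

set_option autoImplicit false
set_option linter.style.haveILetI false
set_option linter.unusedSectionVars false
set_option maxRecDepth 100000
set_option synthInstance.maxSize 10000

namespace Cfsg.Agent.EightFour

open Subgroup
open EightLocal (card_centralizer_conj card_centralizer_inv)

theorem normP_facts : (∀ p : L, NormP p → p * iL = iL * p) ∧
    (∀ p : L, NormP p → p ^ 3 = 1 → ∃ a, dL a = p) ∧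
    (∀ p : L, p * zL = zL * p → p * rL = rL * p → p ^ 3 = 1 → p = 1 ∨ p = zL ∨ p = zL * zL) := by
  decide +kernel

theorem d_to_base : ∀ a : ZMod 3 × ZMod 3, a ≠ 0 → a = (1, 0) ∨ a = (-1, 0) ∨ a = (0, 1) ∨ a = (0, -1) ∨
    a = (1, 1) ∨ a = (-1, 1) ∨ a = (1, -1) ∨ a = (-1, -1) := by
  decide

variable {G : Type*} [Group G] [Finite G] {P : Sylow 3 G} {φ : L →* G} {t : G}

namespace Frame

variable (D : Frame P φ t)
include D

theorem tinv : t⁻¹ = t := inv_eq_of_mul_eq_one_left D.t2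

theorem tmul (g h : G) : t * (g * h) * t = t * g * t * (t * h * t) := by
  rw [show t * g * t * (t * h * t) = t * g * (t * t) * h * t by group, D.t2]; group

theorem tpow (g : G) (n : ℕ) : t * g ^ n * t = (t * g * t) ^ n := by
  induction n with
  | zero => rw [pow_zero, pow_zero, mul_one, D.t2]
  | succ n ih => rw [pow_succ, pow_succ, D.tmul, ih]

theorem ttwice (g : G) : t * (t * g * t) * t = g := by
  rw [show t * (t * g * t) * t = t * t * g * (t * t) by group, D.t2, one_mul, mul_one]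

theorem t_dL (a : ZMod 3 × ZMod 3) : t * φ (dL a) * t = φ (dL (a.2, a.1)) := by
  have e : ∀ a, dL a = zL ^ a.1.val * wL ^ a.2.val := fun a =>
    Prod.ext (by simp [dL, zL, wL]) (by simp [dL, zL, wL])
  simp only [e, map_mul, map_pow, D.tmul, D.tpow, D.tz, D.tw]
  rw [← map_pow, ← map_pow, ← map_mul, ← map_mul]
  congr 1
  exact Commute.pow_pow (small_facts.2.2.2.2.2.2.2.2.2.2.2.2.2.1).symm _ _

theorem mem (a : ZMod 3 × ZMod 3) : φ (dL a) ∈ (P : Subgroup G) := (D.sylow _).2 ⟨a, rfl⟩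

theorem exp {g : G} (hg : g ∈ (P : Subgroup G)) : g ^ 3 = 1 := by
  obtain ⟨a, rfl⟩ := (D.sylow g).1 hg
  rw [← map_pow, dL_facts.2.2.2.2.2, map_one]

theorem commP {g h : G} (hg : g ∈ (P : Subgroup G)) (hh : h ∈ (P : Subgroup G)) : g * h = h * g := by
  obtain ⟨a, rfl⟩ := (D.sylow g).1 hg
  obtain ⟨b, rfl⟩ := (D.sylow h).1 hh
  rw [← map_mul, ← map_mul, ← dL_add, ← dL_add, add_comm]

theorem cardP : Nat.card (P : Subgroup G) = 9 := by
  rw [← Nat.card_eq_of_bijective (fun a => (⟨φ (dL a), D.mem a⟩ : (P : Subgroup G))) ⟨fun a b e =>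
    dL_inj a b (D.inj (congrArg Subtype.val e)), fun g => by
      obtain ⟨a, ha⟩ := (D.sylow g).1 g.2
      exact ⟨a, Subtype.ext ha⟩⟩]
  simp

theorem t_notin : t ∉ φ.range := by
  rintro ⟨p, hp⟩
  have h := D.tz
  rw [← hp, ← map_mul, ← map_mul] at h
  have h1 : p.1 * EightLocal.c3 * p.1 = 1 := congrArg Prod.fst (D.inj h)
  have h2 : p.1 * p.1 = 1 := congrArg Prod.fst (D.inj (show φ (p * p) = φ 1 by rw [map_mul, hp, D.t2, map_one]))
  have h3 : EightLocal.c3 = 1 := by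
    calc EightLocal.c3 = p.1 * p.1 * EightLocal.c3 * (p.1 * p.1) := by rw [h2, one_mul, mul_one]
      _ = p.1 * (p.1 * EightLocal.c3 * p.1) * p.1 := by group
      _ = 1 := by rw [h1, mul_one, h2]
  exact absurd h3 (by decide +kernel)

theorem cent_z {g : G} (hg : g * φ zL = φ zL * g) : ∃ p : L, p * zL = zL * p ∧ φ p = g := by
  obtain ⟨p, hp⟩ := D.normz g (mem_cent_normalizer (mem_centralizer_singleton_iff.2 hg))
  exact ⟨p, D.inj (by rw [map_mul, map_mul, hp]; exact hg), hp⟩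

theorem cardz : Nat.card (centralizer ({φ zL} : Set G)) = 360 := by
  rw [← card_cent_z, ← Fintype.card_coe, ← Nat.card_eq_fintype_card]
  refine (Nat.card_eq_of_bijective (fun p => (⟨φ p.1, mem_centralizer_singleton_iff.2 ?_⟩ :
    centralizer ({φ zL} : Set G))) ⟨?_, ?_⟩).symm
  · have := p.2
    simp only [Finset.mem_filter, Finset.mem_univ, true_and] at this
    rw [← map_mul, this, map_mul]
  · exact fun p q e => Subtype.ext (D.inj (congrArg Subtype.val e))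
  · intro g
    obtain ⟨p, hp, e⟩ := D.cent_z (mem_centralizer_singleton_iff.1 g.2)
    exact ⟨⟨p, by simpa using hp⟩, Subtype.ext e⟩

theorem centP {g : G} (h1 : g * φ zL = φ zL * g) (h2 : g * φ wL = φ wL * g) :
    ∃ a, g = φ (dL a) ∨ g = φ (dL a * iL) := by
  obtain ⟨p, hp1, rfl⟩ := D.cent_z h1
  obtain ⟨a, e | e⟩ := cent_P p hp1 (D.inj (by rw [map_mul, map_mul]; exact h2))
  exacts [⟨a, Or.inl (congrArg φ e)⟩, ⟨a, Or.inr (congrArg φ e)⟩]

theorem normP_mem {p : L} (hp : NormP p) : φ p ∈ normalizer ((P : Subgroup G) : Set G) := by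
  refine mem_normalizer_iff_map_conj_eq.2 (eq_of_le_of_card_ge ?_ (by
    rw [card_map_of_injective (MulEquiv.injective _)]))
  rintro _ ⟨g, hg, rfl⟩
  obtain ⟨a, rfl⟩ := (D.sylow g).1 hg
  obtain ⟨b, hb⟩ := (normP_iff p).1 hp a
  change φ p * φ (dL a) * (φ p)⁻¹ ∈ (P : Subgroup G)
  rw [← map_inv, ← map_mul, ← map_mul, hb]
  exact D.mem b

theorem t_mem : t ∈ normalizer ((P : Subgroup G) : Set G) := by
  refine mem_normalizer_iff_map_conj_eq.2 (eq_of_le_of_card_ge ?_ (by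
    rw [card_map_of_injective (MulEquiv.injective _)]))
  rintro _ ⟨g, hg, rfl⟩
  obtain ⟨a, rfl⟩ := (D.sylow g).1 hg
  change t * φ (dL a) * t⁻¹ ∈ (P : Subgroup G)
  rw [D.tinv, D.t_dL]
  exact D.mem _

theorem norm_P {g : G} (hg : g ∈ normalizer ((P : Subgroup G) : Set G)) :
    ∃ p : L, NormP p ∧ (g = φ p ∨ g = t * φ p) := by
  classical
  let S := {p : L // NormP p}
  let f : S × Bool → normalizer ((P : Subgroup G) : Set G) := fun x =>
    ⟨(if x.2 then t else 1) * φ x.1.1, mul_mem (by split_ifs <;> [exact D.t_mem; exact one_mem _])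
      (D.normP_mem x.1.2)⟩
  have hf : Function.Injective f := by
    rintro ⟨p, b⟩ ⟨q, c⟩ e
    have e' : (if b then t else 1) * φ p.1 = (if c then t else 1) * φ q.1 := congrArg Subtype.val e
    have hr : ∀ p q : L, t * φ p ≠ φ q := fun p q h => D.t_notin
      ⟨q * p⁻¹, by rw [map_mul, map_inv, ← h, mul_inv_cancel_right]⟩
    cases b <;> cases c <;> simp only [if_true, Bool.false_eq_true, if_false, one_mul] at e'
    · exact Prod.ext (Subtype.ext (D.inj e')) rfl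
    · exact absurd e'.symm (hr _ _)
    · exact absurd e' (hr _ _)
    · exact Prod.ext (Subtype.ext (D.inj (mul_left_cancel e'))) rfl
  have hc : Nat.card (S × Bool) = Nat.card (normalizer ((P : Subgroup G) : Set G)) := by
    rw [D.cardN, Nat.card_prod, Nat.card_eq_fintype_card, Nat.card_eq_fintype_card, Fintype.card_subtype,
      card_normP, Fintype.card_bool]
  obtain ⟨⟨p, b⟩, hpb⟩ := ((Nat.bijective_iff_injective_and_card f).2 ⟨hf, hc⟩).2 ⟨g, hg⟩
  have e : (if b then t else 1) * φ p.1 = g := congrArg Subtype.val hpb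
  cases b
  · exact ⟨p.1, p.2, Or.inl (by rw [← e]; simp)⟩
  · exact ⟨p.1, p.2, Or.inr (by rw [← e]; simp)⟩

theorem N_fix_i {g : G} (hg : g ∈ normalizer ((P : Subgroup G) : Set G)) : g * φ iL = φ iL * g := by
  obtain ⟨p, hp, rfl | rfl⟩ := D.norm_P hg
  · rw [← map_mul, normP_facts.1 p hp, map_mul]
  · have ht : t * φ iL = φ iL * t := by
      conv_rhs => rw [← D.ti]
      rw [mul_assoc, D.t2, mul_one]
    rw [mul_assoc, ← map_mul, normP_facts.1 p hp, map_mul, ← mul_assoc, ht, mul_assoc]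

theorem three_in_N {g : G} (hg : g ∈ normalizer ((P : Subgroup G) : Set G)) (h3 : g ^ 3 = 1) :
    g ∈ (P : Subgroup G) := by
  obtain ⟨p, hp, rfl | rfl⟩ := D.norm_P hg
  · obtain ⟨a, ha⟩ := normP_facts.2.1 p hp (D.inj (by rw [map_pow, h3, map_one]))
    rw [← ha]; exact D.mem a
  · exfalso
    obtain ⟨q, -, e | e⟩ := D.norm_P (mul_mem (mul_mem D.t_mem (D.normP_mem hp)) D.t_mem)
    · have h2 : (t * φ p) ^ 2 ∈ φ.range := ⟨q * p, by rw [map_mul, ← e, pow_two]; group⟩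
      have h4 : t * φ p ∈ φ.range := by
        have := mul_mem h2 h2
        rwa [← pow_add, show 2 + 2 = 3 + 1 from rfl, pow_add, h3, one_mul, pow_one] at this
      exact D.t_notin ((Subgroup.mul_mem_cancel_right _ (show φ p ∈ φ.range from ⟨p, rfl⟩)).1 h4)
    · rw [mul_assoc] at e
      exact D.t_notin ⟨p⁻¹ * q, by rw [map_mul, ← mul_left_cancel e, map_inv, inv_mul_cancel_left]⟩

/-- Every nontrivial element of the Sylow subgroup is conjugate in its normalizer to `z` or `y`. -/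
theorem d_conj {a : ZMod 3 × ZMod 3} (ha : a ≠ 0) : ∃ n ∈ normalizer ((P : Subgroup G) : Set G),
    n * φ (dL a) * n⁻¹ = φ zL ∨ n * φ (dL a) * n⁻¹ = φ (zL * wL) := by
  obtain ⟨hd10, hd01, hd11, -⟩ := dL_facts
  obtain ⟨hact_s, hact_q, -⟩ := dL_act
  obtain ⟨hs2, hq2, -⟩ := small_facts
  have hs : NormP sL := by decide +kernel
  have hq : NormP qL := by decide +kernel
  have cs : ∀ p, NormP p → p * p = 1 → ∀ x, φ p * φ x * (φ p)⁻¹ = φ (p * x * p) := fun p _ hp x => by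
    rw [← map_inv, inv_eq_of_mul_eq_one_left hp, ← map_mul, ← map_mul]
  rcases d_to_base a ha with rfl | rfl | rfl | rfl | rfl | rfl | rfl | rfl
  · exact ⟨1, one_mem _, Or.inl (by rw [hd10]; group)⟩
  · exact ⟨φ sL, D.normP_mem hs, Or.inl (by rw [cs _ hs hs2, hact_s, ← hd10]; exact congrArg φ (by decide +kernel))⟩
  · exact ⟨t, D.t_mem, Or.inl (by rw [D.tinv, D.t_dL, ← hd10])⟩
  · refine ⟨φ sL * t, mul_mem (D.normP_mem hs) D.t_mem, Or.inl ?_⟩
    rw [mul_inv_rev, D.tinv,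
      show φ sL * t * φ (dL (0, -1)) * (t * (φ sL)⁻¹) = φ sL * (t * φ (dL (0, -1)) * t) * (φ sL)⁻¹ by group,
      D.t_dL, cs _ hs hs2, hact_s, ← hd10]
    exact congrArg φ (by decide +kernel)
  · exact ⟨1, one_mem _, Or.inr (by rw [hd11]; group)⟩
  · exact ⟨φ sL, D.normP_mem hs, Or.inr (by rw [cs _ hs hs2, hact_s, neg_neg, hd11])⟩
  · exact ⟨φ qL, D.normP_mem hq, Or.inr (by rw [cs _ hq hq2, hact_q, neg_neg, hd11])⟩
  · refine ⟨φ sL * φ qL, mul_mem (D.normP_mem hs) (D.normP_mem hq), Or.inr ?_⟩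
    rw [mul_inv_rev, show φ sL * φ qL * φ (dL (-1, -1)) * ((φ qL)⁻¹ * (φ sL)⁻¹) =
      φ sL * (φ qL * φ (dL (-1, -1)) * (φ qL)⁻¹) * (φ sL)⁻¹ by group, cs _ hq hq2, cs _ hs hs2, hact_q,
      hact_s, ← hd11]
    exact congrArg φ (by decide +kernel)

/-- A subgroup containing the two normalizers controls the elements of order three. -/
theorem three_fix {H : Subgroup G} (hφ : φ.range ≤ H) (ht : t ∈ H) {d g : G} (hd : d ∈ H)
    (h3 : d ^ 3 = 1) (h1 : d ≠ 1) (hg : g * d * g⁻¹ ∈ H) : g ∈ H := by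
  haveI : Fact (Nat.Prime 3) := ⟨Nat.prime_three⟩
  have hN : ∀ n ∈ normalizer ((P : Subgroup G) : Set G), n ∈ H := fun n hn => by
    obtain ⟨p, -, rfl | rfl⟩ := D.norm_P hn
    exacts [hφ ⟨p, rfl⟩, mul_mem ht (hφ ⟨p, rfl⟩)]
  have hPH : (P : Subgroup G) ≤ H := fun x hx => hN x (le_normalizer hx)
  have conjH : ∀ d ∈ H, d ^ 3 = 1 → d ≠ 1 → ∃ h ∈ H, h * d * h⁻¹ = φ zL ∨ h * d * h⁻¹ = φ (zL * wL) := by
    intro d hd h3 h1
    have hp : IsPGroup 3 (zpowers (⟨d, hd⟩ : H)) := IsPGroup.of_card (n := 1) (by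
      rw [Nat.card_zpowers, Subgroup.orderOf_mk, orderOf_eq_prime h3 h1, pow_one])
    obtain ⟨Q, hQ⟩ := hp.exists_le_sylow
    obtain ⟨h, hh⟩ := MulAction.exists_smul_eq H Q (P.subtype hPH)
    have hm : h * ⟨d, hd⟩ * h⁻¹ ∈ (P.subtype hPH : Subgroup H) := by
      rw [← hh, Sylow.coe_subgroup_smul]
      exact smul_mem_pointwise_smul (⟨d, hd⟩ : H) (MulAut.conj h) _ (hQ (mem_zpowers _))
    obtain ⟨a, ha⟩ := (D.sylow _).1 (show ((h * ⟨d, hd⟩ * h⁻¹ : H) : G) ∈ (P : Subgroup G) from hm)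
    have ha0 : a ≠ 0 := by
      rintro rfl
      rw [dL_facts.2.2.2.1, map_one] at ha
      exact h1 (congrArg Subtype.val (conj_eq_one_iff.1 (Subtype.ext ha.symm : h * (⟨d, hd⟩ : H) * h⁻¹ = 1)))
    obtain ⟨n, hn, hn'⟩ := D.d_conj ha0
    refine ⟨n * h, mul_mem (hN n hn) h.2, ?_⟩
    rw [ha] at hn'
    simpa [mul_assoc] using hn'
  have hg3 : (g * d * g⁻¹) ^ 3 = 1 := by rw [conj_pow, h3, mul_one, mul_inv_cancel]
  obtain ⟨a, haH, ha⟩ := conjH d hd h3 h1
  obtain ⟨b, hbH, hb⟩ := conjH _ hg hg3 (fun e => h1 (conj_eq_one_iff.1 e))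
  set u := b * g * a⁻¹ with hu
  have hmap : u * (a * d * a⁻¹) * u⁻¹ = b * (g * d * g⁻¹) * b⁻¹ := by rw [hu]; group
  have hcen : ∀ x : G, x = φ zL ∨ x = φ (zL * wL) → ∀ c ∈ centralizer ({x} : Set G), c ∈ H := by
    rintro x (rfl | rfl) c hc
    · obtain ⟨p, -, rfl⟩ := D.cent_z (mem_centralizer_singleton_iff.1 hc)
      exact hφ ⟨p, rfl⟩
    · exact hN c (D.normY c hc)
  have heq : b * (g * d * g⁻¹) * b⁻¹ = a * d * a⁻¹ := by
    have hcard := card_centralizer_conj (a * d * a⁻¹) u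
    rw [hmap] at hcard
    rcases ha with ha | ha <;> rcases hb with hb | hb <;> rw [ha, hb] at hcard ⊢
    · rw [D.cardz, D.cardY] at hcard; omega
    · rw [D.cardz, D.cardY] at hcard; omega
  have huH : u ∈ H := by
    refine hcen _ ha u (mem_centralizer_singleton_iff.2 ?_)
    rw [heq] at hmap
    exact mul_inv_eq_iff_eq_mul.1 hmap
  have := mul_mem (mul_mem (inv_mem hbH) huH) haH
  rwa [hu, show b⁻¹ * (b * g * a⁻¹) * a = g by group] at this

theorem i_fix_P : ∀ x ∈ (P : Subgroup G), x ∈ centralizer ({φ iL} : Set G) := fun x hx =>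
  mem_centralizer_singleton_iff.2 (D.N_fix_i (le_normalizer hx))

/-- An element of order three centralizing `i` is conjugate in its centralizer into `P`. -/
theorem to_P {k : G} (hk : k * φ iL = φ iL * k) (h3 : k ^ 3 = 1) (h1 : k ≠ 1) :
    ∃ c : G, c * φ iL = φ iL * c ∧ c * k * c⁻¹ ∈ (P : Subgroup G) := by
  haveI : Fact (Nat.Prime 3) := ⟨Nat.prime_three⟩
  set C := centralizer ({φ iL} : Set G) with hC
  have hp : IsPGroup 3 (zpowers (⟨k, mem_centralizer_singleton_iff.2 hk⟩ : C)) := IsPGroup.of_card (n := 1) (by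
    rw [Nat.card_zpowers, Subgroup.orderOf_mk, orderOf_eq_prime h3 h1, pow_one])
  obtain ⟨Q, hQ⟩ := hp.exists_le_sylow
  obtain ⟨h, hh⟩ := MulAction.exists_smul_eq C Q (P.subtype D.i_fix_P)
  refine ⟨h, mem_centralizer_singleton_iff.1 h.2, ?_⟩
  have hm : h * ⟨k, mem_centralizer_singleton_iff.2 hk⟩ * h⁻¹ ∈ (P.subtype D.i_fix_P : Subgroup C) := by
    rw [← hh, Sylow.coe_subgroup_smul]
    exact smul_mem_pointwise_smul (⟨k, mem_centralizer_singleton_iff.2 hk⟩ : C) (MulAut.conj h) _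
      (hQ (mem_zpowers _))
  exact hm

theorem y_ne : φ (zL * wL) ≠ 1 := fun h => by
  have := D.inj (h.trans (map_one φ).symm)
  exact absurd this (by decide +kernel)

/-- The only conjugate of `i` centralizing `y` is `i`. -/
theorem conj_i_fix {g : G}
    (h : g * φ iL * g⁻¹ * φ (zL * wL) = φ (zL * wL) * (g * φ iL * g⁻¹)) : g * φ iL * g⁻¹ = φ iL := by
  have hy3 : φ (zL * wL) ^ 3 = 1 := by
    rw [← map_pow, show (zL * wL) ^ 3 = 1 by decide +kernel, map_one]
  obtain ⟨c, hc, hcP⟩ := D.to_P (k := g⁻¹ * φ (zL * wL) * g) (by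
    calc g⁻¹ * φ (zL * wL) * g * φ iL = g⁻¹ * (φ (zL * wL) * (g * φ iL * g⁻¹)) * g := by group
      _ = g⁻¹ * (g * φ iL * g⁻¹ * φ (zL * wL)) * g := by rw [h]
      _ = φ iL * (g⁻¹ * φ (zL * wL) * g) := by group)
    (by rw [show g⁻¹ * φ (zL * wL) * g = g⁻¹ * φ (zL * wL) * g⁻¹⁻¹ by group, conj_pow, hy3, mul_one,
      mul_inv_cancel])
    (fun e => D.y_ne (by rw [show φ (zL * wL) = g * (g⁻¹ * φ (zL * wL) * g) * g⁻¹ by group, e]; group))
  set u := g * c⁻¹ with hu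
  have hx : g * φ iL * g⁻¹ = u * φ iL * u⁻¹ := by
    rw [hu, show g * c⁻¹ * φ iL * (g * c⁻¹)⁻¹ = g * (c⁻¹ * (φ iL * c)) * g⁻¹ by group, ← hc,
      inv_mul_cancel_left]
  have hk : u⁻¹ * φ (zL * wL) * u = c * (g⁻¹ * φ (zL * wL) * g) * c⁻¹ := by rw [hu]; group
  rw [← hk] at hcP
  have huN : u ∈ normalizer ((P : Subgroup G) : Set G) := by
    refine mem_normalizer_iff_map_conj_eq.2 (eq_of_le_of_card_ge ?_ (by
      rw [card_map_of_injective (MulEquiv.injective _)]))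
    rintro _ ⟨x, hxP, rfl⟩
    change u * x * u⁻¹ ∈ (P : Subgroup G)
    refine D.three_in_N (D.normY _ (mem_centralizer_singleton_iff.2 ?_))
      (by rw [conj_pow, D.exp hxP, mul_one, mul_inv_cancel])
    calc u * x * u⁻¹ * φ (zL * wL) = u * (x * (u⁻¹ * φ (zL * wL) * u)) * u⁻¹ := by group
      _ = u * ((u⁻¹ * φ (zL * wL) * u) * x) * u⁻¹ := by rw [D.commP hxP hcP]
      _ = φ (zL * wL) * (u * x * u⁻¹) := by group
  rw [hx, D.N_fix_i huN, mul_inv_cancel_right]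

/-- The double transposition is not conjugate to `i`. -/
theorem r_not_conj_i (g : G) : g * φ rL * g⁻¹ ≠ φ iL := by
  intro h
  have hrz : φ zL * φ rL = φ rL * φ zL := by
    rw [← map_mul, ← map_mul, small_facts.2.2.2.2.2.2.2.2.2.2.2.2.1]
  have hz1 : φ zL ≠ 1 := fun e => small_facts.2.2.2.2.2.2.2.2.2.2.2.2.2.2.1 (D.inj (e.trans (map_one φ).symm))
  obtain ⟨c, hc, hcP⟩ := D.to_P (k := g * φ zL * g⁻¹) (by
    rw [← h]
    calc g * φ zL * g⁻¹ * (g * φ rL * g⁻¹) = g * (φ zL * φ rL) * g⁻¹ := by group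
      _ = g * (φ rL * φ zL) * g⁻¹ := by rw [hrz]
      _ = g * φ rL * g⁻¹ * (g * φ zL * g⁻¹) := by group)
    (by rw [conj_pow, ← map_pow, small_facts.2.2.2.2.1, map_one, mul_one, mul_inv_cancel])
    (fun e => hz1 (conj_eq_one_iff.1 e))
  set u := c * g with hu
  have hur : u * φ rL * u⁻¹ = φ iL := by
    rw [hu, show c * g * φ rL * (c * g)⁻¹ = c * (g * φ rL * g⁻¹) * c⁻¹ by group, h, hc, mul_inv_cancel_right]
  have huz : u * φ zL * u⁻¹ ∈ (P : Subgroup G) := by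
    rw [hu, show c * g * φ zL * (c * g)⁻¹ = c * (g * φ zL * g⁻¹) * c⁻¹ by group]; exact hcP
  have hsmall : ∀ x : (P : Subgroup G), ∃ k : Fin 3, u⁻¹ * (x : G) * u = φ (zL ^ (k : ℕ)) := by
    intro x
    obtain ⟨p, hp1, hp⟩ := D.cent_z (g := u⁻¹ * (x : G) * u) (by
      calc u⁻¹ * (x : G) * u * φ zL = u⁻¹ * ((x : G) * (u * φ zL * u⁻¹)) * u := by group
        _ = u⁻¹ * ((u * φ zL * u⁻¹) * x) * u := by rw [D.commP x.2 huz]
        _ = φ zL * (u⁻¹ * (x : G) * u) := by group)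
    have hp2 : p * rL = rL * p := D.inj (by
      have hxi : (x : G) * φ iL = φ iL * x := D.N_fix_i (le_normalizer x.2)
      rw [map_mul, map_mul, hp]
      rw [← hur] at hxi
      calc u⁻¹ * (x : G) * u * φ rL = u⁻¹ * ((x : G) * (u * φ rL * u⁻¹)) * u := by group
        _ = u⁻¹ * ((u * φ rL * u⁻¹) * x) * u := by rw [hxi]
        _ = φ rL * (u⁻¹ * (x : G) * u) := by group)
    have hp3 : p ^ 3 = 1 := D.inj (by
      rw [map_pow, hp, show u⁻¹ * (x : G) * u = u⁻¹ * x * u⁻¹⁻¹ by group, conj_pow, D.exp x.2, mul_one,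
        mul_inv_cancel, map_one])
    rcases normP_facts.2.2 p hp1 hp2 hp3 with e | e | e <;> rw [e] at hp
    exacts [⟨0, by simpa using hp.symm⟩, ⟨1, by simpa using hp.symm⟩, ⟨2, by simpa [pow_two] using hp.symm⟩]
  choose f hf using hsmall
  have hle := Nat.card_le_card_of_injective f fun x y e => Subtype.ext (by
    have := (hf x).trans ((congrArg (fun k : Fin 3 => φ (zL ^ (k : ℕ))) e).trans (hf y).symm)
    simpa using this)
  rw [D.cardP, Nat.card_eq_fintype_card, Fintype.card_fin] at hle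
  omega

theorem q_conj_i : ∃ g : G, g * φ qL * g⁻¹ = φ iL := by
  refine ⟨φ ((1, Equiv.swap 0 2 * Equiv.swap 1 3) : L), ?_⟩
  rw [← map_inv, ← map_mul, ← map_mul]
  exact congrArg φ (by decide +kernel)

theorem i_ne : φ iL ≠ 1 := fun e => small_facts.2.2.2.2.2.2.2.2.2.2.2.2.2.2.2.2.1 (D.inj (e.trans (map_one φ).symm))

/-- Exchanging `t` with `t i` keeps the coordinates. -/
theorem twist : Frame P φ (t * φ iL) := by
  obtain ⟨-, hact_q, hact_i, -⟩ := dL_act
  obtain ⟨-, -, hi2, -, -, -, hqi, hiq, hsi, -, -, -, -, -, -, -, -, -, hiz, hiw⟩ := small_facts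
  have ht : t * φ iL = φ iL * t := by
    conv_rhs => rw [← D.ti]
    rw [mul_assoc, D.t2, mul_one]
  have key : ∀ p : L, p * iL = iL * p → t * φ iL * φ p * (t * φ iL) = t * φ p * t := fun p hp => by
    calc t * φ iL * φ p * (t * φ iL) = t * φ iL * φ p * (φ iL * t) := by rw [ht]
      _ = t * φ (iL * p * iL) * t := by rw [map_mul, map_mul]; group
      _ = t * φ p * t := by rw [← hp, mul_assoc p, hi2, mul_one]
  refine ⟨D.inj, D.sylow, D.normz, D.cardY, D.normY, D.cardN, ?_, ?_, ?_, ?_, ?_⟩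
  · calc t * φ iL * (t * φ iL) = t * φ iL * (φ iL * t) := by rw [ht]
      _ = t * φ (iL * iL) * t := by rw [map_mul]; group
      _ = 1 := by rw [hi2, map_one, mul_one, D.t2]
  · rw [key _ hiz.symm, D.tz]
  · rw [key _ hiw.symm, D.tw]
  · rw [key _ rfl, D.ti]
  · rw [key _ hsi]; exact D.ts

end Frame

end Cfsg.Agent.EightFour
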