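import Cfsg.Agent.Lib.EightLocal.Model

/-!
# The model of the normalizer of an element of order three in the symmetric group of degree eight

The group `Sym 3 × Sym 5`; the first factor is on the points `0, 1, 2`, the second on five points,
`0, 1` for the pair fixed by the Sylow subgroup and `2, 3, 4` for the second block of three.
-/

set_option autoImplicit false
set_option maxRecDepth 100000
set_option synthInstance.maxSize 10000

namespace Cfsg.Agent.EightFour

open EightLocal (c3 sigma A5)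

/-- The pairs of permutations. -/
abbrev L : Type := Equiv.Perm (Fin 3) × Equiv.Perm (Fin 5)

/-- The generator of the first factor. -/
def zL : L := (c3, 1)

/-- The second generator of the Sylow subgroup. -/
def wL : L := (1, (sigma : Equiv.Perm (Fin 5)))

/-- The involution centralizing the Sylow subgroup. -/
def iL : L := (1, Equiv.swap 0 1)

/-- The involution inverting the first factor. -/
def sL : L := (Equiv.swap 0 1, 1)

/-- A transposition inverting the second generator. -/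
def qL : L := (1, Equiv.swap 2 3)

/-- A double transposition inverting the second generator. -/
def rL : L := (1, Equiv.swap 0 1 * Equiv.swap 2 3)

/-- The elements of the Sylow subgroup. -/
def dL (a : ZMod 3 × ZMod 3) : L := (c3 ^ a.1.val, (sigma : Equiv.Perm (Fin 5)) ^ a.2.val)

theorem dL_add : ∀ a b, dL (a + b) = dL a * dL b := by decide +kernel

theorem dL_inj : ∀ a b, dL a = dL b → a = b := by decide +kernel

theorem dL_facts : dL (1, 0) = zL ∧ dL (0, 1) = wL ∧ dL (1, 1) = zL * wL ∧ dL 0 = 1 ∧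
    (∀ a, dL (-a) = (dL a)⁻¹) ∧ ∀ a, dL a ^ 3 = 1 := by decide +kernel

theorem dL_act : (∀ a, sL * dL a * sL = dL (-a.1, a.2)) ∧ (∀ a, qL * dL a * qL = dL (a.1, -a.2)) ∧
    (∀ a, iL * dL a * iL = dL a) ∧ (∀ a, rL * dL a * rL = dL (a.1, -a.2)) := by decide +kernel

theorem small_facts : sL * sL = 1 ∧ qL * qL = 1 ∧ iL * iL = 1 ∧ rL * rL = 1 ∧ zL ^ 3 = 1 ∧ wL ^ 3 = 1 ∧
    qL * iL = rL ∧ iL * qL = rL ∧ sL * iL = iL * sL ∧ sL * qL = qL * sL ∧ sL * wL = wL * sL ∧
    qL * zL = zL * qL ∧ rL * zL = zL * rL ∧ zL * wL = wL * zL ∧ zL ≠ 1 ∧ wL ≠ 1 ∧ iL ≠ 1 ∧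
    sL * zL * sL = zL⁻¹ ∧ iL * zL = zL * iL ∧ iL * wL = wL * iL := by decide +kernel

/-- Membership in the normalizer of the Sylow subgroup. -/
def NormP (p : L) : Prop :=
  p.2 * (sigma : Equiv.Perm (Fin 5)) * p.2⁻¹ = (sigma : Equiv.Perm (Fin 5)) ∨
    p.2 * (sigma : Equiv.Perm (Fin 5)) * p.2⁻¹ = ((sigma : Equiv.Perm (Fin 5)))⁻¹

instance (p : L) : Decidable (NormP p) := inferInstanceAs (Decidable (_ ∨ _))

theorem normP_iff : ∀ p : L, NormP p ↔ ∀ a, ∃ b, p * dL a * p⁻¹ = dL b := by decide +kernel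

theorem card_normP : (Finset.univ.filter fun p : L => NormP p).card = 72 := by decide +kernel

theorem card_normP_cent :
    (Finset.univ.filter fun p : L => NormP p ∧ p * zL = zL * p).card = 36 := by decide +kernel

theorem card_cent_z : (Finset.univ.filter fun p : L => p * zL = zL * p).card = 360 := by decide +kernel

theorem card_cent_y :
    (Finset.univ.filter fun p : L => p * (zL * wL) = zL * wL * p).card = 18 := by decide +kernel

theorem cent_P : ∀ p : L, p * zL = zL * p → p * wL = wL * p → ∃ a, p = dL a ∨ p = dL a * iL := by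
  decide +kernel

theorem two_of_cent_P : ∀ a, dL a * iL * (dL a * iL) = 1 → a = 0 := by decide +kernel

theorem dL_two : ∀ a, dL a * dL a = 1 → dL a = 1 := by decide +kernel

/-- An involution fixing the first generator and inverting the second, commuting with `iL`. -/
theorem inverter : ∀ p : L, p * zL = zL * p → p * wL * p = wL⁻¹ → p * p = 1 → p * iL = iL * p →
    ∃ k : Fin 3, (wL ^ (k : ℕ))⁻¹ * p * wL ^ (k : ℕ) = qL ∨ (wL ^ (k : ℕ))⁻¹ * p * wL ^ (k : ℕ) = rL := by
  decide +kernel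

theorem wpow_facts : ∀ k : Fin 3, wL ^ (k : ℕ) * zL * (wL ^ (k : ℕ))⁻¹ = zL ∧
    wL ^ (k : ℕ) * wL * (wL ^ (k : ℕ))⁻¹ = wL ∧ wL ^ (k : ℕ) * iL * (wL ^ (k : ℕ))⁻¹ = iL ∧
    wL ^ (k : ℕ) * sL * (wL ^ (k : ℕ))⁻¹ = sL ∧ ∀ a, wL ^ (k : ℕ) * dL a * (wL ^ (k : ℕ))⁻¹ = dL a := by
  decide +kernel

/-- The normal subgroup of order three. -/
theorem normal_three : ∀ p : L, p ^ 3 = 1 → p ≠ 1 →
    (∀ g ∈ [(((1 : Equiv.Perm (Fin 3)), (sigma : Equiv.Perm (Fin 5))) : L), sL,
      ((1 : Equiv.Perm (Fin 3)), Equiv.swap 0 1 * Equiv.swap 1 2)],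
      g * p * g⁻¹ = p ∨ g * p * g⁻¹ = p⁻¹) → p = zL ∨ p = zL⁻¹ := by
  decide +kernel

theorem sL_z : sL * zL⁻¹ * sL⁻¹ = zL := by decide +kernel

/-- The elements of order three of the second factor are conjugate. -/
theorem three_conj : ∀ s : Equiv.Perm (Fin 5), s ^ 3 = 1 → s ≠ 1 →
    ∃ v : Equiv.Perm (Fin 5), v * s * v⁻¹ = (sigma : Equiv.Perm (Fin 5)) := by
  decide +kernel

/-- Commuting elements of order three. -/
theorem three_sigma : ∀ p : L, p ^ 3 = 1 → p * zL = zL * p → p * wL = wL * p → ∃ a, dL a = p := by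
  decide +kernel

theorem axis_ne : ∀ a : ZMod 3 × ZMod 3, a.1 ≠ 0 → a.2 ≠ 0 →
    (a = (1, 1) ∨ a = (-1, 1) ∨ a = (1, -1) ∨ a = (-1, -1)) := by decide

theorem six_images : ∀ a : ZMod 3 × ZMod 3, a.1 ≠ 0 → a.2 ≠ 0 →
    Function.Injective (![((1, 0) : ZMod 3 × ZMod 3), (-1, 0), a, (a.1, -a.2), (-a.1, a.2), (-a.1, -a.2)]) := by
  decide

end Cfsg.Agent.EightFour
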