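import Cfsg.Agent.Lib.EightFour.CentI
import Cfsg.Agent.Lib.EightFour.SixConj

/-!
# The second configuration: the centralizer of `i` is the normalizer of the Sylow subgroup
-/

set_option autoImplicit false
set_option linter.style.haveILetI false
set_option linter.unusedSectionVars false
set_option maxRecDepth 100000
set_option synthInstance.maxSize 10000

namespace Cfsg.Agent.EightFour

open Subgroup
open EightLocal (card_centralizer_conj card_centralizer_inv)

/-- An even involution of the second factor moving the pair to the block. -/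
def aL : L := (1, Equiv.swap 2 0 * Equiv.swap 3 1)

theorem alt_facts : aL * aL = 1 ∧ aL * iL * aL = qL ∧ aL * rL * aL = rL ∧ aL * sL * aL = sL ∧
    rL * wL * rL = wL⁻¹ ∧ rL * iL = qL ∧ iL * rL = qL ∧ sL * rL = rL * sL ∧ rL ≠ 1 ∧ rL ≠ iL ∧
    sL ≠ 1 ∧ sL ≠ iL ∧ (zL ≠ 1 ∧ zL ≠ iL) ∧ (wL ≠ 1 ∧ wL ≠ iL) ∧ (wL * zL⁻¹ ≠ 1 ∧ wL * zL⁻¹ ≠ iL) ∧
    (wL * zL ≠ 1 ∧ wL * zL ≠ iL) := by
  decide +kernel

theorem frame_M : ∀ p ∈ [(1 : L), sL, rL, sL * rL, iL, sL * iL, rL * iL, sL * rL * iL],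
    aL * p * aL ∈ [(1 : L), sL, rL, sL * rL, iL, sL * iL, rL * iL, sL * rL * iL] := by
  decide +kernel

variable {G : Type*} [Group G] [Finite G] {P : Sylow 3 G} {φ : L →* G} {t : G}

namespace Frame

variable (D : Frame P φ t)
include D

/-- The elements of order three centralizing the double transposition are of the first class. -/
theorem r_three {k : G} (hk : k * φ rL = φ rL * k) (h3 : k ^ 3 = 1) (h1 : k ≠ 1) :
    Nat.card (centralizer ({k} : Set G)) = 360 := by
  haveI : Fact (Nat.Prime 3) := ⟨Nat.prime_three⟩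
  obtain ⟨-, -, -, -, hz3, -, -, -, -, -, -, -, hrz, -, hz1, -⟩ := small_facts
  set C := centralizer ({φ rL} : Set G) with hC
  have mk3 : ∀ x : C, (x : G) ^ 3 = 1 → (x : G) ≠ 1 → IsPGroup 3 (zpowers x) := fun x e3 e1 =>
    IsPGroup.of_card (n := 1) (by
      rw [Nat.card_zpowers, orderOf_eq_prime (show x ^ 3 = 1 from Subtype.ext e3)
        (fun e => e1 (congrArg Subtype.val e)), pow_one])
  let zC : C := ⟨φ zL, mem_centralizer_singleton_iff.2 (by rw [← map_mul, ← hrz, map_mul])⟩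
  let kC : C := ⟨k, mem_centralizer_singleton_iff.2 hk⟩
  obtain ⟨Q, hQ⟩ := (mk3 zC (by show φ zL ^ 3 = 1; rw [← map_pow, hz3, map_one])
    (fun e => hz1 (D.inj (e.trans (map_one φ).symm)))).exists_le_sylow
  obtain ⟨R, hR⟩ := (mk3 kC h3 h1).exists_le_sylow
  obtain ⟨c, hc⟩ := MulAction.exists_smul_eq C R Q
  have hm : c * kC * c⁻¹ ∈ (Q : Subgroup C) := by
    rw [← hc, Sylow.coe_subgroup_smul]
    exact smul_mem_pointwise_smul kC (MulAut.conj c) _ (hR (mem_zpowers _))
  obtain ⟨S, hS⟩ := (Q.isPGroup'.map C.subtype).exists_le_sylow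
  obtain ⟨g, hg⟩ := MulAction.exists_smul_eq G S P
  have hSP : ∀ x ∈ (S : Subgroup G), g * x * g⁻¹ ∈ (P : Subgroup G) := fun x hx => by
    rw [← hg, Sylow.coe_subgroup_smul]
    exact smul_mem_pointwise_smul x (MulAut.conj g) _ hx
  set x : G := ((c * kC * c⁻¹ : C) : G) with hx
  have hxS : x ∈ (S : Subgroup G) := hS ⟨_, hm, rfl⟩
  have hzS : φ zL ∈ (S : Subgroup G) := hS ⟨zC, hQ (mem_zpowers _), rfl⟩
  obtain ⟨p, hp, hpx⟩ := D.cent_z (g := x) (by
    have h := D.commP (hSP x hxS) (hSP _ hzS)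
    calc x * φ zL = g⁻¹ * (g * x * g⁻¹ * (g * φ zL * g⁻¹)) * g := by group
      _ = g⁻¹ * (g * φ zL * g⁻¹ * (g * x * g⁻¹)) * g := by rw [h]
      _ = φ zL * x := by group)
  have hxk : x = (c : G) * k * (c : G)⁻¹ := rfl
  have hp2 : p * rL = rL * p := D.inj (by
    rw [map_mul, map_mul, hpx]; exact mem_centralizer_singleton_iff.1 (c * kC * c⁻¹ : C).2)
  have hp3 : p ^ 3 = 1 := D.inj (by
    rw [map_pow, hpx, hxk, conj_pow, h3, mul_one, mul_inv_cancel, map_one])
  rw [← card_centralizer_conj k (c : G), ← hxk, ← hpx]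
  rcases normP_facts.2.2 p hp hp2 hp3 with e | e | e <;> rw [e] at hpx ⊢
  · rw [map_one] at hpx
    exact absurd (conj_eq_one_iff.1 (hxk.symm.trans hpx.symm)) h1
  · exact D.cardz
  · rw [show zL * zL = zL⁻¹ by decide +kernel, map_inv, card_centralizer_inv, D.cardz]

theorem r_not_y {g k : G} (h : k * φ (zL * wL) * k⁻¹ * (g * φ rL * g⁻¹) =
    g * φ rL * g⁻¹ * (k * φ (zL * wL) * k⁻¹)) : False := by
  have h3 : φ (zL * wL) ^ 3 = 1 := by rw [← map_pow, show (zL * wL) ^ 3 = 1 by decide +kernel, map_one]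
  set u := g⁻¹ * k with hu
  have e : u * φ (zL * wL) * u⁻¹ = g⁻¹ * (k * φ (zL * wL) * k⁻¹) * g := by rw [hu]; group
  have hc := D.r_three (k := u * φ (zL * wL) * u⁻¹)
    (by
      rw [e]
      calc g⁻¹ * (k * φ (zL * wL) * k⁻¹) * g * φ rL
          = g⁻¹ * (k * φ (zL * wL) * k⁻¹ * (g * φ rL * g⁻¹)) * g := by group
        _ = g⁻¹ * (g * φ rL * g⁻¹ * (k * φ (zL * wL) * k⁻¹)) * g := by rw [h]
        _ = φ rL * (g⁻¹ * (k * φ (zL * wL) * k⁻¹) * g) := by group)
    (by rw [conj_pow, h3, mul_one, mul_inv_cancel]) (fun e => D.y_ne (conj_eq_one_iff.1 e))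
  rw [card_centralizer_conj, D.cardY] at hc
  omega

theorem cent_i_alt
    [hcn : ((centralizer ((P : Subgroup G) : Set G)).subgroupOf
      (normalizer ((P : Subgroup G) : Set G))).Normal]
    (eNC : normalizer ((P : Subgroup G) : Set G) ⧸ (centralizer ((P : Subgroup G) : Set G)).subgroupOf
      (normalizer ((P : Subgroup G) : Set G)) ≃* DihedralGroup 4)
    (hE : t * φ sL * t = φ rL) : ∀ g, g * φ iL = φ iL * g → g ∈ normalizer ((P : Subgroup G) : Set G) := by
  rcases D.cent_i eNC with hN | hsix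
  · exact hN
  exfalso
  obtain ⟨haa, hai, har, has, hrw, hri, hir, hsr, r1, ri, s1, si, hz, hw, hwz, hwz'⟩ := alt_facts
  obtain ⟨hss, -, hii, hrr, hz3, hw3, -, -, hsi, -, hsw, -, hrz, hzw, -, -, -, hszs, hiz, hiw⟩ := small_facts
  -- classes
  obtain ⟨gq, hgq⟩ := D.q_conj_i
  have hqi : IsConj (φ iL) (φ rL * φ iL) := by
    rw [← map_mul, hri]; exact (isConj_iff.2 ⟨gq, hgq⟩).symm
  have hu4 : IsConj (φ iL) (φ sL * φ iL) := by
    refine hqi.trans (isConj_iff.2 ⟨t, ?_⟩)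
    rw [D.tinv, D.tmul, ← hE, D.ttwice, D.ti]
  have hur : IsConj (φ iL) (φ sL * φ rL * φ iL) := by
    refine hu4.trans (isConj_iff.2 ⟨φ aL, ?_⟩)
    rw [← map_inv, inv_eq_of_mul_eq_one_left haa, ← map_mul, ← map_mul, ← map_mul, ← map_mul, ← map_mul]
    exact congrArg φ (by decide +kernel)
  have hru : IsConj (φ rL) (φ sL) := isConj_iff.2 ⟨t, by rw [D.tinv, ← hE, D.ttwice]⟩
  have hne : ∀ x : G, IsConj (φ rL) x → IsConj (φ iL) x → False := fun x h1 h2 => by
    obtain ⟨c, hc⟩ := isConj_iff.1 (h1.trans h2.symm)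
    exact D.r_not_conj_i c hc
  -- the images
  set C := centralizer ({φ iL} : Set G) with hC
  obtain ⟨ψ, hψ, hk⟩ := hsix
  have hiC : φ iL ∈ C := mem_centralizer_singleton_iff.2 rfl
  let mk : (p : L) → p * iL = iL * p → C := fun p hp =>
    ⟨φ p, mem_centralizer_singleton_iff.2 (by rw [← map_mul, hp, map_mul])⟩
  have hker2 : ∀ x y : C, ψ x = ψ y → (x : G) = y ∨ (x : G) = y * φ iL := fun x y e => by
    rcases (hk (y⁻¹ * x)).1 (by rw [map_mul, map_inv, e, inv_mul_cancel]) with h | h <;>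
      simp only [Subgroup.coe_mul, Subgroup.coe_inv] at h
    · exact Or.inl (inv_mul_eq_one.1 h).symm
    · exact Or.inr (by rw [← h]; group)
  have lift_eq : ∀ x y : C, ψ x = ψ y → IsConj (φ rL) (x : G) → IsConj (φ iL) ((y : G) * φ iL) →
      (x : G) = y := fun x y e h1 h2 => (hker2 x y e).resolve_right fun h => hne _ (h ▸ h1) h2
  have hsi' : sL * iL = iL * sL := hsi
  have hri' : rL * iL = iL * rL := hri.trans hir.symm
  set zC := mk zL hiz.symm with hzC
  set wC := mk wL hiw.symm with hwC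
  set uC := mk sL hsi' with huC
  set rC := mk rL hri' with hrC
  have nek : ∀ (p : L) (hp : p * iL = iL * p), p ≠ 1 ∧ p ≠ iL → ψ (mk p hp) ≠ 1 := fun p hp h e =>
    ((hk _).1 e).elim (fun e' => h.1 (D.inj (e'.trans (map_one φ).symm))) (fun e' => h.2 (D.inj e'))
  have hmk : ∀ (p q : L) (hp : p * iL = iL * p) (hq : q * iL = iL * q), mk p hp * mk q hq =
      mk (p * q) (by rw [mul_assoc, hq, ← mul_assoc, hp, mul_assoc]) := fun p q hp hq =>
    Subtype.ext (map_mul φ p q).symm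
  have ceq : ∀ (x y : C), (x : G) = y → ψ x = ψ y := fun x y e => congrArg ψ (Subtype.ext e)
  obtain ⟨g6, e6, hgU, he6, heR, heR', heU, heUR, ⟨h6, hhU, hhe⟩, ⟨k6, hk6⟩, hall⟩ :=
    frame_six (Z := ψ zC) (W := ψ wC) (U := ψ uC) (R := ψ rC)
      (by rw [← map_pow, show zC ^ 3 = 1 from Subtype.ext (by show φ zL ^ 3 = 1; rw [← map_pow, hz3, map_one]), map_one])
      (nek zL hiz.symm hz)
      (by rw [← map_mul, ← map_mul]; exact ceq _ _ (show φ wL * φ zL = φ zL * φ wL by rw [← map_mul, ← hzw, map_mul]))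
      (by rw [← map_pow, show wC ^ 3 = 1 from Subtype.ext (by show φ wL ^ 3 = 1; rw [← map_pow, hw3, map_one]), map_one])
      (nek wL hiw.symm hw)
      (fun e => nek (wL * zL⁻¹) (by
          rw [mul_assoc, show zL⁻¹ * iL = iL * zL⁻¹ from ((show Commute iL zL from hiz).inv_right).eq.symm,
            ← mul_assoc, ← hiw, mul_assoc]) hwz (by
        rw [← mul_inv_eq_one, ← map_inv, ← map_mul] at e
        exact (ceq _ _ (show φ (wL * zL⁻¹) = φ wL * (φ zL)⁻¹ by rw [map_mul, map_inv])).trans e))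
      (fun e => nek (wL * zL) (by rw [mul_assoc, ← hiz, ← mul_assoc, ← hiw, mul_assoc]) hwz' (by
        rw [eq_inv_iff_mul_eq_one, ← map_mul] at e
        exact (ceq _ _ (show φ (wL * zL) = φ wL * φ zL by rw [map_mul])).trans e))
      (by rw [← map_mul, ← map_mul]; exact ceq _ _ (show φ sL * φ wL = φ wL * φ sL by rw [← map_mul, hsw, map_mul]))
      (by rw [← map_inv, ← map_mul, ← map_mul, ← map_inv]
          exact ceq _ _ (show φ sL * φ zL * (φ sL)⁻¹ = (φ zL)⁻¹ by
            rw [← map_inv, ← map_inv, ← map_mul, ← map_mul, inv_eq_of_mul_eq_one_left hss, hszs]))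
      ⟨by rw [← map_mul, show uC * uC = 1 from Subtype.ext (by show φ sL * φ sL = 1; rw [← map_mul, hss, map_one]), map_one],
        nek sL hsi' ⟨s1, si⟩⟩
      (by rw [← map_mul, ← map_mul]; exact ceq _ _ (show φ rL * φ zL = φ zL * φ rL by rw [← map_mul, hrz, map_mul]))
      (by rw [← map_inv, ← map_mul, ← map_mul, ← map_inv]
          exact ceq _ _ (show φ rL * φ wL * (φ rL)⁻¹ = (φ wL)⁻¹ by
            rw [← map_inv, ← map_inv, ← map_mul, ← map_mul, inv_eq_of_mul_eq_one_left hrr, hrw]))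
      ⟨by rw [← map_mul, show rC * rC = 1 from Subtype.ext (by show φ rL * φ rL = 1; rw [← map_mul, hrr, map_one]), map_one],
        nek rL hri' ⟨r1, ri⟩⟩
  obtain ⟨g, rfl⟩ := hψ g6
  obtain ⟨h, rfl⟩ := hψ h6
  obtain ⟨k, rfl⟩ := hψ k6
  have hU : ∀ v : C, IsConj (φ rL) ((v : G) * φ sL * (v : G)⁻¹) := fun v => hru.trans (isConj_iff.2 ⟨v, rfl⟩)
  have hgu : (g : G) * φ sL * (g : G)⁻¹ = φ sL :=
    lift_eq (g * uC * g⁻¹) uC (by rw [map_mul, map_mul, map_inv, hgU, mul_inv_cancel_right]) (hU g) hu4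
  set e := g * rC * g⁻¹ with he
  set e0 : G := (e : G) with he0
  have he0' : e0 = (g : G) * φ rL * (g : G)⁻¹ := rfl
  have heconj : IsConj (φ rL) e0 := isConj_iff.2 ⟨g, rfl⟩
  have hψe : ψ e = e6 := by rw [he6, he, map_mul, map_mul, map_inv]
  have gi : (g : G) * φ iL = φ iL * g := mem_centralizer_singleton_iff.1 g.2
  have ei : e0 * φ iL = φ iL * e0 := mem_centralizer_singleton_iff.1 e.2
  have her : e0 * φ rL = φ rL * e0 := by
    have := lift_eq (e * rC * e⁻¹) rC
      (by rw [map_mul, map_mul, map_inv, hψe, heR, mul_inv_cancel_right]) (isConj_iff.2 ⟨e0, rfl⟩) hqi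
    exact mul_inv_eq_iff_eq_mul.1 this
  have heu : e0 * φ sL = φ sL * e0 := by
    have hcr : φ sL * φ rL = φ rL * φ sL := by rw [← map_mul, hsr, map_mul]
    rw [he0']
    calc (g : G) * φ rL * (g : G)⁻¹ * φ sL = (g : G) * φ rL * (g : G)⁻¹ * ((g : G) * φ sL * (g : G)⁻¹) := by rw [hgu]
      _ = (g : G) * (φ rL * φ sL) * (g : G)⁻¹ := by group
      _ = (g : G) * (φ sL * φ rL) * (g : G)⁻¹ := by rw [hcr]
      _ = (g : G) * φ sL * (g : G)⁻¹ * ((g : G) * φ rL * (g : G)⁻¹) := by group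
      _ = _ := by rw [hgu]
  have hee : e0 * e0 = 1 := by
    rw [he0', show (g : G) * φ rL * (g : G)⁻¹ * ((g : G) * φ rL * (g : G)⁻¹) =
      (g : G) * (φ rL * φ rL) * (g : G)⁻¹ by group, ← map_mul, hrr, map_one, mul_one, mul_inv_cancel]
  have conjmul : ∀ (v : G) (x y : G), v * (x * y) * v⁻¹ = v * x * v⁻¹ * (v * y * v⁻¹) := fun v x y => by group
  have gfix : (g : G) * φ iL * (g : G)⁻¹ = φ iL := by rw [gi, mul_inv_cancel_right]
  have Iei : IsConj (φ iL) (e0 * φ iL) :=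
    hqi.trans (isConj_iff.2 ⟨g, by rw [conjmul, gfix]; rfl⟩)
  have Iuei : IsConj (φ iL) (φ sL * e0 * φ iL) :=
    hur.trans (isConj_iff.2 ⟨g, by rw [conjmul, conjmul, hgu, gfix]; rfl⟩)
  have hfix : (h : G) * φ iL * (h : G)⁻¹ = φ iL := by
    rw [mem_centralizer_singleton_iff.1 h.2, mul_inv_cancel_right]
  have hhu : (h : G) * φ sL * (h : G)⁻¹ = φ rL :=
    lift_eq (h * uC * h⁻¹) rC (by rw [map_mul, map_mul, map_inv, hhU]) (hU h) hqi
  have hhe0 : (h : G) * e0 * (h : G)⁻¹ = e0 :=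
    lift_eq (h * e * h⁻¹) e (by rw [map_mul, map_mul, map_inv, hψe, hhe, mul_inv_cancel_right])
      (heconj.trans (isConj_iff.2 ⟨h, rfl⟩)) Iei
  have Irei : IsConj (φ iL) (φ rL * e0 * φ iL) :=
    Iuei.trans (isConj_iff.2 ⟨h, by rw [conjmul, conjmul, hhu, hhe0, hfix]⟩)
  have Cue : IsConj (φ sL * e0) (φ rL * e0) := isConj_iff.2 ⟨h, by rw [conjmul, hhu, hhe0]⟩
  -- the triple element
  set T : C := uC * rC * e with hT
  have hTv : (T : G) = φ sL * φ rL * e0 := rfl
  set y : C := mk (zL * wL) (by rw [mul_assoc, ← hiw, ← mul_assoc, ← hiz, mul_assoc]) with hy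
  set k0 : G := (k : G) * φ (zL * wL) * (k : G)⁻¹ with hk0
  have hy3 : φ (zL * wL) ^ 3 = 1 := by rw [← map_pow, show (zL * wL) ^ 3 = 1 by decide +kernel, map_one]
  have hk03 : k0 ^ 3 = 1 := by rw [hk0, conj_pow, hy3, mul_one, mul_inv_cancel]
  have hkT : k0 * (T : G) = (T : G) * k0 := by
    set kC : C := k * y * k⁻¹ with hkC
    have hψk : ψ kC * ψ T = ψ T * ψ kC := by
      have e1 : ψ y = ψ zC * ψ wC := by rw [← map_mul]; exact ceq _ _ (map_mul φ zL wL)
      rw [hkC, hT, map_mul, map_mul, map_mul, map_mul, map_inv, e1, hψe]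
      exact hk6
    rcases hker2 (T * kC * T⁻¹) kC (by rw [map_mul, map_mul, map_inv, ← hψk, mul_inv_cancel_right]) with h' | h'
    · exact (mul_inv_eq_iff_eq_mul.1 h').symm
    · exfalso
      change (T : G) * k0 * (T : G)⁻¹ = k0 * φ iL at h'
      have h3 := congrArg (fun x => x ^ 3) h'
      simp only [conj_pow, hk03, mul_one, mul_inv_cancel,
        (show Commute k0 (φ iL) from mem_centralizer_singleton_iff.1 kC.2).mul_pow, one_mul] at h3
      rw [pow_succ, pow_two, ← map_mul, hii, map_one, one_mul] at h3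
      exact D.i_ne h3.symm
  have TnotR : ∀ v : C, k0 * (v : G) = (v : G) * k0 → ¬ IsConj (φ rL) (v : G) := fun v hv hc => by
    obtain ⟨c, hc⟩ := isConj_iff.1 hc
    exact D.r_not_y (g := c) (k := (k : G)) (by rw [hc]; exact hv)
  have hkTi : k0 * ((T : G) * φ iL) = (T : G) * φ iL * k0 := by
    have hki : Commute k0 (φ iL) := mem_centralizer_singleton_iff.1 (k * y * k⁻¹ : C).2
    exact ((show Commute k0 (T : G) from hkT).mul_right hki).eq
  have TnotI : ¬ IsConj (φ iL) ((T : G) * φ iL) := fun hc => by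
    obtain ⟨c, hc⟩ := isConj_iff.1 hc
    have h' := D.conj_i_fix (g := (k : G)⁻¹ * c) (by
      rw [show (k : G)⁻¹ * c * φ iL * ((k : G)⁻¹ * c)⁻¹ = (k : G)⁻¹ * (c * φ iL * c⁻¹) * k by group, hc]
      calc (k : G)⁻¹ * ((T : G) * φ iL) * k * φ (zL * wL) = (k : G)⁻¹ * ((T : G) * φ iL * k0) * k := by
            rw [hk0]; group
        _ = (k : G)⁻¹ * (k0 * ((T : G) * φ iL)) * k := by rw [hkTi]
        _ = φ (zL * wL) * ((k : G)⁻¹ * ((T : G) * φ iL) * k) := by rw [hk0]; group)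
    rw [show (k : G)⁻¹ * c * φ iL * ((k : G)⁻¹ * c)⁻¹ = (k : G)⁻¹ * (c * φ iL * c⁻¹) * k by group, hc] at h'
    have hki : (k : G) * φ iL * (k : G)⁻¹ = φ iL := by
      rw [mem_centralizer_singleton_iff.1 k.2, mul_inv_cancel_right]
    have h2 : (T : G) * φ iL = φ iL := by
      conv_rhs => rw [← hki, ← h']
      group
    have h1 : T = 1 := Subtype.ext (mul_right_cancel (h2.trans (one_mul _).symm))
    have h6' : ψ uC * ψ rC * e6 = 1 := by rw [← hψe, ← map_mul, ← map_mul, ← hT, h1, map_one]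
    apply heUR
    rw [eq_inv_of_mul_eq_one_right h6', ← map_mul, ← map_inv]
    refine ceq _ _ ?_
    show (φ sL * φ rL)⁻¹ = φ sL * φ rL
    refine inv_eq_of_mul_eq_one_left ?_
    rw [← map_mul, ← map_mul, show sL * rL * (sL * rL) = 1 by
      calc sL * rL * (sL * rL) = sL * rL * (rL * sL) := by rw [hsr]
        _ = sL * (rL * rL) * sL := by group
        _ = 1 := by rw [hrr, mul_one, hss], map_one]
  -- the image under the even involution
  have A2 : φ aL * φ aL = 1 := by rw [← map_mul, haa, map_one]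
  have Ainv : (φ aL)⁻¹ = φ aL := inv_eq_of_mul_eq_one_left A2
  have amul : ∀ x y : G, φ aL * (x * y) * φ aL = φ aL * x * φ aL * (φ aL * y * φ aL) := fun x y => by
    rw [show φ aL * x * φ aL * (φ aL * y * φ aL) = φ aL * x * (φ aL * φ aL) * y * φ aL by group, A2]; group
  have Au : φ aL * φ sL * φ aL = φ sL := by rw [← map_mul, ← map_mul, has]
  have Ar : φ aL * φ rL * φ aL = φ rL := by rw [← map_mul, ← map_mul, har]
  have Ai : φ aL * φ iL * φ aL = φ rL * φ iL := by rw [← map_mul, ← map_mul, hai, ← hri, map_mul]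
  have Ari : φ aL * (φ rL * φ iL) * φ aL = φ iL := by
    rw [amul, Ar, Ai, ← mul_assoc, ← map_mul, hrr, map_one, one_mul]
  set e1 := φ aL * e0 * φ aL with he1
  have e1r : e1 * φ rL = φ rL * e1 := by
    calc e1 * φ rL = φ aL * e0 * φ aL * (φ aL * φ rL * φ aL) := by rw [Ar]
      _ = φ aL * (φ rL * e0) * φ aL := by rw [← amul, her]
      _ = φ rL * e1 := by rw [amul, Ar]
  have e1u : e1 * φ sL = φ sL * e1 := by
    calc e1 * φ sL = φ aL * e0 * φ aL * (φ aL * φ sL * φ aL) := by rw [Au]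
      _ = φ aL * (φ sL * e0) * φ aL := by rw [← amul, heu]
      _ = φ sL * e1 := by rw [amul, Au]
  have e1i : e1 * φ iL = φ iL * e1 := by
    have hc : e0 * (φ rL * φ iL) = φ rL * φ iL * e0 := ((show Commute e0 (φ rL) from her).mul_right ei).eq
    calc e1 * φ iL = φ aL * e0 * φ aL * (φ aL * (φ rL * φ iL) * φ aL) := by rw [Ari]
      _ = φ aL * (φ rL * φ iL * e0) * φ aL := by rw [← amul, hc]
      _ = φ iL * e1 := by rw [amul, Ari]
  have e1conj : IsConj (φ rL) e1 := heconj.trans (isConj_iff.2 ⟨φ aL, by rw [Ainv]⟩)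
  let e1C : C := ⟨e1, mem_centralizer_singleton_iff.2 e1i⟩
  have hmem := hall (ψ e1C) (by rw [← map_mul, ← map_mul]; exact ceq _ _ e1u)
    (by rw [← map_mul, ← map_mul]; exact ceq _ _ e1r)
  have inM : ∀ p ∈ [(1 : L), sL, rL, sL * rL, iL, sL * iL, rL * iL, sL * rL * iL], e1 = φ p → False := by
    intro p hp hpe
    have he0p : e0 = φ (aL * p * aL) := by
      rw [map_mul, map_mul, ← hpe, he1, show φ aL * (φ aL * e0 * φ aL) * φ aL =
        φ aL * φ aL * e0 * (φ aL * φ aL) by group, A2, one_mul, mul_one]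
    have hq := frame_M p hp
    generalize hqdef : aL * p * aL = q at hq he0p
    have hcom : ∀ q ∈ [(1 : L), sL, rL, sL * rL, iL, sL * iL, rL * iL, sL * rL * iL], q * iL = iL * q := by
      decide +kernel
    have hψq : e6 = ψ (mk q (hcom q hq)) := hψe.symm.trans (ceq _ _ he0p)
    have hi0 : ψ (mk iL rfl) = 1 := (hk _).2 (Or.inr rfl)
    have he1ne : e6 ≠ 1 := by
      rw [he6, Ne, conj_eq_one_iff]; exact nek rL hri' ⟨r1, ri⟩
    simp only [List.mem_cons, List.not_mem_nil, or_false] at hq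
    have m : ∀ (a b : L) (ha : a * iL = iL * a) (hb : b * iL = iL * b) (hab : a * b * iL = iL * (a * b)),
        ψ (mk (a * b) hab) = ψ (mk a ha) * ψ (mk b hb) := fun a b ha hb hab => by
      rw [← map_mul]; exact ceq _ _ (map_mul φ a b)
    rcases hq with rfl | rfl | rfl | rfl | rfl | rfl | rfl | rfl
    · exact he1ne (hψq.trans ((hk _).2 (Or.inl (map_one φ))))
    · exact heU hψq
    · exact heR' hψq
    · exact heUR (hψq.trans (m _ _ hsi' hri' (hcom _ (by simp))))
    · exact he1ne (hψq.trans hi0)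
    · exact heU (hψq.trans ((m _ _ hsi' rfl (hcom _ (by simp))).trans (by rw [hi0, mul_one])))
    · exact heR' (hψq.trans ((m _ _ hri' rfl (hcom _ (by simp))).trans (by rw [hi0, mul_one])))
    · refine heUR (hψq.trans ((m _ _ (hcom _ (by simp)) rfl (hcom _ (by simp))).trans ?_))
      rw [hi0, mul_one, m _ _ hsi' hri' (hcom _ (by simp))]
  simp only [List.mem_cons, List.not_mem_nil, or_false] at hmem
  rcases hmem with h' | h' | h' | h' | h' | h' | h' | h'
  · rcases (hk _).1 h' with e | e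
    · exact inM 1 (by simp) (e.trans (map_one φ).symm)
    · exact inM iL (by simp) e
  · rcases hker2 e1C uC h' with e | e
    · exact inM sL (by simp) e
    · exact inM (sL * iL) (by simp) (e.trans (map_mul φ _ _).symm)
  · rcases hker2 e1C rC h' with e | e
    · exact inM rL (by simp) e
    · exact inM (rL * iL) (by simp) (e.trans (map_mul φ _ _).symm)
  · rw [← map_mul] at h'
    rcases hker2 e1C (uC * rC) h' with e | e
    · exact inM (sL * rL) (by simp) (e.trans (map_mul φ _ _).symm)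
    · exact inM (sL * rL * iL) (by simp) (by rw [map_mul, map_mul]; exact e)
  · rw [← hψe] at h'
    rcases hker2 e1C e h' with h'' | h''
    · -- the fixed case
      refine TnotI (Iuei.trans (isConj_iff.2 ⟨φ aL, ?_⟩))
      change e1 = e0 at h''
      rw [Ainv, amul, amul, Au, Ai, ← he1, h'', hTv, ← mul_assoc, mul_assoc (φ sL) e0, her, ← mul_assoc]
    · exact hne _ (h'' ▸ e1conj : IsConj (φ rL) (e0 * φ iL)) Iei
  · rw [← hψe, ← map_mul] at h'
    rcases hker2 e1C (uC * e) h' with h'' | h''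
    · refine TnotI (Iei.trans (isConj_iff.2 ⟨φ aL, ?_⟩))
      change e1 = φ sL * e0 at h''
      rw [Ainv, amul, Ai, ← he1, h'', hTv, ← mul_assoc, mul_assoc (φ sL) e0, her, ← mul_assoc]
    · exact hne _ (h'' ▸ e1conj : IsConj (φ rL) (φ sL * e0 * φ iL)) Iuei
  · rw [← hψe, ← map_mul] at h'
    rcases hker2 e1C (rC * e) h' with h'' | h''
    · change e1 = φ rL * e0 at h''
      refine TnotR T hkT ?_
      have h1 : IsConj (φ rL) (φ sL * e0) := by
        refine IsConj.trans ?_ Cue.symm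
        rw [← h'']; exact e1conj
      refine h1.trans (isConj_iff.2 ⟨φ aL, ?_⟩)
      rw [Ainv, amul, Au, ← he1, h'', hTv, mul_assoc]
    · exact hne _ (h'' ▸ e1conj : IsConj (φ rL) (φ rL * e0 * φ iL)) Irei
  · rw [← hψe, ← map_mul, ← map_mul] at h'
    rcases hker2 e1C T h' with h'' | h''
    · exact TnotR T hkT (h'' ▸ e1conj)
    · refine TnotR (T * ⟨φ iL, hiC⟩) hkTi ?_
      show IsConj (φ rL) ((T : G) * φ iL)
      rw [← h'']; exact e1conj

end Frame

end Cfsg.Agent.EightFour
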