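import Cfsg.Agent.Lib.EightFour.Model
import Cfsg.Agent.Lib.EightLocal.Setup

/-!
# Coordinates from the `3`-local data
-/

set_option autoImplicit false
set_option linter.style.haveILetI false
set_option linter.unusedSectionVars false
set_option maxRecDepth 100000
set_option synthInstance.maxSize 10000

namespace Cfsg.Agent.EightFour

open Subgroup
open EightLocal (card_centralizer_conj card_centralizer_inv c3 sigma)

variable {G : Type*} [Group G] [Finite G]

/-- The coordinates: `φ` is the normalizer of `z`, and `t` exchanges `z` and `w`. -/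
structure Frame (P : Sylow 3 G) (φ : L →* G) (t : G) : Prop where
  inj : Function.Injective φ
  sylow : ∀ g, g ∈ (P : Subgroup G) ↔ ∃ a, φ (dL a) = g
  normz : ∀ g, g ∈ normalizer (zpowers (φ zL) : Set G) → g ∈ φ.range
  cardY : Nat.card (centralizer ({φ (zL * wL)} : Set G)) = 36
  normY : ∀ g ∈ centralizer ({φ (zL * wL)} : Set G), g ∈ normalizer ((P : Subgroup G) : Set G)
  cardN : Nat.card (normalizer ((P : Subgroup G) : Set G)) = 144
  t2 : t * t = 1
  tz : t * φ zL * t = φ wL
  tw : t * φ wL * t = φ zL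
  ti : t * φ iL * t = φ iL
  ts : t * φ sL * t = φ qL ∨ t * φ sL * t = φ rL

theorem mem_cent_normalizer {z g : G} (hg : g ∈ centralizer ({z} : Set G)) :
    g ∈ normalizer (zpowers z : Set G) := by
  have h : Commute g z := mem_centralizer_singleton_iff.1 hg
  refine mem_normalizer_iff.2 fun x => ⟨fun hx => ?_, fun hx => ?_⟩
  · obtain ⟨k, rfl⟩ := mem_zpowers_iff.1 hx
    rw [(h.zpow_right k).eq, mul_inv_cancel_right]
    exact zpow_mem (mem_zpowers z) k
  · obtain ⟨k, hk⟩ := mem_zpowers_iff.1 hx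
    have : x = z ^ k := by
      rw [show x = g⁻¹ * (g * x * g⁻¹) * g by group, ← hk, mul_assoc, ← (h.zpow_right k).eq]
      group
    rw [this]; exact zpow_mem (mem_zpowers z) k

/-- The normalizer of `z` with `z` as first coordinate. -/
theorem exists_phi_z {z : G} (hz3 : z ^ 3 = 1) (hz1 : z ≠ 1)
    (eL : normalizer (zpowers z : Set G) ≃* L) :
    ∃ φ : L →* G, Function.Injective φ ∧ φ zL = z ∧ φ.range = normalizer (zpowers z : Set G) := by
  set zN : normalizer (zpowers z : Set G) := ⟨z, le_normalizer (mem_zpowers z)⟩ with hzN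
  set u : L := eL zN with hu
  have hu3 : u ^ 3 = 1 := by
    rw [hu, ← map_pow, show zN ^ 3 = 1 from Subtype.ext hz3, map_one]
  have hu1 : u ≠ 1 := fun h => hz1 (congrArg Subtype.val ((map_eq_one_iff eL eL.injective).1 h))
  have hnor : ∀ g : L, g * u * g⁻¹ = u ∨ g * u * g⁻¹ = u⁻¹ := by
    intro g
    obtain ⟨h, rfl⟩ := eL.surjective g
    have hm := (mem_normalizer_iff.1 h.2 z).1 (mem_zpowers z)
    obtain ⟨k, hk⟩ := mem_zpowers_iff.1 hm
    rw [zpow_eq_zpow_emod k (n := 3) (by exact_mod_cast hz3)] at hk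
    have h0 := Int.emod_nonneg k (show (3 : ℤ) ≠ 0 by norm_num)
    have h3 := Int.emod_lt_of_pos k (show (0 : ℤ) < 3 by norm_num)
    rw [hu, ← map_inv, ← map_inv, ← map_mul, ← map_mul]
    rcases (show k % 3 = 0 ∨ k % 3 = 1 ∨ k % 3 = 2 by omega) with e | e | e <;> rw [e] at hk
    · rw [zpow_zero] at hk
      exact absurd (conj_eq_one_iff.1 hk.symm) hz1
    · left
      exact congrArg eL (Subtype.ext (by rw [zpow_one] at hk; exact hk.symm))
    · right
      refine congrArg eL (Subtype.ext ?_)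
      change (h : G) * z * (h : G)⁻¹ = z⁻¹
      rw [← hk]
      refine eq_inv_of_mul_eq_one_left ?_
      rw [zpow_two, ← hz3, pow_succ, pow_two]
  have hrange : ∀ f : L ≃* normalizer (zpowers z : Set G),
      ((normalizer (zpowers z : Set G)).subtype.comp f.toMonoidHom).range =
        normalizer (zpowers z : Set G) := by
    intro f
    ext g
    exact ⟨fun ⟨p, hp⟩ => hp ▸ (f p).2, fun hg => ⟨f.symm ⟨g, hg⟩, by simp⟩⟩
  rcases normal_three u hu3 hu1 (fun g _ => hnor g) with h | h
  · refine ⟨(normalizer (zpowers z : Set G)).subtype.comp eL.symm.toMonoidHom,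
      Subtype.val_injective.comp eL.symm.injective, ?_, hrange _⟩
    change ((eL.symm zL : normalizer (zpowers z : Set G)) : G) = z
    rw [← h, hu, MulEquiv.symm_apply_apply]
  · refine ⟨(normalizer (zpowers z : Set G)).subtype.comp ((MulAut.conj sL).trans eL.symm).toMonoidHom,
      Subtype.val_injective.comp ((MulAut.conj sL).trans eL.symm).injective, ?_, hrange _⟩
    change ((eL.symm (sL * zL * sL⁻¹) : normalizer (zpowers z : Set G)) : G) = z
    rw [show sL * zL * sL⁻¹ = u by rw [h]; decide +kernel, hu, MulEquiv.symm_apply_apply]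

variable {P : Sylow 3 G}

/-- All the coordinates. -/
theorem exists_frame {z y : G} (hcomm : ∀ a ∈ (P : Subgroup G), ∀ b ∈ (P : Subgroup G), a * b = b * a)
    (hcard : Nat.card (P : Subgroup G) = 9) (hexp : ∀ a ∈ (P : Subgroup G), a ^ 3 = 1)
    (hzP : z ∈ (P : Subgroup G)) (hyP : y ∈ (P : Subgroup G))
    (hgen : Subgroup.closure {y, z} = (P : Subgroup G))
    (hN : Nat.card (normalizer ((P : Subgroup G) : Set G)) = 144)
    (hycard : Nat.card (centralizer ({y} : Set G)) = 36)
    (hysq : ∀ g ∈ centralizer ({y} : Set G), g ^ 2 ∈ (P : Subgroup G))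
    (hyn : ∀ g ∈ centralizer ({y} : Set G), g ∈ normalizer ((P : Subgroup G) : Set G))
    (hzcard : Nat.card (centralizer ({z} : Set G)) = 360)
    (eL : normalizer (zpowers z : Set G) ≃* L) :
    ∃ φ t, Frame P φ t := by
  classical
  obtain ⟨hd10, hd01, hd11, hd00, hdneg, hd3⟩ := dL_facts
  obtain ⟨hact_s, hact_q, hact_i, -⟩ := dL_act
  obtain ⟨hs2, hq2, hi2, hr2, -⟩ := small_facts
  have hnotin : ∀ x : G, x ∈ (P : Subgroup G) → ¬ (P : Subgroup G) ≤ zpowers x := fun x hx h => by
    have := Subgroup.card_le_of_le h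
    have h3 := Nat.le_of_dvd (by norm_num) (orderOf_dvd_of_pow_eq_one (hexp x hx))
    rw [Nat.card_zpowers, hcard] at this
    omega
  have hgen_le : ∀ x : G, y ∈ zpowers x → z ∈ zpowers x → (P : Subgroup G) ≤ zpowers x := fun x h1 h2 => by
    rw [← hgen, Subgroup.closure_le]
    rintro g (rfl | rfl)
    exacts [h1, h2]
  have hz1 : z ≠ 1 := by
    rintro rfl
    exact hnotin y hyP (hgen_le y (mem_zpowers y) (one_mem _))
  obtain ⟨φ0, hinj0, hz0, hrange0⟩ := exists_phi_z (hexp z hzP) hz1 eL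
  have hcent : ∀ φ : L →* G, Function.Injective φ → φ zL = z → φ.range = normalizer (zpowers z : Set G) →
      ∀ g ∈ centralizer ({z} : Set G), ∃ p : L, p * zL = zL * p ∧ φ p = g := by
    intro φ hinj hz hrange g hg
    obtain ⟨p, hp⟩ := hrange.ge (mem_cent_normalizer hg)
    refine ⟨p, hinj ?_, hp⟩
    rw [map_mul, map_mul, hp, hz]
    exact mem_centralizer_singleton_iff.1 hg
  -- conjugate so that `P` is the chosen subgroup
  obtain ⟨φ, hinj, hz, hrange, hsyl⟩ : ∃ φ : L →* G, Function.Injective φ ∧ φ zL = z ∧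
      φ.range = normalizer (zpowers z : Set G) ∧ ∀ g, g ∈ (P : Subgroup G) ↔ ∃ a, φ (dL a) = g := by
    have hyz : y ∈ centralizer ({z} : Set G) := mem_centralizer_singleton_iff.2 (hcomm y hyP z hzP)
    obtain ⟨b, hbz, hb⟩ := hcent φ0 hinj0 hz0 hrange0 y hyz
    have hb3 : b ^ 3 = 1 := hinj0 (by rw [map_pow, hb, hexp y hyP, map_one])
    have hb2 : b.2 ≠ 1 := by
      intro e
      have key : ∀ q : Equiv.Perm (Fin 3), q ^ 3 = 1 → ∃ k : Fin 3, q = c3 ^ (k : ℕ) := by decide +kernel
      obtain ⟨k, hk⟩ := key b.1 (congrArg Prod.fst hb3)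
      have hbk : b = zL ^ (k : ℕ) := Prod.ext (by simp [zL, hk]) (by simp [zL, e])
      refine hnotin z hzP (hgen_le z ?_ (mem_zpowers z))
      rw [← hb, hbk, map_pow, hz0]
      exact pow_mem (mem_zpowers z) _
    obtain ⟨v, hv⟩ := three_conj b.2 (congrArg Prod.snd hb3) hb2
    let c : L := (1, v⁻¹)
    have hcz : c * zL * c⁻¹ = zL := Prod.ext (by simp [c, zL]) (by simp [c, zL])
    refine ⟨φ0.comp (MulAut.conj c).toMonoidHom, hinj0.comp (MulAut.conj c).injective, ?_, ?_, ?_⟩
    · change φ0 (c * zL * c⁻¹) = z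
      rw [hcz, hz0]
    · rw [← hrange0, MonoidHom.range_comp, MonoidHom.range_eq_top_of_surjective _ (MulAut.conj c).surjective,
        ← MonoidHom.range_eq_map]
    · have hinj' : Function.Injective (fun p => φ0 (c * p * c⁻¹)) :=
        hinj0.comp (MulAut.conj c).injective
      have hsub : ∀ g ∈ (P : Subgroup G), ∃ a, φ0 (c * dL a * c⁻¹) = g := by
        intro g hg
        obtain ⟨p, hpz, hp⟩ := hcent φ0 hinj0 hz0 hrange0 g
          (mem_centralizer_singleton_iff.2 (hcomm g hg z hzP))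
        have hp3 : p ^ 3 = 1 := hinj0 (by rw [map_pow, hp, hexp g hg, map_one])
        have hpb : p * b = b * p := hinj0 (by rw [map_mul, map_mul, hp, hb]; exact hcomm g hg y hyP)
        have hwc : (c⁻¹ * p * c) * wL = wL * (c⁻¹ * p * c) := by
          refine Prod.ext (by simp [c, wL]) ?_
          have h2 : p.2 * b.2 = b.2 * p.2 := congrArg Prod.snd hpb
          simp only [c, wL, Prod.snd_mul, Prod.snd_inv, inv_inv, ← hv]
          calc v * p.2 * v⁻¹ * (v * b.2 * v⁻¹) = v * (p.2 * b.2) * v⁻¹ := by group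
            _ = v * (b.2 * p.2) * v⁻¹ := by rw [h2]
            _ = v * b.2 * v⁻¹ * (v * p.2 * v⁻¹) := by group
        obtain ⟨a, ha⟩ := three_sigma (c⁻¹ * p * c)
          (by
            have h := conj_pow (i := 3) (a := c⁻¹) (b := p)
            rw [inv_inv] at h
            rw [h, hp3, mul_one, inv_mul_cancel])
          (by
            rw [show zL = c⁻¹ * zL * c from Prod.ext (by simp [c, zL]) (by simp [c, zL])]
            calc c⁻¹ * p * c * (c⁻¹ * zL * c) = c⁻¹ * (p * zL) * c := by group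
              _ = c⁻¹ * (zL * p) * c := by rw [hpz]
              _ = _ := by group)
          hwc
        exact ⟨a, by rw [ha, show c * (c⁻¹ * p * c) * c⁻¹ = p by group, hp]⟩
      intro g
      refine ⟨fun hg => hsub g hg, ?_⟩
      rintro ⟨a, rfl⟩
      choose f hf using fun x : (P : Subgroup G) => hsub x x.2
      have hfi : Function.Injective f := fun x x' e => Subtype.ext (by rw [← hf x, ← hf x', e])
      obtain ⟨x, hx⟩ := ((Nat.bijective_iff_injective_and_card f).2 ⟨hfi, by simp [hcard]⟩).2 a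
      show φ0 (c * dL a * c⁻¹) ∈ (P : Subgroup G)
      rw [← hx, hf x]
      exact x.2
  have hmem : ∀ a, φ (dL a) ∈ (P : Subgroup G) := fun a => (hsyl _).2 ⟨a, rfl⟩
  set N := normalizer ((P : Subgroup G) : Set G) with hNdef
  have hnorm : ∀ p : L, NormP p → φ p ∈ N := by
    intro p hp
    refine mem_normalizer_iff_map_conj_eq.2 (eq_of_le_of_card_ge ?_ (by
      rw [card_map_of_injective (MulEquiv.injective _)]))
    rintro _ ⟨g, hg, rfl⟩
    obtain ⟨a, rfl⟩ := (hsyl g).1 hg
    obtain ⟨b, hb⟩ := (normP_iff p).1 hp a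
    change φ p * φ (dL a) * (φ p)⁻¹ ∈ (P : Subgroup G)
    rw [← map_inv, ← map_mul, ← map_mul, hb]
    exact hmem b
  have hconj : ∀ p : L, NormP p → p * p = 1 → ∀ a,
      Nat.card (centralizer ({φ (p * dL a * p)} : Set G)) = Nat.card (centralizer ({φ (dL a)} : Set G)) := by
    intro p _ hp2 a
    rw [map_mul, map_mul]
    conv_lhs => rw [show φ p = φ p from rfl]
    have h := card_centralizer_conj (φ (dL a)) (φ p)
    rwa [← map_inv, inv_eq_of_mul_eq_one_left hp2] at h
  have hnegc : ∀ a, Nat.card (centralizer ({φ (dL (-a))} : Set G)) =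
      Nat.card (centralizer ({φ (dL a)} : Set G)) := fun a => by
    rw [hdneg, map_inv, card_centralizer_inv]
  have hsN : NormP sL := by decide +kernel
  have hqN : NormP qL := by decide +kernel
  have hz360 : Nat.card (centralizer ({φ (dL (1, 0))} : Set G)) = 360 := by rw [hd10, hz]; exact hzcard
  obtain ⟨b, hb⟩ := (hsyl y).1 hyP
  -- an element moving the line of `z`
  obtain ⟨g, hgN, hgr⟩ : ∃ g ∈ N, g ∉ φ.range := by
    by_contra hcon
    push Not at hcon
    have h : Nat.card N ≤ 72 := by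
      rw [← card_normP, ← Fintype.card_coe, ← Nat.card_eq_fintype_card]
      choose f hf using fun n : N => hcon n n.2
      refine Nat.card_le_card_of_injective (fun n => ⟨f n, ?_⟩) fun n m e => ?_
      · simp only [Finset.mem_filter, Finset.mem_univ, true_and]
        refine (normP_iff _).2 fun a => ?_
        obtain ⟨c, hc⟩ := (hsyl _).1 ((mem_normalizer_iff.1 n.2 _).1 (hmem a))
        refine ⟨c, hinj ?_⟩
        rw [map_mul, map_mul, map_inv, hf n, hc]
      · exact Subtype.ext (by rw [← hf n, ← hf m]; exact congrArg φ (congrArg Subtype.val e))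
    omega
  have himg : ∀ n ∈ N, ∃ a, n * z * n⁻¹ = φ (dL a) ∧
      Nat.card (centralizer ({φ (dL a)} : Set G)) = 360 ∧ (a.2 = 0 → n ∈ φ.range) := by
    intro n hn
    obtain ⟨a, ha⟩ := (hsyl _).1 ((mem_normalizer_iff.1 hn z).1 hzP)
    refine ⟨a, ha.symm, by rw [ha, card_centralizer_conj, hzcard], fun h0 => hrange.ge ?_⟩
    have hz' : n * z * n⁻¹ ∈ zpowers z := by
      rw [← ha, show dL a = zL ^ a.1.val from Prod.ext (by simp [dL, zL]) (by simp [dL, zL, h0]), map_pow, hz]
      exact pow_mem (mem_zpowers z) _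
    refine mem_normalizer_iff_map_conj_eq.2 (eq_of_le_of_card_ge ?_ (by
      rw [card_map_of_injective (MulEquiv.injective _)]))
    rw [MonoidHom.map_zpowers]
    exact zpowers_le.2 hz'
  -- the other axis
  obtain ⟨a, ha, ha360, har⟩ := himg g hgN
  have ha2 : a.2 ≠ 0 := fun h => hgr (har h)
  have ha1 : a.1 = 0 := by
    by_contra ha1
    have hsa := hconj sL hsN hs2 a
    have hqa := hconj qL hqN hq2 a
    rw [hact_s] at hsa; rw [hact_q] at hqa
    set elems : Fin 6 → G := ![1, φ sL, g, φ qL * g, φ sL * g, φ (sL * qL) * g] with helems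
    have helN : ∀ j, elems j ∈ N := by
      intro j
      fin_cases j
      · exact one_mem _
      · exact hnorm _ hsN
      · exact hgN
      · exact mul_mem (hnorm _ hqN) hgN
      · exact mul_mem (hnorm _ hsN) hgN
      · show φ (sL * qL) * g ∈ N
        rw [map_mul]; exact mul_mem (mul_mem (hnorm _ hsN) (hnorm _ hqN)) hgN
    have hsi : (φ sL)⁻¹ = φ sL := by rw [← map_inv]; exact congrArg φ (inv_eq_of_mul_eq_one_left hs2)
    have hqi : (φ qL)⁻¹ = φ qL := by rw [← map_inv]; exact congrArg φ (inv_eq_of_mul_eq_one_left hq2)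
    have himages : ∀ j, elems j * z * (elems j)⁻¹ =
        φ (dL (![((1, 0) : ZMod 3 × ZMod 3), (-1, 0), a, (a.1, -a.2), (-a.1, a.2), (-a.1, -a.2)] j)) := by
      have e1 : ∀ p : L, p * p = 1 → ∀ x : G, φ p * x * g⁻¹ * (φ p)⁻¹ = φ p * (x * g⁻¹) * φ p := fun p hp x => by
        rw [← map_inv, inv_eq_of_mul_eq_one_left hp]; group
      intro j
      fin_cases j
      · show 1 * z * 1⁻¹ = φ (dL (1, 0))
        rw [hd10, hz]; group
      · show φ sL * z * (φ sL)⁻¹ = φ (dL (-1, 0))
        rw [hsi, ← hz, ← map_mul, ← map_mul, ← hd10, hact_s]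
      · exact ha
      · show φ qL * g * z * (φ qL * g)⁻¹ = φ (dL (a.1, -a.2))
        rw [mul_inv_rev, hqi, show φ qL * g * z * (g⁻¹ * φ qL) = φ qL * (g * z * g⁻¹) * φ qL by group, ha,
          ← map_mul, ← map_mul, hact_q]
      · show φ sL * g * z * (φ sL * g)⁻¹ = φ (dL (-a.1, a.2))
        rw [mul_inv_rev, hsi, show φ sL * g * z * (g⁻¹ * φ sL) = φ sL * (g * z * g⁻¹) * φ sL by group, ha,
          ← map_mul, ← map_mul, hact_s]
      · show φ (sL * qL) * g * z * (φ (sL * qL) * g)⁻¹ = φ (dL (-a.1, -a.2))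
        rw [mul_inv_rev, show φ (sL * qL) * g * z * (g⁻¹ * (φ (sL * qL))⁻¹) =
          φ (sL * qL) * (g * z * g⁻¹) * (φ (sL * qL))⁻¹ by group, ha, ← map_inv, ← map_mul, ← map_mul,
          mul_inv_rev, inv_eq_of_mul_eq_one_left hs2, inv_eq_of_mul_eq_one_left hq2,
          show sL * qL * dL a * (qL * sL) = sL * (qL * dL a * qL) * sL by group, hact_q, hact_s]
    let S := {p : L // NormP p ∧ p * zL = zL * p}
    have h216 : Nat.card (Fin 6 × S) ≤ Nat.card N := by
      refine Nat.card_le_card_of_injective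
        (fun x => ⟨elems x.1 * φ x.2, mul_mem (helN _) (hnorm _ x.2.2.1)⟩) ?_
      rintro ⟨j, s⟩ ⟨k, s'⟩ e
      have e' : elems j * φ s = elems k * φ s' := congrArg Subtype.val e
      have hsz : ∀ s : S, φ s * z * (φ s)⁻¹ = z := fun s => by
        rw [← hz, ← map_mul, s.2.2, map_mul, mul_inv_cancel_right]
      have h := congrArg (fun x => x * z * x⁻¹) e'
      simp only [mul_inv_rev] at h
      rw [show elems j * φ s * z * ((φ s)⁻¹ * (elems j)⁻¹) = elems j * (φ s * z * (φ s)⁻¹) * (elems j)⁻¹ by group,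
        show elems k * φ s' * z * ((φ s')⁻¹ * (elems k)⁻¹) = elems k * (φ s' * z * (φ s')⁻¹) * (elems k)⁻¹ by group,
        hsz, hsz, himages, himages] at h
      obtain rfl : j = k := six_images a ha1 ha2 (dL_inj _ _ (hinj h))
      exact Prod.ext rfl (Subtype.ext (hinj (mul_left_cancel e')))
    rw [Nat.card_prod, hN, Nat.card_eq_fintype_card, Fintype.card_fin, Nat.card_eq_fintype_card,
      Fintype.card_subtype, card_normP_cent] at h216
    omega
  have hw360 : Nat.card (centralizer ({φ (dL (0, 1))} : Set G)) = 360 := by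
    have key : ∀ a : ZMod 3 × ZMod 3, a.1 = 0 → a.2 ≠ 0 → a = (0, 1) ∨ -a = (0, 1) := by decide
    rcases key a ha1 ha2 with e | e
    · rw [← e]; exact ha360
    · rw [← e, hnegc]; exact ha360
  have hb36 : Nat.card (centralizer ({φ (dL b)} : Set G)) = 36 := by rw [hb]; exact hycard
  have hboff : b.1 ≠ 0 ∧ b.2 ≠ 0 := by
    have key : ∀ b : ZMod 3 × ZMod 3, b.1 = 0 ∨ b.2 = 0 → b = 0 ∨ b = (1, 0) ∨ -b = (1, 0) ∨ b = (0, 1) ∨ -b = (0, 1) := by
      decide
    by_contra hcon
    rcases key b (by tauto) with e | e | e | e | e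
    · rw [e, hd00, map_one] at hb
      refine hnotin z hzP (hgen_le z ?_ (mem_zpowers z))
      rw [← hb]; exact one_mem _
    · rw [e, hz360] at hb36; omega
    · rw [← hnegc, e, hz360] at hb36; omega
    · rw [e, hw360] at hb36; omega
    · rw [← hnegc, e, hw360] at hb36; omega
  -- the class of `y`
  obtain ⟨c, hcN, hcy⟩ : ∃ c ∈ N, c * y * c⁻¹ = φ (zL * wL) := by
    have hsi : (φ sL)⁻¹ = φ sL := by rw [← map_inv]; exact congrArg φ (inv_eq_of_mul_eq_one_left hs2)
    have hqi : (φ qL)⁻¹ = φ qL := by rw [← map_inv]; exact congrArg φ (inv_eq_of_mul_eq_one_left hq2)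
    rcases axis_ne b hboff.1 hboff.2 with e | e | e | e <;> subst e
    · exact ⟨1, one_mem _, by rw [← hb, hd11]; group⟩
    · refine ⟨φ sL, hnorm _ hsN, ?_⟩
      rw [hsi, ← hb, ← map_mul, ← map_mul, hact_s, neg_neg, hd11]
    · refine ⟨φ qL, hnorm _ hqN, ?_⟩
      rw [hqi, ← hb, ← map_mul, ← map_mul, hact_q, neg_neg, hd11]
    · refine ⟨φ sL * φ qL, mul_mem (hnorm _ hsN) (hnorm _ hqN), ?_⟩
      rw [mul_inv_rev, hsi, hqi,
        show φ sL * φ qL * y * (φ qL * φ sL) = φ sL * (φ qL * y * φ qL) * φ sL by group, ← hb,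
        ← map_mul, ← map_mul, hact_q, ← map_mul, ← map_mul, hact_s]
      exact congrArg φ (by decide +kernel)
  have hY : Nat.card (centralizer ({φ (zL * wL)} : Set G)) = 36 := by
    rw [← hcy, card_centralizer_conj, hycard]
  have hback : ∀ x ∈ centralizer ({φ (zL * wL)} : Set G), c⁻¹ * x * c ∈ centralizer ({y} : Set G) := by
    intro x hx
    rw [mem_centralizer_singleton_iff]
    have h := mem_centralizer_singleton_iff.1 hx
    rw [← hcy] at h
    calc c⁻¹ * x * c * y = c⁻¹ * (x * (c * y * c⁻¹)) * c := by group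
      _ = c⁻¹ * ((c * y * c⁻¹) * x) * c := by rw [h]
      _ = y * (c⁻¹ * x * c) := by group
  have hYn : ∀ x ∈ centralizer ({φ (zL * wL)} : Set G), x ∈ N := fun x hx => by
    have := mul_mem (mul_mem hcN (hyn _ (hback x hx))) (inv_mem hcN)
    rwa [show c * (c⁻¹ * x * c) * c⁻¹ = x by group] at this
  have hYsq : ∀ x ∈ centralizer ({φ (zL * wL)} : Set G), x ^ 2 ∈ (P : Subgroup G) := fun x hx => by
    have := (mem_normalizer_iff.1 hcN _).1 (hysq _ (hback x hx))
    rwa [← conj_pow, show c * (c⁻¹ * x * c) * c⁻¹ = x by group] at this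
  -- the involution exchanging `z` and `w`
  obtain ⟨t0, ht0, ht0r⟩ : ∃ x ∈ centralizer ({φ (zL * wL)} : Set G), x ∉ φ.range := by
    by_contra hcon
    push Not at hcon
    have h : Nat.card (centralizer ({φ (zL * wL)} : Set G)) ≤ 18 := by
      rw [← card_cent_y, ← Fintype.card_coe, ← Nat.card_eq_fintype_card]
      choose f hf using fun n : centralizer ({φ (zL * wL)} : Set G) => hcon n n.2
      refine Nat.card_le_card_of_injective (fun n => ⟨f n, ?_⟩) fun n m e => ?_
      · simp only [Finset.mem_filter, Finset.mem_univ, true_and]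
        exact hinj (by rw [map_mul φ (f n), map_mul φ (zL * wL), hf n]; exact mem_centralizer_singleton_iff.1 n.2)
      · exact Subtype.ext (by rw [← hf n, ← hf m]; exact congrArg φ (congrArg Subtype.val e))
    omega
  set t := t0 ^ 3 with ht
  have hsq := hYsq t0 ht0
  have ht2 : t * t = 1 := by
    rw [ht, ← pow_add, show 3 + 3 = 2 * 3 from rfl, pow_mul, hexp _ hsq]
  have htY : t ∈ centralizer ({φ (zL * wL)} : Set G) := pow_mem ht0 3
  have htr : t ∉ φ.range := by
    intro h
    obtain ⟨a, ha⟩ := (hsyl _).1 hsq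
    apply ht0r
    have : t0 = t * (φ (dL a))⁻¹ := by rw [ha, ht]; group
    rw [this]
    exact mul_mem h (inv_mem ⟨_, rfl⟩)
  have hti : t⁻¹ = t := inv_eq_of_mul_eq_one_left ht2
  obtain ⟨d, hd, hd360, hdr⟩ := himg t (hYn t htY)
  rw [hti] at hd
  have hd1 : d.1 = 0 := by
    by_contra h1
    have hd2 : d.2 ≠ 0 := fun h => htr (hdr h)
    have e : ∀ d, φ (dL d) = φ (zL * wL) → False := fun d e => by
      have h := hd360
      rcases axis_ne _ h1 hd2 with rfl | rfl | rfl | rfl
      · rw [hd11, hY] at h; omega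
      · have := hconj sL hsN hs2 (-1, 1); rw [hact_s, neg_neg, hd11, hY, h] at this; omega
      · have := hconj qL hqN hq2 (1, -1); rw [hact_q, neg_neg, hd11, hY, h] at this; omega
      · have := hnegc (-1, -1); rw [show -((-1, -1) : ZMod 3 × ZMod 3) = (1, 1) by decide, hd11, hY, h] at this
        omega
    exact e (1, 1) (by rw [hd11])
  have htfix : t * φ (zL * wL) * t = φ (zL * wL) := by
    rw [mem_centralizer_singleton_iff.1 htY, mul_assoc, ht2, mul_one]
  have hzw : t * φ zL * t = φ wL ∧ t * φ wL * t = φ zL := by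
    have hd2 : d.2 ≠ 0 := fun h => htr (hdr h)
    have h1 : t * φ zL * t = φ (dL d) := by rw [hz]; exact hd
    have hback' : t * φ (dL d) * t = φ zL := by
      rw [← h1, show t * (t * φ zL * t) * t = (t * t) * φ zL * (t * t) by group, ht2, one_mul, mul_one]
    have key : ∀ d : ZMod 3 × ZMod 3, d.1 = 0 → d.2 ≠ 0 → d = (0, 1) ∨ d = (0, -1) := by decide
    rcases key d hd1 hd2 with rfl | rfl
    · rw [hd01] at h1 hback'; exact ⟨h1, hback'⟩
    · exfalso
      have e : dL (0, -1) = wL⁻¹ := by decide +kernel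
      rw [e] at h1 hback'
      rw [map_inv] at hback'
      have h2 : t * φ wL * t = (φ zL)⁻¹ := by
        conv_rhs => rw [← hback']
        rw [mul_inv_rev, mul_inv_rev, inv_inv, hti, mul_assoc]
      have h3 : φ (wL⁻¹ * zL⁻¹) = φ (zL * wL) := by
        rw [← htfix, map_mul, map_mul, map_inv φ zL, ← h1, ← h2]
        calc t * φ zL * t * (t * φ wL * t) = t * φ zL * (t * t) * φ wL * t := by group
          _ = t * (φ zL * φ wL) * t := by rw [ht2]; group
      exact absurd (hinj h3) (by decide +kernel)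
  -- the involution centralizing `P`
  have hNL : ∀ x : G, x * φ zL = φ zL * x → x * φ wL = φ wL * x → ∃ a, x = φ (dL a) ∨ x = φ (dL a * iL) := by
    intro x h1 h2
    obtain ⟨p, hp1, rfl⟩ := hcent φ hinj hz hrange x (mem_centralizer_singleton_iff.2 (by rw [← hz]; exact h1))
    obtain ⟨a, e | e⟩ := cent_P p hp1 (hinj (by rw [map_mul, map_mul]; exact h2))
    exacts [⟨a, Or.inl (congrArg φ e)⟩, ⟨a, Or.inr (congrArg φ e)⟩]
  have htc : ∀ g h : G, t * (g * h) * t = t * g * t * (t * h * t) := fun g h => by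
    rw [show t * g * t * (t * h * t) = t * g * (t * t) * h * t by group, ht2]; group
  obtain ⟨-, -, -, -, -, -, -, -, hsi', -, hsw, -, -, -, hz_ne, hw_ne, hi_ne, hszs, hiz, hiw⟩ := small_facts
  have hti' : t * φ iL * t = φ iL := by
    obtain ⟨a, e | e⟩ := hNL (t * φ iL * t)
      (by rw [← hzw.2, ← htc, ← htc, ← map_mul, ← map_mul, hiw])
      (by rw [← hzw.1, ← htc, ← htc, ← map_mul, ← map_mul, hiz])
    · have h2 : dL a * dL a = 1 := hinj (by
        rw [map_mul, map_one, ← e, ← htc, ← map_mul, hi2, map_one, mul_one, ht2])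
      rw [dL_two a h2, map_one] at e
      exact absurd (hinj (show φ iL = φ 1 by
        rw [map_one, ← show t * (t * φ iL * t) * t = φ iL by
          rw [show t * (t * φ iL * t) * t = (t * t) * φ iL * (t * t) by group, ht2, one_mul, mul_one], e,
          mul_one, ht2])) hi_ne
    · have h2 : dL a * iL * (dL a * iL) = 1 := hinj (by
        rw [map_mul, map_one, ← e, ← htc, ← map_mul, hi2, map_one, mul_one, ht2])
      rw [e, two_of_cent_P a h2, hd00, one_mul]
  -- adjust the second coordinate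
  obtain ⟨p, hp⟩ : ∃ p : L, φ p = t * φ sL * t := by
    refine (hcent φ hinj hz hrange (t * φ sL * t) (mem_centralizer_singleton_iff.2 ?_)).imp fun p h => h.2
    rw [← hz, ← hzw.2, ← htc, ← htc, ← map_mul, ← map_mul, hsw]
  obtain ⟨k, hk⟩ := inverter p
    (hinj (by rw [map_mul, map_mul, hp, ← hzw.2, ← htc, ← htc, ← map_mul, ← map_mul, hsw]))
    (hinj (by
      rw [map_mul, map_mul, hp, ← hzw.1, ← htc, ← htc, ← map_mul, ← map_mul, hszs, map_inv, map_inv]
      rw [← hzw.1, mul_inv_rev, mul_inv_rev, hti, mul_assoc]))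
    (hinj (by rw [map_mul, map_one, hp, ← htc, ← map_mul, hs2, map_one, mul_one, ht2]))
    (hinj (by rw [map_mul, map_mul, hp, ← hti', ← htc, ← htc, ← map_mul, ← map_mul, hsi']))
  obtain ⟨hkz, hkw, hki, hks, hkd⟩ := wpow_facts k
  set u : L := wL ^ (k : ℕ) with hu
  refine ⟨φ.comp (MulAut.conj u).toMonoidHom, t, hinj.comp (MulAut.conj u).injective, ?_, ?_, ?_, ?_, hN, ht2,
    ?_, ?_, ?_, ?_⟩
  · intro g
    simp only [MonoidHom.comp_apply, MulEquiv.coe_toMonoidHom, MulAut.conj_apply, hkd]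
    exact hsyl g
  · intro g hg
    rw [MonoidHom.range_comp, MonoidHom.range_eq_top_of_surjective _ (MulAut.conj u).surjective,
      ← MonoidHom.range_eq_map, hrange]
    simpa only [MonoidHom.comp_apply, MulEquiv.coe_toMonoidHom, MulAut.conj_apply, hkz, hz] using hg
  · simp only [MonoidHom.comp_apply, MulEquiv.coe_toMonoidHom, map_mul (MulAut.conj u), MulAut.conj_apply,
      hkz, hkw]
    exact hY
  · simp only [MonoidHom.comp_apply, MulEquiv.coe_toMonoidHom, map_mul (MulAut.conj u), MulAut.conj_apply,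
      hkz, hkw]
    exact hYn
  · simp only [MonoidHom.comp_apply, MulEquiv.coe_toMonoidHom, MulAut.conj_apply, hkz, hkw]
    exact hzw.1
  · simp only [MonoidHom.comp_apply, MulEquiv.coe_toMonoidHom, MulAut.conj_apply, hkz, hkw]
    exact hzw.2
  · simp only [MonoidHom.comp_apply, MulEquiv.coe_toMonoidHom, MulAut.conj_apply, hki]
    exact hti'
  · simp only [MonoidHom.comp_apply, MulEquiv.coe_toMonoidHom, MulAut.conj_apply, hks, ← hp]
    rcases hk with e | e
    · left; rw [← e]; congr 1; group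
    · right; rw [← e]; congr 1; group

end Cfsg.Agent.EightFour
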