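import Mathlib

/-!
# Facts about the symmetric group of degree six
-/

set_option autoImplicit false
set_option maxRecDepth 100000
set_option synthInstance.maxSize 10000

namespace Cfsg.Agent.EightFour

/-- Permutations of six points. -/
abbrev S6 : Type := Equiv.Perm (Fin 6)

/-- The three classes of involutions. -/
def invReps : List S6 :=
  [Equiv.swap 0 1, Equiv.swap 0 1 * Equiv.swap 2 3, Equiv.swap 0 1 * Equiv.swap 2 3 * Equiv.swap 4 5]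

/-- The two classes of elements of order three. -/
def threeReps : List S6 :=
  [Equiv.swap 0 1 * Equiv.swap 1 2, Equiv.swap 0 1 * Equiv.swap 1 2 * (Equiv.swap 3 4 * Equiv.swap 4 5)]

/-- Conjugating elements used as witnesses. -/
def witnesses : List S6 :=
  [Equiv.swap 0 1 * Equiv.swap 2 4 * Equiv.swap 3 5 * Equiv.swap 4 5,
   Equiv.swap 0 5 * Equiv.swap 1 4,
   Equiv.swap 0 5 * Equiv.swap 3 4,
   Equiv.swap 0 3 * Equiv.swap 1 4 * Equiv.swap 2 5,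
   Equiv.swap 1 5 * Equiv.swap 3 4,
   Equiv.swap 0 5 * Equiv.swap 2 5 * Equiv.swap 4 5,
   Equiv.swap 0 3 * Equiv.swap 2 3 * Equiv.swap 3 4 * Equiv.swap 4 5,
   Equiv.swap 0 4 * Equiv.swap 1 3 * Equiv.swap 2 5 * Equiv.swap 4 5,
   Equiv.swap 0 3 * Equiv.swap 1 5 * Equiv.swap 2 4 * Equiv.swap 4 5,
   Equiv.swap 0 3 * Equiv.swap 2 4,
   Equiv.swap 0 5 * Equiv.swap 1 4 * Equiv.swap 2 3 * Equiv.swap 3 5,
   Equiv.swap 0 4 * Equiv.swap 1 5 * Equiv.swap 2 5 * Equiv.swap 3 5,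
   Equiv.swap 0 4 * Equiv.swap 1 5 * Equiv.swap 2 3 * Equiv.swap 3 5,
   Equiv.swap 0 1 * Equiv.swap 1 5 * Equiv.swap 2 3 * Equiv.swap 4 5,
   Equiv.swap 0 3 * Equiv.swap 1 3 * Equiv.swap 4 5,
   Equiv.swap 2 3 * Equiv.swap 4 5,
   Equiv.swap 1 5 * Equiv.swap 2 4,
   Equiv.swap 0 3 * Equiv.swap 1 3 * Equiv.swap 3 4,
   Equiv.swap 0 1 * Equiv.swap 2 5,
   Equiv.swap 0 2 * Equiv.swap 1 4 * Equiv.swap 3 4 * Equiv.swap 4 5,
   Equiv.swap 0 5 * Equiv.swap 1 4 * Equiv.swap 2 3,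
   Equiv.swap 0 3 * Equiv.swap 1 2 * Equiv.swap 3 5 * Equiv.swap 4 5,
   Equiv.swap 0 3 * Equiv.swap 1 5 * Equiv.swap 3 5]

/-- An element of order two. -/
def IsTwo (g : S6) : Prop := g * g = 1 ∧ g ≠ 1

instance (g : S6) : Decidable (IsTwo g) := inferInstanceAs (Decidable (_ ∧ _))

theorem five_gap_reps : ∀ x5 ∈ invReps, ∀ x6 : S6, IsTwo x6 → x5 ≠ x6 → (x5 * x6) ^ 3 = 1 →
    ∀ x3 : S6, IsTwo x3 → x3 * x5 = x5 * x3 → x3 * x6 = x6 * x3 →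
    ∀ x4 : S6, IsTwo x4 → x4 * x6 = x6 * x4 → x3 ≠ x4 → x4 ≠ x5 → (x3 * x4) ^ 3 = 1 →
      (x4 * x5) ^ 3 = 1 →
    ∀ a : S6, IsTwo a → a * x5 = x5 * a → a * x6 = x6 * a → a ≠ x3 → (a * x3) ^ 3 = 1 →
      a * x4 = x4 * a ∨ x3 * a * x3 * x4 = x4 * (x3 * a * x3) := by
  decide +kernel

/-- The configuration of two commuting elements of order three with two inverting involutions. -/
theorem frame_reps : ∀ Z ∈ threeReps, ∀ W : S6, W * Z = Z * W → W ^ 3 = 1 → W ≠ 1 → W ≠ Z → W ≠ Z⁻¹ →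
    ∀ U : S6, U * W = W * U → U * Z * U⁻¹ = Z⁻¹ → IsTwo U →
    ∀ R : S6, R * Z = Z * R → R * W * R⁻¹ = W⁻¹ → IsTwo R →
    ∃ g ∈ witnesses, g * U = U * g ∧ g * R * g⁻¹ * R = R * (g * R * g⁻¹) ∧
      g * R * g⁻¹ ≠ R ∧ g * R * g⁻¹ ≠ U ∧ g * R * g⁻¹ ≠ U * R ∧
      (∃ h ∈ witnesses, h * U * h⁻¹ = R ∧ h * (g * R * g⁻¹) = g * R * g⁻¹ * h) ∧
      (∃ k ∈ witnesses, k * (Z * W) * k⁻¹ * (U * R * (g * R * g⁻¹)) =
        U * R * (g * R * g⁻¹) * (k * (Z * W) * k⁻¹)) ∧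
      ∀ x : S6, x * U = U * x → x * R = R * x →
        x ∈ [1, U, R, U * R, g * R * g⁻¹, U * (g * R * g⁻¹), R * (g * R * g⁻¹), U * R * (g * R * g⁻¹)] := by
  decide +kernel

end Cfsg.Agent.EightFour
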