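import Cfsg.Agent.Lib.EightFour.Gap
import Cfsg.Agent.Lib.EightFour.Odd
import Cfsg.Agent.Lib.EightLocal.Order
import Cfsg.Agent.Lib.EightLocal.Ident

/-!
# The symmetric case
-/

set_option autoImplicit false
set_option linter.style.haveILetI false
set_option linter.unusedSectionVars false
set_option maxRecDepth 100000
set_option synthInstance.maxSize 10000

namespace Cfsg.Agent.EightFour

open Subgroup
open EightLocal (Pairs bisign)

/-- The pairs acting on eight points. -/
def emb8 : L →* S8 :=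
  finSumFinEquiv.permCongrHom.toMonoidHom.comp (Equiv.Perm.sumCongrHom (Fin 3) (Fin 5))

/-- The involution exchanging the two blocks of three. -/
def t8 : S8 := Equiv.swap 0 5 * Equiv.swap 1 6 * Equiv.swap 2 7

theorem emb8_facts : emb8 sL = adj8 0 ∧ emb8 s1L = adj8 1 ∧ emb8 iL = adj8 3 ∧ emb8 x4L = adj8 4 ∧
    emb8 qL = adj8 5 ∧ emb8 x6L = adj8 6 ∧ t8 * t8 = 1 ∧ t8 * emb8 zL * t8 = emb8 wL ∧
    t8 * emb8 wL * t8 = emb8 zL ∧ t8 * emb8 iL * t8 = emb8 iL ∧ t8 * emb8 sL * t8 = emb8 qL ∧
    adj8 3 * t8 = t8 * adj8 3 ∧ Equiv.Perm.sign (t8 * adj8 3) = 1 ∧ Equiv.Perm.sign (adj8 3) = -1 ∧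
    Equiv.Perm.sign (emb8 zL) = 1 ∧ emb8 zL ≠ 1 := by
  decide +kernel

theorem sign_emb8 : ∀ p : L, Equiv.Perm.sign (emb8 p) = bisign p := by decide +kernel

theorem pairs_facts : (∀ a, (EightLocal.emb (EightLocal.dK a) : L) = dL a) ∧
    (EightLocal.emb EightLocal.zK : L) = zL ∧ (EightLocal.emb EightLocal.wK : L) = wL ∧
    (EightLocal.emb EightLocal.yK : L) = zL * wL ∧ bisign iL = -1 := by
  decide +kernel

/-- Two points and six points. -/
def e26 : Fin 2 ⊕ Fin 6 ≃ Fin 8 where
  toFun := Sum.elim ![3, 4] ![0, 1, 2, 5, 6, 7]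
  invFun := ![Sum.inr 0, Sum.inr 1, Sum.inr 2, Sum.inl 0, Sum.inl 1, Sum.inr 3, Sum.inr 4, Sum.inr 5]
  left_inv := by decide
  right_inv := by decide

/-- The centralizer of a transposition. -/
def emb26 : Equiv.Perm (Fin 2) × Equiv.Perm (Fin 6) →* S8 :=
  e26.permCongrHom.toMonoidHom.comp (Equiv.Perm.sumCongrHom (Fin 2) (Fin 6))

theorem emb26_injective : Function.Injective emb26 :=
  e26.permCongrHom.injective.comp Equiv.Perm.sumCongrHom_injective

theorem emb26_swap : emb26 (Equiv.swap 0 1, 1) = adj8 3 := by decide +kernel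

theorem emb26_comm (x : Equiv.Perm (Fin 2) × Equiv.Perm (Fin 6)) : emb26 x * adj8 3 = adj8 3 * emb26 x := by
  rw [← emb26_swap, ← map_mul, ← map_mul]
  congr 1
  have key : ∀ a : Equiv.Perm (Fin 2), a * Equiv.swap 0 1 = Equiv.swap 0 1 * a := by decide
  exact Prod.ext (key x.1) (by simp)

/-- The involutions up to conjugation, each with a commuting element of order three. -/
def invThree : List (S8 × S8) :=
  [(Equiv.swap 0 1, Equiv.swap 2 3 * Equiv.swap 3 4),
    (Equiv.swap 0 1 * Equiv.swap 2 3, Equiv.swap 4 5 * Equiv.swap 5 6),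
    (Equiv.swap 0 1 * Equiv.swap 2 3 * Equiv.swap 4 5,
      Equiv.swap 0 2 * Equiv.swap 2 4 * (Equiv.swap 1 3 * Equiv.swap 3 5)),
    (Equiv.swap 0 1 * Equiv.swap 2 3 * Equiv.swap 4 5 * Equiv.swap 6 7,
      Equiv.swap 0 2 * Equiv.swap 2 4 * (Equiv.swap 1 3 * Equiv.swap 3 5))]

theorem invThree_spec : (∀ p ∈ invThree, p.2 ^ 3 = 1 ∧ p.2 ≠ 1 ∧ p.2 * p.1 = p.1 * p.2 ∧
      p.1 * p.1 = 1 ∧ p.1 ≠ 1) ∧ invThree.map (fun p => p.1.support.card) = [2, 4, 6, 8] := by
  refine ⟨?_, by decide +kernel⟩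
  simp only [invThree, List.forall_mem_cons, List.not_mem_nil, false_imp_iff, implies_true, and_true]
  refine ⟨?_, ?_, ?_, ?_⟩ <;> decide +kernel

theorem type_two (σ : S8) (h2 : σ * σ = 1) (h1 : σ ≠ 1) :
    ∃ n, σ.cycleType = Multiset.replicate n 2 ∧ σ.support.card = n * 2 ∧ 1 ≤ n ∧ n ≤ 4 := by
  haveI : Fact (Nat.Prime 2) := ⟨Nat.prime_two⟩
  have ho : orderOf σ = 2 := orderOf_eq_prime (by rw [pow_two, h2]) h1
  obtain ⟨n, hn⟩ := Equiv.Perm.cycleType_prime_order (σ := σ) (by rw [ho]; exact Nat.prime_two)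
  rw [ho] at hn
  have h := Equiv.Perm.sum_cycleType σ
  have h8 := Finset.card_le_univ σ.support
  rw [hn, Multiset.sum_replicate, smul_eq_mul] at h
  rw [Fintype.card_fin] at h8
  exact ⟨n + 1, hn, h.symm, by omega, by omega⟩

theorem three_commuting (σ : S8) (h2 : σ * σ = 1) (h1 : σ ≠ 1) :
    ∃ d : S8, d ^ 3 = 1 ∧ d ≠ 1 ∧ d * σ = σ * d := by
  obtain ⟨n, hn, hcard, hn1, hn4⟩ := type_two σ h2 h1
  obtain ⟨hd, hc⟩ := invThree_spec
  have hmem : σ.support.card ∈ invThree.map (fun p => p.1.support.card) := by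
    rw [hc, hcard]
    interval_cases n <;> simp
  obtain ⟨p, hp, e⟩ := List.mem_map.1 hmem
  obtain ⟨d3, d1, dc, p2, p1⟩ := hd p hp
  obtain ⟨m, hm, hmcard, -, -⟩ := type_two p.1 p2 p1
  obtain ⟨c, rfl⟩ := isConj_iff.1 (Equiv.Perm.isConj_of_cycleType_eq
    (show p.1.cycleType = σ.cycleType by rw [hm, hn]; congr 1; omega))
  refine ⟨c * p.2 * c⁻¹, by rw [conj_pow, d3, mul_one, mul_inv_cancel],
    fun e => d1 (conj_eq_one_iff.1 e), ?_⟩
  calc c * p.2 * c⁻¹ * (c * p.1 * c⁻¹) = c * (p.2 * p.1) * c⁻¹ := by group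
    _ = c * (p.1 * p.2) * c⁻¹ := by rw [dc]
    _ = _ := by group

variable {G : Type*} [Group G] [Finite G]

/-- An element outside a subgroup of index two halves a subgroup containing it. -/
theorem half {G0 C : Subgroup G} (h2 : G0.index = 2) {i : G} (hi : i ∉ G0) (hiC : i ∈ C) :
    2 * Nat.card (G0 ⊓ C : Subgroup G) = Nat.card C := by
  let f : (G0 ⊓ C : Subgroup G) × Bool → C := fun x =>
    ⟨(x.1 : G) * (if x.2 then i else 1), mul_mem x.1.2.2 (by split_ifs <;> [exact hiC; exact one_mem _])⟩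
  have hf : Function.Bijective f := by
    refine ⟨?_, fun c => ?_⟩
    · rintro ⟨x, a⟩ ⟨y, b⟩ e
      have e' : (x : G) * (if a then i else 1) = (y : G) * (if b then i else 1) := congrArg Subtype.val e
      cases a <;> cases b <;> simp only [Bool.false_eq_true, if_false, if_true, mul_one] at e'
      · rw [Subtype.ext e']
      · have hx : (x : G) ∈ G0 := (Subgroup.mem_inf.1 x.2).1
        rw [e'] at hx
        exact absurd ((G0.mul_mem_cancel_left (Subgroup.mem_inf.1 y.2).1).1 hx) hi
      · have hy : (y : G) ∈ G0 := (Subgroup.mem_inf.1 y.2).1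
        rw [← e'] at hy
        exact absurd ((G0.mul_mem_cancel_left (Subgroup.mem_inf.1 x.2).1).1 hy) hi
      · rw [Subtype.ext (mul_right_cancel e')]
    · by_cases hc : (c : G) ∈ G0
      · exact ⟨(⟨c, hc, c.2⟩, false), Subtype.ext (by simp [f])⟩
      · have hm : (c : G) * i⁻¹ ∈ G0 := by
          rw [mul_mem_iff_of_index_two h2, inv_mem_iff]
          exact iff_of_false hc hi
        exact ⟨(⟨(c : G) * i⁻¹, Subgroup.mem_inf.2 ⟨hm, mul_mem c.2 (inv_mem hiC)⟩⟩, true),
          Subtype.ext (by simp [f])⟩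
  rw [← Nat.card_eq_of_bijective f hf, Nat.card_prod, mul_comm, Nat.card_eq_fintype_card (α := Bool),
    Fintype.card_bool]

variable {P : Sylow 3 G} {φ : L →* G} {t : G}

namespace Frame

variable (D : Frame P φ t)
include D

theorem exists_f
    [hcn : ((centralizer ((P : Subgroup G) : Set G)).subgroupOf
      (normalizer ((P : Subgroup G) : Set G))).Normal]
    (eNC : normalizer ((P : Subgroup G) : Set G) ⧸ (centralizer ((P : Subgroup G) : Set G)).subgroupOf
      (normalizer ((P : Subgroup G) : Set G)) ≃* DihedralGroup 4)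
    (hS : t * φ sL * t = φ qL) :
    ∃ f : S8 →* G, Function.Injective f ∧ f.comp emb8 = φ := by
  obtain ⟨h11, hbb, h44, h66, p01, p56, p45, p34, p6b, pbi, c04, c06, c13, c14, c15, c16, c35, c36, c46,
    cqb, cbs, cb1, -, -⟩ := chain_facts
  obtain ⟨hss, hqq, hii, -, -, -, -, -, csi, csq, -⟩ := small_facts
  -- choose the exchanging involution
  obtain ⟨t', D', hS', hgap⟩ : ∃ t', Frame P φ t' ∧ t' * φ sL * t' = φ qL ∧
      t' * φ bL * t' * φ x4L = φ x4L * (t' * φ bL * t') := by
    rcases D.gap eNC hS with h | h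
    · exact ⟨t, D, hS, h⟩
    · have hti : t * φ iL = φ iL * t := by
        conv_rhs => rw [← D.ti]
        rw [mul_assoc, D.t2, mul_one]
      refine ⟨t * φ iL, D.twist, ?_, ?_⟩
      · calc t * φ iL * φ sL * (t * φ iL) = t * φ iL * φ sL * (φ iL * t) := by rw [hti]
          _ = t * φ (sL * iL * iL) * t := by rw [csi, map_mul, map_mul]; group
          _ = φ qL := by rw [mul_assoc sL, hii, mul_one, hS]
      · have e : t * φ iL * φ bL * (t * φ iL) = φ iL * (t * φ bL * t) * φ iL := by
          calc t * φ iL * φ bL * (t * φ iL) = φ iL * t * φ bL * (t * φ iL) := by rw [← hti]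
            _ = _ := by group
        rw [e]; exact h
  obtain ⟨t1, tq, t6⟩ := D'.ts_one hS'
  have hp : ∀ p q : L, p * q = q * p → φ p * φ q = φ q * φ p := fun p q e => by rw [← map_mul, e, map_mul]
  have h3 : ∀ p q : L, (p * q) ^ 3 = 1 → (φ p * φ q) ^ 3 = 1 := fun p q e => by
    rw [← map_mul, ← map_pow, e, map_one]
  have tp : ∀ p q : L, p * q = q * p → t' * φ p * t' * (t' * φ q * t') = t' * φ q * t' * (t' * φ p * t') :=
    fun p q e => by rw [← D'.tmul, ← D'.tmul, ← map_mul, e, map_mul]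
  have t3 : ∀ p q : L, (p * q) ^ 3 = 1 → (t' * φ p * t' * (t' * φ q * t')) ^ 3 = 1 := fun p q e => by
    rw [← D'.tmul, ← D'.tpow, h3 p q e, mul_one, D'.t2]
  set a := t' * φ bL * t' with ha
  obtain ⟨f, hf⟩ := exists_hom8 ![φ sL, φ s1L, a, φ iL, φ x4L, φ qL, φ x6L]
    (by
      intro i
      fin_cases i
      · show φ sL * φ sL = 1; rw [← map_mul, hss, map_one]
      · show φ s1L * φ s1L = 1; rw [← map_mul, h11, map_one]
      · show a * a = 1; rw [ha, ← D'.tmul, ← map_mul, hbb, map_one, mul_one, D'.t2]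
      · show φ iL * φ iL = 1; rw [← map_mul, hii, map_one]
      · show φ x4L * φ x4L = 1; rw [← map_mul, h44, map_one]
      · show φ qL * φ qL = 1; rw [← map_mul, hqq, map_one]
      · show φ x6L * φ x6L = 1; rw [← map_mul, h66, map_one])
    (by
      intro i j hij
      fin_cases i <;> fin_cases j <;> simp at hij
      · exact h3 _ _ p01
      · show (φ s1L * a) ^ 3 = 1; rw [← t6]; exact t3 _ _ p6b
      · show (a * φ iL) ^ 3 = 1; rw [← D'.ti]; exact t3 _ _ pbi
      · exact h3 _ _ p34
      · exact h3 _ _ p45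
      · exact h3 _ _ p56)
    (by
      intro i j hij
      fin_cases i <;> fin_cases j <;> simp at hij
      · show φ sL * a = a * φ sL; rw [← tq]; exact tp _ _ cqb
      · exact hp _ _ csi
      · exact hp _ _ c04
      · exact hp _ _ csq
      · exact hp _ _ c06
      · exact hp _ _ c13
      · exact hp _ _ c14
      · exact hp _ _ c15
      · exact hp _ _ c16
      · exact hgap
      · show a * φ qL = φ qL * a; rw [← hS']; exact tp _ _ cbs
      · show a * φ x6L = φ x6L * a; rw [← t1]; exact tp _ _ cb1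
      · exact hp _ _ c35
      · exact hp _ _ c36
      · exact hp _ _ c46)
  have he := emb8_facts
  have g1 : (f.comp emb8).comp (MonoidHom.inl _ _) = φ.comp (MonoidHom.inl _ _) := by
    refine hom_ext_swaps fun k => ?_
    fin_cases k
    · show f (emb8 sL) = φ sL; rw [he.1]; exact hf 0
    · show f (emb8 s1L) = φ s1L; rw [he.2.1]; exact hf 1
  have g2 : (f.comp emb8).comp (MonoidHom.inr _ _) = φ.comp (MonoidHom.inr _ _) := by
    refine hom_ext_swaps fun k => ?_
    fin_cases k
    · show f (emb8 iL) = φ iL; rw [he.2.2.1]; exact hf 3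
    · show f (emb8 x4L) = φ x4L; rw [he.2.2.2.1]; exact hf 4
    · show f (emb8 qL) = φ qL; rw [he.2.2.2.2.1]; exact hf 5
    · show f (emb8 x6L) = φ x6L; rw [he.2.2.2.2.2.1]; exact hf 6
  have hfe : f.comp emb8 = φ := MonoidHom.ext fun p => by
    rw [show p = MonoidHom.inl _ _ p.1 * MonoidHom.inr _ _ p.2 from Prod.ext (by simp) (by simp), map_mul, map_mul]
    exact congr_arg₂ (· * ·) (DFunLike.congr_fun g1 p.1) (DFunLike.congr_fun g2 p.2)
  refine ⟨f, injective8 (a := emb8 zL) (Equiv.Perm.mem_alternatingGroup.2 he.2.2.2.2.2.2.2.2.2.2.2.2.2.2.1) ?_, hfe⟩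
  rw [show f (emb8 zL) = φ zL from DFunLike.congr_fun hfe zL]
  exact fun e => small_facts.2.2.2.2.2.2.2.2.2.2.2.2.2.2.1 (D.inj (e.trans (map_one φ).symm))

set_option maxHeartbeats 1000000 in
/-- The symmetric case. -/
theorem sym8
    [hcn : ((centralizer ((P : Subgroup G) : Set G)).subgroupOf
      (normalizer ((P : Subgroup G) : Set G))).Normal]
    (eNC : normalizer ((P : Subgroup G) : Set G) ⧸ (centralizer ((P : Subgroup G) : Set G)).subgroupOf
      (normalizer ((P : Subgroup G) : Set G)) ≃* DihedralGroup 4)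
    (hS : t * φ sL * t = φ qL) : Nonempty (G ≃* S8) := by
  obtain ⟨f, hfi, hfe⟩ := D.exists_f eNC hS
  obtain ⟨e0, e1, e3, e4, e5, e6, ht2, htz, htw, hti, hts, h3t, hst3, hs3, hsz, -⟩ := emb8_facts
  have hφf : ∀ p, φ p = f (emb8 p) := fun p => (DFunLike.congr_fun hfe p).symm
  -- new coordinates
  have D' : Frame P φ (f t8) := by
    refine ⟨D.inj, D.sylow, D.normz, D.cardY, D.normY, D.cardN, by rw [← map_mul, ht2, map_one], ?_, ?_, ?_,
      Or.inl ?_⟩ <;> simp only [hφf, ← map_mul]
    · rw [htz]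
    · rw [htw]
    · rw [hti]
    · rw [hts]
  have hfN : ∀ n ∈ normalizer ((P : Subgroup G) : Set G), n ∈ f.range := fun n hn => by
    obtain ⟨p, -, rfl | rfl⟩ := D'.norm_P hn <;> rw [hφf]
    exacts [⟨_, rfl⟩, ⟨t8 * emb8 p, map_mul f _ _⟩]
  have hiL : φ iL = f (adj8 3) := by rw [hφf, e3]
  -- the centralizer of `i`
  have hCi : ∀ g, g * φ iL = φ iL * g → g ∈ f.range := by
    let j : Equiv.Perm (Fin 2) × Equiv.Perm (Fin 6) →* centralizer ({φ iL} : Set G) :=
      (f.comp emb26).codRestrict _ fun x => mem_centralizer_singleton_iff.2 (by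
        rw [hiL, MonoidHom.comp_apply, ← map_mul, emb26_comm, map_mul])
    have hj : Function.Injective j := fun x y e => emb26_injective (hfi (congrArg Subtype.val e))
    have hcard : Nat.card (Equiv.Perm (Fin 2) × Equiv.Perm (Fin 6)) = 1440 := by
      rw [Nat.card_prod, Nat.card_perm, Nat.card_perm, Nat.card_eq_fintype_card, Nat.card_eq_fintype_card,
        Fintype.card_fin, Fintype.card_fin]
      rfl
    intro g hg
    rcases D.cent_i eNC with hN | ⟨ψ, hψ, hk⟩
    · exact hfN g (hN g hg)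
    · have hker : Nat.card ψ.ker = 2 := by
        let a : ψ.ker := ⟨1, one_mem _⟩
        let b : ψ.ker := ⟨⟨φ iL, mem_centralizer_singleton_iff.2 rfl⟩, (hk _).2 (Or.inr rfl)⟩
        rw [Nat.card_eq_two_iff]
        refine ⟨a, b, fun e => D.i_ne (congrArg (fun x : ψ.ker => ((x : centralizer ({φ iL} : Set G)) : G)) e).symm,
          Set.eq_univ_of_forall fun x => ?_⟩
        rcases (hk _).1 x.2 with e | e
        · exact Or.inl (Subtype.ext (Subtype.ext e))
        · exact Or.inr (Subtype.ext (Subtype.ext e))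
      have hC : Nat.card (centralizer ({φ iL} : Set G)) = 1440 := by
        rw [ψ.ker.card_eq_card_quotient_mul_card_subgroup, hker,
          Nat.card_congr (QuotientGroup.quotientKerEquivOfSurjective ψ hψ).toEquiv, Nat.card_perm,
          Nat.card_eq_fintype_card, Fintype.card_fin]
        rfl
      obtain ⟨x, hx⟩ := ((Nat.bijective_iff_injective_and_card j).2 ⟨hj, hcard.trans hC.symm⟩).2
        ⟨g, mem_centralizer_singleton_iff.2 hg⟩
      exact ⟨emb26 x, congrArg Subtype.val hx⟩
  have B : Big φ (f t8) f.range := by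
    refine ⟨?_, ⟨t8, rfl⟩, hCi, ?_⟩
    · rintro _ ⟨p, rfl⟩
      exact ⟨_, (hφf p).symm⟩
    · rintro _ ⟨σ, rfl⟩ ⟨g, hg⟩
      have hii : φ iL * φ iL = 1 := by rw [← map_mul, small_facts.2.2.1, map_one]
      obtain ⟨d, d3, d1, dc⟩ := three_commuting σ
        (hfi (by
          rw [map_mul, map_one, ← hg, show g * φ iL * g⁻¹ * (g * φ iL * g⁻¹) = g * (φ iL * φ iL) * g⁻¹ by group,
            hii, mul_one, mul_inv_cancel]))
        (fun e => D.i_ne (conj_eq_one_iff.1 (hg.trans (by rw [e, map_one]))))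
      exact ⟨f d, ⟨d, rfl⟩, by rw [← map_pow, d3, map_one], fun e => d1 (hfi (e.trans (map_one f).symm)),
        by rw [← map_mul, dc, map_mul]⟩
  -- the subgroup of index two
  set K := (alternatingGroup (Fin 8)).map f with hK
  have hiK : φ iL ∉ K := by
    rintro ⟨σ, hσ, e⟩
    rw [hiL] at e
    rw [hfi e, SetLike.mem_coe, Equiv.Perm.mem_alternatingGroup, hs3] at hσ
    exact absurd hσ (by decide)
  have hrel : K.relIndex f.range = 2 := by
    rw [MonoidHom.range_eq_map, hK, relIndex_map_map_of_injective _ _ hfi, relIndex_top_right]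
    exact alternatingGroup.index_eq_two
  obtain ⟨G0, hG0, hiG0⟩ := D'.exists_index_two B (by rw [hK, MonoidHom.range_eq_map]; exact map_mono le_top)
    hrel hiK
  have hcube : ∀ x : G, x ^ 3 = 1 → x ∈ G0 := fun x hx => by
    have := sq_mem_of_index_two hG0 (x ^ 2)
    rwa [← pow_mul, show 2 * 2 = 3 + 1 from rfl, pow_add, hx, one_mul, pow_one] at this
  have heven : ∀ σ : S8, f σ ∈ G0 ↔ Equiv.Perm.sign σ = 1 := by
    have hA : ∀ σ ∈ alternatingGroup (Fin 8), f σ ∈ G0 := by
      intro σ hσ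
      rw [← Equiv.Perm.closure_three_cycles_eq_alternating] at hσ
      induction hσ using Subgroup.closure_induction with
      | mem y hy => exact hcube _ (by rw [← map_pow, ← hy.orderOf, pow_orderOf_eq_one, map_one])
      | one => rw [map_one]; exact one_mem _
      | mul a b _ _ ha hb => rw [map_mul]; exact mul_mem ha hb
      | inv a _ ha => rw [map_inv]; exact inv_mem ha
    intro σ
    refine ⟨fun h => ?_, fun h => hA σ (Equiv.Perm.mem_alternatingGroup.2 h)⟩
    by_contra h1
    have h' := hA (σ * adj8 3) (Equiv.Perm.mem_alternatingGroup.2 (by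
      rw [map_mul, hs3, (Int.units_eq_one_or _).resolve_left h1]; decide))
    rw [map_mul, mul_mem_cancel_left h, ← hiL] at h'
    exact hiG0 h'
  have hJeven : ∀ p : L, φ p ∈ G0 ↔ bisign p = 1 := fun p => by rw [hφf, heven, sign_emb8]
  -- the coordinates inside the subgroup
  have hPG0 : (P : Subgroup G) ≤ G0 := fun x hx => hcube x (D.exp hx)
  let φ0 : Pairs →* G0 := (φ.comp (Subgroup.subtype _)).codRestrict _ fun p =>
    (hJeven _).2 (MonoidHom.mem_ker.1 p.2)
  set t0 : G0 := ⟨f (t8 * adj8 3), (heven _).2 hst3⟩ with ht0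
  obtain ⟨pd, pz, pw, py, hbi⟩ := pairs_facts
  have hJ : ∀ k, ((EightLocal.J φ0 k : G0) : G) = φ (EightLocal.emb k : L) := fun k => rfl
  have hcentcard : ∀ x : G0, φ iL * (x : G) = (x : G) * φ iL →
      2 * Nat.card (centralizer ({x} : Set G0)) = Nat.card (centralizer ({(x : G)} : Set G)) := by
    intro x hx
    rw [← half hG0 hiG0 (mem_centralizer_singleton_iff.2 hx)]
    congr 1
    exact Nat.card_congr
      { toFun := fun c => ⟨((c : G0) : G), (c : G0).2,
          mem_centralizer_singleton_iff.2 (congrArg Subtype.val (mem_centralizer_singleton_iff.1 c.2))⟩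
        invFun := fun c => ⟨⟨c, c.2.1⟩,
          mem_centralizer_singleton_iff.2 (Subtype.ext (mem_centralizer_singleton_iff.1 c.2.2))⟩
        left_inv := fun c => rfl
        right_inv := fun c => rfl }
  have hnormP : ∀ g : G0, g ∈ normalizer ((P.subtype hPG0 : Subgroup G0) : Set G0) ↔
      (g : G) ∈ normalizer ((P : Subgroup G) : Set G) := by
    intro g
    simp only [mem_normalizer_iff]
    constructor
    · intro h x
      constructor
      · exact fun hx => (h ⟨x, hPG0 hx⟩).1 hx
      · intro hx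
        have hxG : x ∈ G0 := by
          have := mul_mem (mul_mem (inv_mem g.2) (hPG0 hx)) g.2
          rwa [show (g : G)⁻¹ * ((g : G) * x * (g : G)⁻¹) * g = x by group] at this
        exact (h ⟨x, hxG⟩).2 hx
    · exact fun h x => h x
  have D0 : EightLocal.Data (P.subtype hPG0) φ0 t0 := by
    refine ⟨fun p q e => Subtype.ext (D.inj (congrArg Subtype.val e)), ?_, ?_, ?_, ?_, ?_, ?_, ?_, ?_⟩
    · intro g
      refine (D.sylow (g : G)).trans (exists_congr fun a => ?_)
      rw [← Subtype.coe_inj, hJ, pd]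
    · intro g hg
      obtain ⟨p, hp⟩ := D.normz (g : G) (by
        rw [mem_normalizer_iff]
        intro x
        have hz : φ zL = ((EightLocal.J φ0 EightLocal.zK : G0) : G) := by rw [hJ, pz]
        have key : ∀ y : G0, (y : G) ∈ zpowers (φ zL) ↔ y ∈ zpowers (EightLocal.J φ0 EightLocal.zK) := by
          intro y
          rw [hz]
          simp only [mem_zpowers_iff]
          exact exists_congr fun k => by rw [← Subgroup.coe_zpow, Subtype.coe_inj]
        have hsub : ∀ y ∈ zpowers (φ zL), y ∈ G0 := fun y hy => by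
          refine (zpowers_le.2 ?_) hy
          rw [hz]; exact Subtype.property _
        constructor
        · exact fun hx => (key ⟨(g : G) * x * (g : G)⁻¹, mul_mem (mul_mem g.2 (hsub x hx)) (inv_mem g.2)⟩).2
            ((mem_normalizer_iff.1 hg ⟨x, hsub x hx⟩).1 ((key ⟨x, hsub x hx⟩).1 hx))
        · intro hx
          have hxG : x ∈ G0 := by
            have := mul_mem (mul_mem (inv_mem g.2) (hsub _ hx)) g.2
            rwa [show (g : G)⁻¹ * ((g : G) * x * (g : G)⁻¹) * g = x by group] at this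
          exact (key ⟨x, hxG⟩).2 ((mem_normalizer_iff.1 hg ⟨x, hxG⟩).2
            ((key (g * ⟨x, hxG⟩ * g⁻¹)).1 hx)))
      exact ⟨⟨p, MonoidHom.mem_ker.2 ((hJeven p).1 (hp.symm ▸ g.2))⟩, Subtype.ext hp⟩
    · have := hcentcard (EightLocal.J φ0 EightLocal.zK) (by
        rw [hJ, pz, ← map_mul, small_facts.2.2.2.2.2.2.2.2.2.2.2.2.2.2.2.2.2.2.1, map_mul])
      rw [hJ, pz, D.cardz] at this
      omega
    · have := hcentcard (EightLocal.J φ0 EightLocal.yK) (by
        rw [hJ, py, ← map_mul]
        conv_rhs => rw [← map_mul]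
        exact congrArg φ (by decide +kernel))
      rw [hJ, py, D.cardY] at this
      omega
    · intro g hg
      refine (hnormP g).2 (D.normY _ (mem_centralizer_singleton_iff.2 ?_))
      rw [← py, ← hJ]
      exact congrArg Subtype.val (mem_centralizer_singleton_iff.1 hg)
    · refine Subtype.ext ?_
      simp only [ht0, Subgroup.coe_mul, Subgroup.coe_one, ← map_mul]
      refine Eq.trans (congrArg f ?_) (map_one f)
      rw [mul_assoc, ← mul_assoc (adj8 3), h3t, mul_assoc t8 (adj8 3), Equiv.swap_mul_self, mul_one, ht2]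
    · refine Subtype.ext ?_
      simp only [ht0, Subgroup.coe_mul, hJ, pz, pw, hφf, ← map_mul]
      exact congrArg f (by decide +kernel)
    · refine Subtype.ext ?_
      simp only [ht0, Subgroup.coe_mul, hJ, pz, pw, hφf, ← map_mul]
      exact congrArg f (by decide +kernel)
  have hN72 : Nat.card (normalizer ((P.subtype hPG0 : Subgroup G0) : Set G0)) = 72 := by
    have h := half hG0 hiG0 (C := normalizer ((P : Subgroup G) : Set G))
      (D.normP_mem (by decide +kernel))
    rw [D.cardN, ← Nat.card_congr (α := normalizer ((P.subtype hPG0 : Subgroup G0) : Set G0))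
      (β := (G0 ⊓ normalizer ((P : Subgroup G) : Set G) : Subgroup G))
      { toFun := fun c => ⟨((c : G0) : G), (c : G0).2, (hnormP _).1 c.2⟩
        invFun := fun c => ⟨⟨c, c.2.1⟩, (hnormP _).2 c.2.2⟩
        left_inv := fun c => rfl
        right_inv := fun c => rfl }] at h
    omega
  obtain ⟨hn, -⟩ := D0.main hN72
  let fA : alternatingGroup (Fin 8) →* G0 :=
    (f.comp (alternatingGroup (Fin 8)).subtype).codRestrict _ fun σ =>
      (heven _).2 (Equiv.Perm.mem_alternatingGroup.1 σ.2)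
  have hdvd := card_dvd_of_injective fA fun x y e => Subtype.ext (hfi (congrArg Subtype.val e))
  have h8 : Nat.card S8 = 40320 := by
    rw [Nat.card_eq_fintype_card, Fintype.card_perm, Fintype.card_fin]; rfl
  have hA : Nat.card (alternatingGroup (Fin 8)) = 20160 := by
    have h := two_mul_nat_card_alternatingGroup (α := Fin 8)
    rw [h8] at h
    omega
  have hG : Nat.card G = Nat.card S8 := by
    have := G0.index_mul_card
    rw [hG0] at this
    rcases hn with h | h
    · rw [h] at this; rw [h8]; omega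
    · rw [hA, h] at hdvd
      norm_num at hdvd
  exact ⟨(MulEquiv.ofBijective f ((Nat.bijective_iff_injective_and_card f).2 ⟨hfi, hG.symm⟩)).symm⟩

end Frame

end Cfsg.Agent.EightFour
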